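import Mathlib

set_option autoImplicit false
set_option linter.all false

/-!
# Small coprime action lemmas, elementwise, seat helper23
-/

namespace Cfsg.Agent.H23

open Subgroup

variable {G : Type*} [Group G]

/-- A `p'`-element `y` centralizing the `p`-group `X0` and acting trivially on `X / X0` centralizes `X`. -/
theorem commute_of_act {p : ℕ} {X X0 : Subgroup G} (hX : IsPGroup p X0) {y : G} (hyo : (orderOf y).Coprime p)
    (h0 : ∀ x ∈ X0, y * x = x * y) (h : ∀ x ∈ X, y * x * y⁻¹ * x⁻¹ ∈ X0) : ∀ x ∈ X, y * x = x * y := by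
  intro x hx
  set c := y * x * y⁻¹ * x⁻¹ with hc
  have hcX := h x hx
  rw [← hc] at hcX
  have hyc := h0 c hcX
  have hcom : Commute y c := hyc
  have h4 : ∀ n : ℕ, y ^ n * x * (y ^ n)⁻¹ = c ^ n * x := by
    intro n
    induction n with
    | zero => simp
    | succ n ih =>
      have e1 : y ^ (n + 1) * x * (y ^ (n + 1))⁻¹ = y * (y ^ n * x * (y ^ n)⁻¹) * y⁻¹ := by
        rw [pow_succ']; group
      rw [e1, ih]
      have e2 : y * (c ^ n * x) * y⁻¹ = (y * c ^ n * y⁻¹) * (y * x * y⁻¹) := by group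
      have e3 : y * c ^ n * y⁻¹ = c ^ n := by
        rw [(hcom.pow_right n).eq]; group
      have e4 : y * x * y⁻¹ = c * x := by rw [hc]; group
      rw [e2, e3, e4, ← mul_assoc, ← pow_succ]
  have h5 := h4 (orderOf y)
  rw [pow_orderOf_eq_one, one_mul, inv_one, mul_one] at h5
  have h6 : c ^ orderOf y = 1 := by
    have := h5.symm
    exact mul_eq_right.mp this
  obtain ⟨j, hj⟩ := hX ⟨c, hcX⟩
  have hj' : c ^ p ^ j = 1 := congrArg Subtype.val hj
  have h7 : orderOf c ∣ 1 := by
    have e1 := orderOf_dvd_of_pow_eq_one h6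
    have e2 := orderOf_dvd_of_pow_eq_one hj'
    have e3 : Nat.Coprime (orderOf y) (p ^ j) := Nat.Coprime.pow_right _ hyo
    rw [← Nat.Coprime.gcd_eq_one e3]
    exact Nat.dvd_gcd e1 e2
  have h8 : c = 1 := orderOf_eq_one_iff.mp (Nat.dvd_one.mp h7)
  have h9 : y * x * y⁻¹ * x⁻¹ = 1 := by rw [← hc, h8]
  calc y * x = (y * x * y⁻¹ * x⁻¹) * x * y := by group
    _ = x * y := by rw [h9, one_mul]

/-- An element of odd order normalizing a cyclic `2`-group centralizes it. -/
theorem commute_of_cyclic_two {D : Subgroup G} [Finite D] (hD : IsCyclic D) (h2 : IsPGroup 2 D) {y : G}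
    (hy : y ∈ normalizer (D : Set G)) (hyo : (orderOf y).Coprime 2) : ∀ x ∈ D, y * x = x * y := by
  haveI := hD
  set φ : MulAut D := D.normalizerMonoidHom ⟨y, hy⟩ with hφ
  have h3 : orderOf φ ∣ orderOf y := by
    have := orderOf_map_dvd D.normalizerMonoidHom ⟨y, hy⟩
    rwa [Subgroup.orderOf_mk] at this
  have h4 : orderOf φ ∣ Nat.card (MulAut D) := orderOf_dvd_natCard φ
  obtain ⟨k, hk⟩ := IsPGroup.iff_card.mp h2
  rw [IsCyclic.card_mulAut, hk] at h4
  have h5 : orderOf φ = 1 := by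
    rcases k with _ | k
    · rw [pow_zero, Nat.totient_one, Nat.dvd_one] at h4; exact h4
    · rw [Nat.totient_prime_pow Nat.prime_two (Nat.succ_pos k)] at h4
      have h6 : (orderOf φ).Coprime (2 ^ (k + 1 - 1) * (2 - 1)) := by
        rw [show 2 - 1 = 1 from rfl, mul_one]
        exact Nat.Coprime.pow_right _ (Nat.Coprime.coprime_dvd_left h3 hyo)
      exact Nat.Coprime.eq_one_of_dvd h6 h4
  intro x hx
  have h6 : φ = 1 := orderOf_eq_one_iff.mp h5
  have h7 : φ ⟨x, hx⟩ = ⟨x, hx⟩ := by rw [h6]; rfl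
  have h8 : y * x * y⁻¹ = x := congrArg Subtype.val h7
  calc y * x = y * x * y⁻¹ * y := by group
    _ = x * y := by rw [h8]

end Cfsg.Agent.H23
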