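import Mathlib

set_option autoImplicit false
set_option linter.all false

/-! # Vaughan-Lee's breadth theorem, group theoretic part -/

namespace Cfsg.Agent.H23.Breadth

open Subgroup
open scoped commutatorElement Pointwise

/-- three subgroups lemma modulo a normal subgroup -/
theorem three_le {G : Type*} [Group G] {A B C N : Subgroup G} [N.Normal] (h1 : ⁅(⁅B, C⁆ : Subgroup G), A⁆ ≤ N)
    (h2 : ⁅(⁅C, A⁆ : Subgroup G), B⁆ ≤ N) : ⁅(⁅A, B⁆ : Subgroup G), C⁆ ≤ N := by
  set f := QuotientGroup.mk' N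
  have key : ∀ {H : Subgroup G}, H ≤ N ↔ H.map f = ⊥ := by
    intro H
    rw [Subgroup.map_eq_bot_iff, QuotientGroup.ker_mk']
  rw [key, map_commutator, map_commutator] at h1 h2 ⊢
  exact commutator_commutator_eq_bot_of_rotate h1 h2

/-- the lower central series -/
abbrev Lc (H : Type*) [Group H] (n : ℕ) : Subgroup H := (⊤ : Subgroup H).lowerCentralSeries n

theorem lcs_comm (G : Type*) [Group G] (m : ℕ) : ∀ n, ⁅(⊤ : Subgroup G).lowerCentralSeries n, (⊤ : Subgroup G).lowerCentralSeries m⁆ ≤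
    (⊤ : Subgroup G).lowerCentralSeries (n + m + 1) := by
  induction m with
  | zero => intro n; exact le_rfl
  | succ m ih =>
    intro n
    rw [Subgroup.lowerCentralSeries_succ (⊤ : Subgroup G) m, commutator_comm]
    apply three_le
    · rw [commutator_comm ⊤, ← Subgroup.lowerCentralSeries_succ]
      have := ih (n + 1)
      rwa [show n + 1 + m + 1 = n + (m + 1) + 1 by ring] at this
    · have h1 := commutator_mono (ih n) (le_refl (⊤ : Subgroup G))
      rwa [← Subgroup.lowerCentralSeries_succ] at h1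

section
variable {H : Type*} [Group H]


theorem mem_Lc_zero (g : H) : g ∈ Lc H 0 := mem_top g

theorem Lc_succ (H : Type*) [Group H] (n : ℕ) : Lc H (n + 1) = ⁅Lc H n, ⊤⁆ := rfl

theorem Lc_one (H : Type*) [Group H] : Lc H 1 = _root_.commutator H := rfl

theorem mem_lcs_comm {n m : ℕ} {a b : H} (ha : a ∈ Lc H n) (hb : b ∈ Lc H m) : ⁅a, b⁆ ∈ Lc H (n + m + 1) :=
  lcs_comm H m n (commutator_mem_commutator ha hb)

theorem comm_of_lcs {c n m : ℕ} (hc : Lc H c = ⊥) (hnm : c ≤ n + m + 1) {a b : H} (ha : a ∈ Lc H n) (hb : b ∈ Lc H m) :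
    a * b = b * a := by
  have h1 := mem_lcs_comm ha hb
  have h2 : Lc H (n + m + 1) ≤ Lc H c := Subgroup.lowerCentralSeries_antitone _ hnm
  rw [hc] at h2
  exact commutatorElement_eq_one_iff_mul_comm.1 (mem_bot.1 (h2 h1))

/-- the fundamental identity: if `u = [y,g]` commutes with `x`, `v = [x,g]` commutes with `y`, `u`, and
`z = [x,y]` commutes with `u` and `v`, then `z` commutes with `g`. -/
theorem jacobi_elem {x y g : H} (hux : ⁅y, g⁆ * x = x * ⁅y, g⁆) (hvy : ⁅x, g⁆ * y = y * ⁅x, g⁆)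
    (huv : ⁅y, g⁆ * ⁅x, g⁆ = ⁅x, g⁆ * ⁅y, g⁆) (hzu : ⁅x, y⁆ * ⁅y, g⁆ = ⁅y, g⁆ * ⁅x, y⁆)
    (hzv : ⁅x, y⁆ * ⁅x, g⁆ = ⁅x, g⁆ * ⁅x, y⁆) : ⁅x, y⁆ * g = g * ⁅x, y⁆ := by
  have hyg : y * g = ⁅y, g⁆ * g * y := by rw [commutatorElement_def]; group
  have hxg : x * g = ⁅x, g⁆ * g * x := by rw [commutatorElement_def]; group
  set u := ⁅y, g⁆
  set v := ⁅x, g⁆
  have h1 : x * y * g = u * v * g * (x * y) := by
    calc x * y * g = x * (y * g) := by group
      _ = x * (u * g * y) := by rw [hyg]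
      _ = (x * u) * g * y := by group
      _ = (u * x) * g * y := by rw [hux]
      _ = u * (x * g) * y := by group
      _ = u * (v * g * x) * y := by rw [hxg]
      _ = u * v * g * (x * y) := by group
  have h2 : y * x * g = v * u * g * (y * x) := by
    calc y * x * g = y * (x * g) := by group
      _ = y * (v * g * x) := by rw [hxg]
      _ = (y * v) * g * x := by group
      _ = (v * y) * g * x := by rw [hvy]
      _ = v * (y * g) * x := by group
      _ = v * (u * g * y) * x := by rw [hyg]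
      _ = v * u * g * (y * x) := by group
  rw [huv] at h1
  have hz : ⁅x, y⁆ = (x * y) * (y * x)⁻¹ := by rw [commutatorElement_def]; group
  -- `z * (v u g) = (v u g) * z`
  have h3 : ⁅x, y⁆ * (v * u * g) = (v * u * g) * ⁅x, y⁆ := by
    rw [hz]
    have e1 : (y * x)⁻¹ * (v * u * g) = g * (y * x)⁻¹ := by
      rw [inv_mul_eq_iff_eq_mul, ← mul_assoc, h2]; group
    calc x * y * (y * x)⁻¹ * (v * u * g) = (x * y) * ((y * x)⁻¹ * (v * u * g)) := by group
      _ = (x * y) * (g * (y * x)⁻¹) := by rw [e1]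
      _ = (x * y * g) * (y * x)⁻¹ := by group
      _ = (v * u * g * (x * y)) * (y * x)⁻¹ := by rw [h1]
      _ = _ := by group
  set z := ⁅x, y⁆
  have h4 : v * u * (z * g) = v * u * (g * z) := by
    calc v * u * (z * g) = v * (u * z) * g := by group
      _ = v * (z * u) * g := by rw [hzu]
      _ = (v * z) * u * g := by group
      _ = (z * v) * u * g := by rw [hzv]
      _ = z * (v * u * g) := by group
      _ = v * u * g * z := h3
      _ = v * u * (g * z) := by group
  exact mul_left_cancel h4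

/-- the breadth of `[x, y]` is at most the breadth of `x` -/
theorem index_comm_le [Finite H] {c : ℕ} (hc : Lc H (c + 3) = ⊥) {x y : H} (hy : y ∈ Lc H c) :
    (centralizer ({⁅x, y⁆} : Set H)).index ≤ (centralizer ({x} : Set H)).index := by
  have htop : ∀ g : H, g ∈ Lc H 0 := mem_Lc_zero
  -- the homomorphism `w ↦ [x, w]` on `L (c+1)`
  let ψ : (Lc H (c + 1) : Subgroup H) →* H := MonoidHom.mk' (fun w => ⁅x, (w : H)⁆) (by
    intro a b
    have h1 : ⁅x, (b : H)⁆ * a = a * ⁅x, (b : H)⁆ := comm_of_lcs hc (by omega) (mem_lcs_comm (htop x) b.2) (a.2)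
    change x * (a * b) * x⁻¹ * (a * b : H)⁻¹ = x * a * x⁻¹ * (a : H)⁻¹ * (x * b * x⁻¹ * (b : H)⁻¹)
    have h2 : x * (a * b) * x⁻¹ * (a * b : H)⁻¹ = x * a * x⁻¹ * (⁅x, (b : H)⁆ * a * (a : H)⁻¹) * (a : H)⁻¹ := by
      rw [commutatorElement_def]; group
    rw [show x * (a * b) * x⁻¹ * (a * b : H)⁻¹ = x * a * x⁻¹ * ⁅x, (b : H)⁆ * (a : H)⁻¹ by
      rw [commutatorElement_def]; group]
    have h3 : ⁅x, (b : H)⁆ * (a : H)⁻¹ = (a : H)⁻¹ * ⁅x, (b : H)⁆ := by
      rw [eq_inv_mul_iff_mul_eq, ← mul_assoc, ← h1]; group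
    rw [mul_assoc (x * a * x⁻¹), h3, commutatorElement_def]; group)
  have hψk : ψ.ker = (centralizer ({x} : Set H)).subgroupOf (Lc H (c + 1)) := by
    ext w
    rw [MonoidHom.mem_ker, mem_subgroupOf, mem_centralizer_singleton_iff]
    change ⁅x, (w : H)⁆ = 1 ↔ _
    rw [commutatorElement_eq_one_iff_mul_comm]
    exact eq_comm
  -- the homomorphism `g ↦ [x, [y, g]]`
  have hyg : ∀ g : H, ⁅y, g⁆ ∈ Lc H (c + 1) := fun g => by
    have := mem_lcs_comm hy (htop g)
    rwa [add_zero] at this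
  let φ : H →* H := MonoidHom.mk' (fun g => ⁅x, ⁅y, g⁆⁆) (by
    intro a b
    have hb := hyg b
    have h1 : ⁅y, a * b⁆ = ⁅y, a⁆ * (⁅a, ⁅y, b⁆⁆ * ⁅y, b⁆) := by
      simp only [commutatorElement_def]; group
    have h2 : ⁅a, ⁅y, b⁆⁆ ∈ Lc H (c + 1) := by
      have := mem_lcs_comm (htop a) hb
      exact Subgroup.lowerCentralSeries_antitone _ (by omega) this
    have h3 : ψ ⟨⁅a, ⁅y, b⁆⁆, h2⟩ = 1 := by
      change ⁅x, ⁅a, ⁅y, b⁆⁆⁆ = 1
      rw [commutatorElement_eq_one_iff_mul_comm]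
      exact comm_of_lcs hc (by omega) (htop x) (mem_lcs_comm (htop a) hb)
    change ψ ⟨⁅y, a * b⁆, hyg _⟩ = ψ ⟨⁅y, a⁆, hyg _⟩ * ψ ⟨⁅y, b⁆, hyg _⟩
    have h4 : (⟨⁅y, a * b⁆, hyg _⟩ : (Lc H (c + 1) : Subgroup H)) = ⟨⁅y, a⁆, hyg _⟩ * (⟨⁅a, ⁅y, b⁆⁆, h2⟩ * ⟨⁅y, b⁆, hyg _⟩) :=
      Subtype.ext h1
    rw [h4, map_mul, map_mul, h3, one_mul])
  have hφr : φ.range ≤ ψ.range := by
    rintro _ ⟨g, rfl⟩
    exact ⟨⟨⁅y, g⁆, hyg g⟩, rfl⟩
  have hφi : φ.ker.index ≤ (centralizer ({x} : Set H)).relIndex (Lc H (c + 1)) := by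
    rw [index_ker, relIndex, ← hψk, index_ker]
    exact Subgroup.card_le_of_le hφr
  -- `T = {g | [x, g] ∈ Lc H 2}`
  let T : Subgroup H := (centralizer ({QuotientGroup.mk' (Lc H 2) x} : Set (H ⧸ Lc H 2))).comap (QuotientGroup.mk' (Lc H 2))
  have hT : ∀ g, g ∈ T ↔ ⁅x, g⁆ ∈ Lc H 2 := by
    intro g
    change QuotientGroup.mk' (Lc H 2) g ∈ centralizer _ ↔ _
    rw [mem_centralizer_singleton_iff, ← QuotientGroup.eq_one_iff]
    change _ ↔ QuotientGroup.mk' (Lc H 2) ⁅x, g⁆ = 1
    rw [map_commutatorElement, commutatorElement_eq_one_iff_mul_comm]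
    exact eq_comm
  have hCT : centralizer ({x} : Set H) ≤ T := by
    intro g hg
    rw [hT]
    rw [mem_centralizer_singleton_iff] at hg
    rw [commutatorElement_eq_one_iff_mul_comm.2 hg.symm]; exact one_mem _
  have hLT : Lc H (c + 1) ≤ T := by
    intro g hg
    rw [hT]
    exact Subgroup.lowerCentralSeries_antitone _ (by omega) (mem_lcs_comm (htop x) hg)
  have hmain : φ.ker ⊓ T ≤ centralizer ({⁅x, y⁆} : Set H) := by
    intro g hg
    obtain ⟨h1, h2⟩ := mem_inf.1 hg
    rw [MonoidHom.mem_ker] at h1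
    rw [hT] at h2
    rw [mem_centralizer_singleton_iff]
    have hz : ⁅x, y⁆ ∈ Lc H (c + 1) := by
      have := mem_lcs_comm (htop x) hy
      rwa [zero_add] at this
    have hxg : ⁅x, g⁆ ∈ Lc H 1 := by
      have := mem_lcs_comm (htop x) (htop g)
      exact this
    refine (jacobi_elem ?_ ?_ ?_ ?_ ?_).symm
    · exact (commutatorElement_eq_one_iff_mul_comm.1 h1).symm
    · exact comm_of_lcs hc (by omega) h2 hy
    · exact comm_of_lcs hc (by omega) (hyg g) hxg
    · exact comm_of_lcs hc (by omega) hz (hyg g)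
    · exact comm_of_lcs hc (by omega) hz hxg
  calc (centralizer ({⁅x, y⁆} : Set H)).index ≤ (φ.ker ⊓ T).index :=
        Nat.le_of_dvd (Nat.pos_of_ne_zero index_ne_zero_of_finite) (index_dvd_of_le hmain)
    _ ≤ φ.ker.index * T.index := index_inf_le
    _ ≤ (centralizer ({x} : Set H)).relIndex (Lc H (c + 1)) * T.index := Nat.mul_le_mul_right _ hφi
    _ ≤ (centralizer ({x} : Set H)).relIndex T * T.index := by
        apply Nat.mul_le_mul_right
        exact relIndex_le_of_le_right hLT (index_ne_zero_of_finite (H := (centralizer ({x} : Set H)).subgroupOf T))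
    _ = _ := relIndex_mul_index hCT

/-- existence of the subgroup `K`. -/
theorem exists_K [Finite H] (hnil : Group.IsNilpotent H) (hna : commutator H ≠ ⊥) :
    ∃ K : Subgroup H, K ≠ ⊤ ∧ ∀ x, x ∉ K → ∃ z : H, (∀ g, ⁅z, g⁆ ∈ center H) ∧ z ∉ center H ∧
      (centralizer ({z} : Set H)).index ≤ (centralizer ({x} : Set H)).index := by
  classical
  have hex : ∃ n, Lc H n = ⊥ := _root_.nilpotent_iff_lowerCentralSeries.1 hnil
  set N := Nat.find hex with hN
  have hNb : Lc H N = ⊥ := Nat.find_spec hex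
  have hNm : ∀ m, m < N → Lc H m ≠ ⊥ := fun m hm => Nat.find_min hex hm
  have hN2 : 2 ≤ N := by
    by_contra hlt
    push Not at hlt
    apply hna
    rw [← Lc_one, eq_bot_iff, ← hNb]
    exact Subgroup.lowerCentralSeries_antitone _ (by omega)
  have hcen : ∀ m, N ≤ m + 1 → Lc H m ≤ center H := by
    intro m hm z hz
    rw [mem_center_iff]
    intro g
    exact (comm_of_lcs hNb (by omega) hz (mem_Lc_zero g)).symm
  rcases Nat.lt_or_ge N 3 with h3 | h3
  · -- class two
    have hN' : N = 2 := by omega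
    refine ⟨center H, ?_, ?_⟩
    · intro h
      apply hna
      rw [_root_.commutator_def, commutator_eq_bot_iff_le_centralizer]
      rw [← centralizer_univ] at h
      rw [coe_top, h]
    · intro x hx
      refine ⟨x, fun g => ?_, hx, le_rfl⟩
      apply hcen 1 (by omega)
      exact commutator_mem_commutator (mem_top _) (mem_top _)
  · obtain ⟨c, hc⟩ : ∃ c, N = c + 3 := ⟨N - 3, by omega⟩
    rw [hc] at hNb
    let Z := center H
    let K : Subgroup H := (centralizer (((Lc H c).map (QuotientGroup.mk' Z) : Subgroup (H ⧸ Z)) : Set (H ⧸ Z))).comap (QuotientGroup.mk' Z)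
    have hK : ∀ x, x ∈ K ↔ ∀ y ∈ Lc H c, ⁅x, y⁆ ∈ Z := by
      intro x
      change QuotientGroup.mk' Z x ∈ centralizer _ ↔ _
      rw [mem_centralizer_iff]
      constructor
      · intro h y hy
        have h1 := h _ (mem_map_of_mem (QuotientGroup.mk' Z) hy)
        rw [← QuotientGroup.eq_one_iff]
        change QuotientGroup.mk' Z ⁅x, y⁆ = 1
        rw [map_commutatorElement, commutatorElement_eq_one_iff_mul_comm]
        exact h1.symm
      · rintro h _ ⟨y, hy, rfl⟩
        have h1 := h y hy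
        rw [← QuotientGroup.eq_one_iff] at h1
        have h2 : QuotientGroup.mk' Z ⁅x, y⁆ = 1 := h1
        rw [map_commutatorElement, commutatorElement_eq_one_iff_mul_comm] at h2
        exact h2.symm
    refine ⟨K, ?_, ?_⟩
    · intro htop
      apply hNm (c + 2) (by omega)
      have h1 : Lc H (c + 1) ≤ Z := by
        rw [Lc_succ, commutator_comm, commutator_le]
        intro x _ y hy
        exact (hK x).1 (by rw [htop]; exact mem_top x) y hy
      rw [Lc_succ, commutator_eq_bot_iff_le_centralizer]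
      refine h1.trans ?_
      rw [coe_top, centralizer_univ]
    · intro x hx
      rw [hK] at hx
      push Not at hx
      obtain ⟨y, hy, hxy⟩ := hx
      refine ⟨⁅x, y⁆, fun g => ?_, hxy, index_comm_le hNb hy⟩
      apply hcen (c + 2) (by omega)
      have h1 : ⁅x, y⁆ ∈ Lc H (c + 1) := by
        have := mem_lcs_comm (mem_Lc_zero x) hy
        rwa [zero_add] at this
      have h2 := mem_lcs_comm h1 (mem_Lc_zero g)
      exact h2

end

end Cfsg.Agent.H23.Breadth
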