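import Cfsg.Agent.H23.Zipper

set_option autoImplicit false
set_option linter.all false

/-!
# A variant of the zipper lemma, seat helper23
-/

namespace Cfsg.Agent.H23

open Subgroup
open scoped Pointwise

section cjs
variable {G : Type*} [Group G]

/-- conjugate subgroup `g A g⁻¹` -/
def cjs (g : G) (A : Subgroup G) : Subgroup G := MulAut.conj g • A

theorem mem_cjs {g x : G} {A : Subgroup G} : x ∈ cjs g A ↔ g⁻¹ * x * g ∈ A := H1.mem_conj_smul

theorem conj_mem_cjs {g x : G} {A : Subgroup G} (hx : x ∈ A) : g * x * g⁻¹ ∈ cjs g A := by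
  rw [mem_cjs]
  have : g⁻¹ * (g * x * g⁻¹) * g = x := by group
  rwa [this]

theorem cjs_mul (g h : G) (A : Subgroup G) : cjs (g * h) A = cjs g (cjs h A) := by
  unfold cjs; rw [map_mul, mul_smul]

theorem cjs_one (A : Subgroup G) : cjs 1 A = A := by unfold cjs; rw [map_one, one_smul]

theorem cjs_inv_cjs (g : G) (A : Subgroup G) : cjs g⁻¹ (cjs g A) = A := by
  rw [← cjs_mul, inv_mul_cancel, cjs_one]

theorem cjs_cjs_inv (g : G) (A : Subgroup G) : cjs g (cjs g⁻¹ A) = A := by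
  rw [← cjs_mul, mul_inv_cancel, cjs_one]

theorem cjs_le_cjs {g : G} {A B : Subgroup G} : cjs g A ≤ cjs g B ↔ A ≤ B := H1.conj_smul_le_conj_smul_iff

theorem cjs_le_iff {g : G} {A B : Subgroup G} : cjs g A ≤ B ↔ A ≤ cjs g⁻¹ B := by
  rw [← cjs_le_cjs (g := g⁻¹), cjs_inv_cjs]

theorem le_cjs_iff {g : G} {A B : Subgroup G} : A ≤ cjs g B ↔ cjs g⁻¹ A ≤ B := by
  rw [← cjs_le_cjs (g := g⁻¹), cjs_inv_cjs]

theorem cjs_sup (g : G) (A B : Subgroup G) : cjs g (A ⊔ B) = cjs g A ⊔ cjs g B := H1.conj_smul_sup g A B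

theorem cjs_top (g : G) : cjs g (⊤ : Subgroup G) = ⊤ := H1.conj_smul_normal (N := (⊤ : Subgroup G)) g

theorem cjs_ne_top {g : G} {A : Subgroup G} (h : A ≠ ⊤) : cjs g A ≠ ⊤ := by
  intro h1
  apply h
  rw [← cjs_inv_cjs g A, h1, cjs_top]

theorem card_cjs (g : G) (A : Subgroup G) : Nat.card (cjs g A) = Nat.card A := H1.card_conj_smul g A

theorem mem_normalizer_iff_cjs {g : G} {A : Subgroup G} : g ∈ normalizer (A : Set G) ↔ cjs g A = A :=
  H1.mem_normalizer_iff_conj_smul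

theorem cjs_eq_of_mem {g : G} {A : Subgroup G} (h : g ∈ A) : cjs g A = A :=
  mem_normalizer_iff_cjs.mp (le_normalizer h)

theorem cjs_le_of_le_of_mem {g : G} {A B : Subgroup G} (h : A ≤ B) (hg : g ∈ B) : cjs g A ≤ B := by
  rw [← cjs_eq_of_mem hg]; exact cjs_le_cjs.mpr h

theorem cjs_coatom {M : Subgroup G} (hM : IsCoatom M) (g : G) : IsCoatom (cjs g M) := by
  have := (OrderIso.isCoatom_iff (MulEquiv.mapSubgroup (MulAut.conj g)) M).mpr hM
  exact this

theorem mem_normalizer_of_cjs_le [Finite G] {g : G} {A : Subgroup G} (h : cjs g A ≤ A) : g ∈ normalizer (A : Set G) :=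
  mem_normalizer_iff_cjs.mpr (eq_of_le_of_card_ge h (by rw [card_cjs]))

end cjs

section sn
variable {G : Type*} [Group G]

theorem IsSubnormal_comap {G' : Type*} [Group G'] (f : G' →* G) {S : Subgroup G} (h : S.IsSubnormal) :
    (S.comap f).IsSubnormal := by
  induction h with
  | top => rw [comap_top]; exact Subgroup.IsSubnormal.top
  | step H K hHK hK hN ih =>
    refine IsSubnormal.of_le_normalizer ih (comap_mono hHK) ?_
    have h1 : K ≤ normalizer (H : Set G) := (normal_subgroupOf_iff_le_normalizer hHK).mp hN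
    intro x hx
    rw [mem_comap] at hx
    have h2 := mem_normalizer_iff.mp (h1 hx)
    rw [mem_normalizer_iff]
    intro y
    rw [mem_comap, mem_comap, h2 (f y), map_mul, map_mul, map_inv]

/-- `S` is subnormal in `H`. -/
def SnIn (S H : Subgroup G) : Prop := S ≤ H ∧ (S.subgroupOf H).IsSubnormal

theorem SnIn.refl (H : Subgroup G) : SnIn H H := by
  refine ⟨le_rfl, ?_⟩
  rw [subgroupOf_self]; exact Subgroup.IsSubnormal.top

theorem SnIn.bot (H : Subgroup G) : SnIn ⊥ H := by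
  refine ⟨bot_le, ?_⟩
  rw [bot_subgroupOf]; exact Subgroup.IsSubnormal.bot

theorem SnIn.mono {S H L : Subgroup G} (h : SnIn S H) (hSL : S ≤ L) (hLH : L ≤ H) : SnIn S L := by
  refine ⟨hSL, ?_⟩
  have := IsSubnormal_comap (inclusion hLH) h.2
  exact this

theorem SnIn.of_le_normalizer {S T H : Subgroup G} (h : SnIn T H) (hST : S ≤ T) (hn : T ≤ normalizer (S : Set G)) :
    SnIn S H := by
  refine ⟨hST.trans h.1, ?_⟩
  refine IsSubnormal.of_le_normalizer h.2 (comap_mono hST) ?_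
  intro x hx
  have h1 := mem_normalizer_iff.mp (hn (mem_subgroupOf.mp hx))
  rw [mem_normalizer_iff]
  intro y
  rw [mem_subgroupOf, mem_subgroupOf]
  exact h1 y

theorem SnIn.cjs {S H : Subgroup G} (h : SnIn S H) (g : G) : SnIn (cjs g S) (H23.cjs g H) :=
  ⟨cjs_le_cjs.mpr h.1, isSubnormal_subgroupOf_smul g h.2⟩

theorem SnIn.sup [Finite G] {S T H : Subgroup G} (h : SnIn S H) (h' : SnIn T H) : SnIn (S ⊔ T) H := by
  refine ⟨sup_le h.1 h'.1, ?_⟩
  rw [subgroupOf_sup h.1 h'.1]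
  exact isSubnormal_sup h.2 h'.2

theorem SnIn.sSup [Finite G] {H : Subgroup G} (𝒮 : Set (Subgroup G)) (h : ∀ S ∈ 𝒮, SnIn S H) : SnIn (sSup 𝒮) H := by
  have hf : 𝒮.Finite := Set.toFinite _
  induction 𝒮, hf using Set.Finite.induction_on with
  | empty => rw [sSup_empty]; exact SnIn.bot H
  | @insert S 𝒮 _ _ ih =>
    rw [sSup_insert]
    exact (h S (Set.mem_insert _ _)).sup (ih fun T hT => h T (Set.mem_insert_of_mem _ hT))

theorem SnIn.exists_conj [Finite G] {S H : Subgroup G} (h : SnIn S H) (hn : ¬ H ≤ normalizer (S : Set G)) :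
    ∃ x ∈ H, H23.cjs x S ≠ S ∧ H23.cjs x S ≤ normalizer (S : Set G) ∧ H23.cjs x S ≤ H := by
  obtain ⟨x, hx1, hx2⟩ := exists_conj_le_normalizer h.2 (fun h' => hn ((normal_subgroupOf_iff_le_normalizer h.1).mp h'))
  have hxH : H23.cjs (x : G) S ≤ H := cjs_le_of_le_of_mem h.1 x.2
  refine ⟨x, x.2, ?_, ?_, hxH⟩
  · intro heq
    apply hx1
    ext y
    rw [H1.mem_conj_smul, mem_subgroupOf, mem_subgroupOf]
    have h3 : (y : G) ∈ H23.cjs (x : G) S ↔ (y : G) ∈ S := by rw [heq]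
    rw [mem_cjs] at h3
    exact h3
  · intro y hy
    have hyK := hxH hy
    have h3 : (⟨y, hyK⟩ : H) ∈ MulAut.conj x • (S.subgroupOf H) := by
      rw [H1.mem_conj_smul, mem_subgroupOf]
      rw [mem_cjs] at hy
      exact hy
    have h4 := hx2 h3
    rw [mem_normalizer_iff] at h4 ⊢
    intro a
    constructor
    · intro ha
      have := (h4 ⟨a, h.1 ha⟩).mp ha
      exact this
    · intro ha
      have haK : a ∈ H := by
        have h5 := h.1 ha
        have h6 : y⁻¹ * (y * a * y⁻¹) * y ∈ H := mul_mem (mul_mem (inv_mem hyK) h5) hyK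
        have h7 : y⁻¹ * (y * a * y⁻¹) * y = a := by group
        rwa [h7] at h6
      exact (h4 ⟨a, haK⟩).mpr ha

end sn

section hf
variable {G : Type*} [Group G]

/-- Proper subgroups `H ≥ A` generated by their conjugates of `A`. -/
def HF (A : Subgroup G) : Set (Subgroup G) :=
  {H | A ≤ H ∧ H ≠ ⊤ ∧ ∀ N : Subgroup G, A ≤ N → N ≤ H → H ≤ normalizer (N : Set G) → N = H}

theorem mem_HF_iff {A H : Subgroup G} :
    H ∈ HF A ↔ A ≤ H ∧ H ≠ ⊤ ∧ normalClosure ((A.subgroupOf H : Subgroup H) : Set H) = ⊤ := by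
  constructor
  · rintro ⟨h1, h2, h3⟩
    refine ⟨h1, h2, ?_⟩
    set N := normalClosure ((A.subgroupOf H : Subgroup H) : Set H) with hN
    have hNn : N.Normal := normalClosure_normal
    have h4 := h3 (N.map H.subtype) (by
      rw [← map_subgroupOf_eq_of_le h1]
      exact map_mono (le_normalClosure)) (map_subtype_le N) (by
      intro x hx
      rw [mem_normalizer_iff]
      intro y
      constructor
      · rintro ⟨w, hw, rfl⟩
        exact ⟨⟨x, hx⟩ * w * ⟨x, hx⟩⁻¹, hNn.conj_mem w hw _, rfl⟩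
      · rintro ⟨w, hw, hw'⟩
        refine ⟨⟨x, hx⟩⁻¹ * w * ⟨x, hx⟩, ?_, ?_⟩
        · have := hNn.conj_mem w hw ⟨x, hx⟩⁻¹
          rwa [inv_inv] at this
        · have h5 : (w : G) = x * y * x⁻¹ := hw'
          show x⁻¹ * (w : G) * x = y
          rw [h5]; group)
    rw [eq_top_iff]
    intro x _
    have h5 : (x : G) ∈ N.map H.subtype := by rw [h4]; exact x.2
    obtain ⟨w, hw, hw'⟩ := h5
    have : w = x := Subtype.ext hw'
    rwa [← this]
  · rintro ⟨h1, h2, h3⟩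
    refine ⟨h1, h2, ?_⟩
    intro N hAN hNH hn
    have h4 : (N.subgroupOf H).Normal := normal_subgroupOf_of_le_normalizer hn
    have h5 : normalClosure ((A.subgroupOf H : Subgroup H) : Set H) ≤ N.subgroupOf H :=
      normalClosure_le_normal (fun x hx => hAN hx)
    rw [h3, top_le_iff, subgroupOf_eq_top] at h5
    exact le_antisymm hNH h5

theorem HF.eq_of_snIn {A H S : Subgroup G} (hH : H ∈ HF A) (hAS : A ≤ S) (hS : SnIn S H) : S = H := by
  rcases hS.2.lt_normal with h | ⟨K, hK, hSK, hKt⟩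
  · rw [subgroupOf_eq_top] at h
    exact le_antisymm hS.1 h
  · exfalso
    have h1 := (mem_HF_iff.mp hH).2.2
    have h2 : normalClosure ((A.subgroupOf H : Subgroup H) : Set H) ≤ K :=
      normalClosure_le_normal (fun x hx => hSK (hAS hx))
    rw [h1, top_le_iff] at h2
    exact hKt.ne h2

theorem exists_HF [Finite G] {A H : Subgroup G} (hAH : A ≤ H) (hH : H ≠ ⊤) : ∃ S ∈ HF A, SnIn S H := by
  obtain ⟨S, hS⟩ := (Set.toFinite {S : Subgroup G | A ≤ S ∧ SnIn S H}).exists_minimal ⟨H, hAH, SnIn.refl H⟩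
  obtain ⟨hAS, hSH⟩ := hS.prop
  refine ⟨S, ⟨hAS, fun h => hH (top_le_iff.mp (h ▸ hSH.1)), ?_⟩, hSH⟩
  intro N hAN hNS hn
  exact le_antisymm hNS (hS.le_of_le ⟨hAN, hSH.of_le_normalizer hNS hn⟩ hNS)

theorem self_mem_HF {A : Subgroup G} (hA : A ≠ ⊤) : A ∈ HF A :=
  ⟨le_rfl, hA, fun N h1 h2 _ => le_antisymm h2 h1⟩

theorem HF.cjs {A H : Subgroup G} (g : G) (h : H ∈ HF A) : H23.cjs g H ∈ HF (H23.cjs g A) := by
  obtain ⟨h1, h2, h3⟩ := h
  refine ⟨cjs_le_cjs.mpr h1, cjs_ne_top h2, ?_⟩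
  intro N hAN hNH hn
  have h4 := h3 (H23.cjs g⁻¹ N) (cjs_le_iff.mp hAN) (le_cjs_iff.mp hNH) (by
    intro x hx
    have h5 := hn (conj_mem_cjs (g := g) hx)
    rw [mem_normalizer_iff_cjs] at h5 ⊢
    have h6 := congrArg (H23.cjs g⁻¹) h5
    rw [← cjs_mul] at h6
    have h7 : g⁻¹ * (g * x * g⁻¹) = x * g⁻¹ := by group
    rw [h7, cjs_mul] at h6
    exact h6)
  rw [← h4, cjs_cjs_inv]

end hf

end Cfsg.Agent.H23
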