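import Cfsg.Agent.H23.IrrPrime
import Cfsg.Agent.H23.ZipperVar
import Cfsg.Agent.H20.ElemAb
import Cfsg.Agent.H2.Frat
import Cfsg.Agent.H1.Chief
import Cfsg.Prelude.Def_Transfer

set_option autoImplicit false
set_option linter.all false

/-!
# Minimal normal subgroups of prime index, seat helper23
-/

namespace Cfsg.Agent.H23

open Subgroup
open scoped commutatorElement

section mnc
variable {G : Type*} [Group G] [Finite G]

theorem sup_zpowers_eq_top_of_index_prime {p : ℕ} (hp : p.Prime) {A : Subgroup G} (hidx : A.index = p) {x : G}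
    (hx : x ∉ A) : A ⊔ zpowers x = ⊤ := by
  have h1 : A < A ⊔ zpowers x := by
    refine lt_of_le_of_ne le_sup_left fun h => hx ?_
    rw [h]; exact mem_sup_right (mem_zpowers x)
  haveI := Fact.mk hp
  have h2 : IsCoatom A := H2.isCoatom_of_index_prime hidx
  exact h2.2 _ h1

theorem card_min_normal {p q : ℕ} [hp : Fact p.Prime] [hq : Fact q.Prime] (hpq : q ≠ p) (A : Subgroup G) [hAn : A.Normal]
    (hA : Cfsg.IsElementaryAbelian q A) (hidx : A.index = p)
    (hmin : ∀ B : Subgroup G, B.Normal → B ≤ A → B = ⊥ ∨ B = A) (hna : ∃ x y : G, x * y ≠ y * x) :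
    Nat.card A = q ^ orderOf (q : ZMod p) := by
  have hAc : ∀ a ∈ A, ∀ b ∈ A, a * b = b * a := (H20.isMulCommutative_iff).mp hA.1
  letI : CommGroup A := { (inferInstance : Group A) with mul_comm := hA.1.is_comm.comm }
  obtain ⟨x, hx⟩ : ∃ x, x ∉ A := by
    by_contra hcon
    push Not at hcon
    have : A = ⊤ := eq_top_iff.mpr fun y _ => hcon y
    rw [this, index_top] at hidx
    exact hp.out.one_lt.ne hidx
  have hsup := sup_zpowers_eq_top_of_index_prime hp.out hidx hx
  have hdec : ∀ g : G, ∃ a ∈ A, ∃ k : ℕ, g = a * x ^ k := by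
    intro g
    obtain ⟨a, ha, z, hz, rfl⟩ := mem_sup_of_normal_left.mp (show g ∈ A ⊔ zpowers x by rw [hsup]; exact mem_top g)
    obtain ⟨k, rfl⟩ := mem_powers_iff_mem_zpowers.mpr hz
    exact ⟨a, ha, k, rfl⟩
  have hxp : x ^ p ∈ A := by
    have := A.pow_index_mem x
    rwa [hidx] at this
  -- x does not centralize A
  have hxA : ∃ a ∈ A, x * a ≠ a * x := by
    by_contra hcon
    push Not at hcon
    obtain ⟨g, h, hgh⟩ := hna
    apply hgh
    obtain ⟨a, ha, k, rfl⟩ := hdec g
    obtain ⟨b, hb, l, rfl⟩ := hdec h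
    have e1 : Commute (x ^ k) b := (show Commute x b from hcon b hb).pow_left k
    have e2 : Commute (x ^ l) a := (show Commute x a from hcon a ha).pow_left l
    have e3 : Commute (x ^ k) (x ^ l) := (Commute.refl x).pow_pow k l
    have e4 : Commute a b := hAc a ha b hb
    exact ((e4.mul_right e2.symm).mul_left (e1.mul_right e3)).eq
  let f : A →* A :=
    { toFun := fun y => ⟨x * y * x⁻¹, hAn.conj_mem y y.2 x⟩
      map_one' := by apply Subtype.ext; simp
      map_mul' := by intro a b; apply Subtype.ext; simp }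
  let σ : AddMonoid.End (Additive A) := MonoidHom.toAdditive f
  have hσ : ∀ (n : ℕ) (y : A), (((σ ^ n) (Additive.ofMul y)).toMul : G) = x ^ n * y * (x ^ n)⁻¹ := by
    intro n
    induction n with
    | zero => intro y; simp
    | succ n ih =>
      intro y
      have h1 : (σ ^ (n + 1)) (Additive.ofMul y) = (σ ^ n) (σ (Additive.ofMul y)) := by rw [pow_succ]; rfl
      have h2 : σ (Additive.ofMul y) = Additive.ofMul (f y) := rfl
      rw [h1, h2, ih]
      show x ^ n * (x * y * x⁻¹) * (x ^ n)⁻¹ = _
      rw [pow_succ]; group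
  haveI : Nontrivial (Additive A) := by
    obtain ⟨a, ha, hxa⟩ := hxA
    refine ⟨⟨0, Additive.ofMul ⟨a, ha⟩, fun h => hxa ?_⟩⟩
    have h1 : (1 : A) = ⟨a, ha⟩ := congrArg Additive.toMul h
    have h2 : (1 : G) = a := congrArg Subtype.val h1
    rw [← h2]; simp
  have hVcard : Nat.card (Additive A) = Nat.card A := rfl
  rw [← hVcard]
  apply card_irreducible_prime (p := p) (q := q) hpq σ
  · refine AddMonoidHom.ext fun y => ?_
    apply Additive.toMul.injective
    apply Subtype.ext
    have h1 := hσ p y.toMul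
    refine Eq.trans h1 ?_
    have h2 := hAc _ hxp _ y.toMul.2
    rw [h2, mul_inv_cancel_right]
    rfl
  · intro h
    obtain ⟨a, ha, hxa⟩ := hxA
    apply hxa
    have h1 := hσ 1 ⟨a, ha⟩
    rw [pow_one, h, pow_one] at h1
    have h2 : a = x * a * x⁻¹ := h1
    nth_rewrite 2 [h2]
    group
  · intro v
    apply Additive.toMul.injective
    apply Subtype.ext
    exact hA.2 _ v.toMul.2
  · intro U hU
    set U' : Subgroup A := Subgroup.toAddSubgroup.symm U with hU'
    have hmem : ∀ y : A, y ∈ U' ↔ Additive.ofMul y ∈ U := fun y => Iff.rfl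
    set B : Subgroup G := U'.map A.subtype with hB
    have hBA : B ≤ A := map_subtype_le _
    have hBn : B.Normal := by
      rw [← normalizer_eq_top_iff, eq_top_iff, ← hsup]
      apply sup_le
      · intro a ha
        apply mem_normalizer_of_cjs_le
        intro y hy
        rw [mem_cjs] at hy
        have h1 := hBA hy
        have h2 := hAc _ h1 _ ha
        have h3 : a⁻¹ * y * a = y := by
          have h4 : y * a = a * (a⁻¹ * y * a) := by group
          rw [← h2] at h4
          have h5 : y = a⁻¹ * y * a := mul_right_cancel h4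
          exact h5.symm
        rwa [h3] at hy
      · rw [zpowers_le]
        apply mem_normalizer_of_cjs_le
        intro y hy
        rw [mem_cjs] at hy
        obtain ⟨u, hu, huy⟩ := hy
        have h1 := hU _ ((hmem u).mp hu)
        refine ⟨f u, h1, ?_⟩
        show x * (u : G) * x⁻¹ = y
        have : (u : G) = x⁻¹ * y * x := huy
        rw [this]; group
    rcases hmin B hBn hBA with h | h
    · left
      rw [eq_bot_iff]
      intro v hv
      have h1 : ((v.toMul : A) : G) ∈ B := ⟨v.toMul, hv, rfl⟩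
      rw [h, mem_bot] at h1
      have h2 : v.toMul = 1 := Subtype.ext h1
      show v = 0
      exact h2
    · right
      rw [eq_top_iff]
      intro v _
      have h1 : ((v.toMul : A) : G) ∈ B := by rw [h]; exact v.toMul.2
      obtain ⟨u, hu, huv⟩ := h1
      have h2 : u = v.toMul := Subtype.ext huv
      rw [h2] at hu
      exact hu

/-- A structure lemma: a Sylow subgroup of order `p` acting on a minimal normal `p'`-subgroup. -/
theorem struct_core {p : ℕ} [hp : Fact p.Prime] (N P : Subgroup G) [hNn : N.Normal] (hN1 : N ≠ ⊥)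
    (hmin : ∀ B : Subgroup G, B.Normal → B ≤ N → B = ⊥ ∨ B = N) (hpN : ¬ p ∣ Nat.card N)
    (hP : Nat.card P = p) (hsup : P ⊔ N = ⊤) (hPn : ¬ P.Normal)
    (hsub : ∀ H : Subgroup G, H ≠ ⊤ → P ≤ H → H ≤ normalizer (P : Set G)) :
    ∃ q : ℕ, q.Prime ∧ q ≠ p ∧ Nat.card G = p * q ^ orderOf (q : ZMod p) ∧
      Nat.card N = q ^ orderOf (q : ZMod p) ∧ Cfsg.IsElementaryAbelian q N := by
  have hPN : P ≤ normalizer (N : Set G) := le_normalizer_of_normal
  have hcop : (Nat.card P).Coprime (Nat.card N) := by
    rw [hP]; exact (Nat.Prime.coprime_iff_not_dvd hp.out).mpr hpN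
  have hinf : P ⊓ N = ⊥ := inf_eq_bot_of_coprime hcop
  have hPs : Group.IsSolvable P := by
    haveI : IsCyclic P := isCyclic_of_prime_card hP
    letI : CommGroup P := IsCyclic.commGroup
    exact Group.isSolvable_of_comm (fun a b => mul_comm a b)
  have hcardG : Nat.card G = p * Nat.card N := by
    have := card_sup_of_inf_eq_bot hPN hinf
    rw [sup_comm, hsup, card_top, hP] at this
    rw [this, mul_comm]
  have hnc : ¬ N ≤ centralizer (P : Set G) := by
    intro h
    apply hPn
    rw [← normalizer_eq_top_iff, eq_top_iff, ← hsup]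
    exact sup_le le_normalizer (h.trans (centralizer_le_normalizer _))
  -- an invariant Sylow subgroup not centralized by `P`
  obtain ⟨q, hq, Q, hQ, hPQ, hQc⟩ : ∃ (q : ℕ) (_ : Fact q.Prime) (Q : Subgroup G), IsSylowOf q Q N ∧
      P ≤ normalizer (Q : Set G) ∧ ¬ Q ≤ centralizer (P : Set G) := by
    by_contra hcon
    push Not at hcon
    apply hnc
    have h1 : N ≤ N ⊓ centralizer (P : Set G) := by
      apply le_of_forall_isSylowOf_le
      intro q hq
      obtain ⟨Q, hQ, hPQ⟩ := exists_invariant_sylow hPN hcop (Or.inl hPs) q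
      exact ⟨Q, hQ, le_inf hQ.le (hcon q hq Q hQ hPQ)⟩
    exact h1.trans inf_le_right
  haveI := hq
  have hQP : P ⊔ Q = ⊤ := by
    by_contra hne
    have h1 := hsub _ hne le_sup_left
    have h2 : Q ≤ normalizer (P : Set G) := le_sup_right.trans h1
    apply hQc
    rw [← commutator_eq_bot_iff_le_centralizer, eq_bot_iff, ← hinf]
    refine le_inf ?_ ?_
    · rw [commutator_comm]; exact commutator_le_of_le_normalizer h2
    · exact (commutator_mono hQ.le le_rfl).trans (commutator_le_left N P)
  have hQN : Q = N := by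
    apply le_antisymm hQ.le
    intro y hy
    obtain ⟨v, hv, u, hu, rfl⟩ := (mem_sup_iff_of_le_normalizer hPQ).mp (show y ∈ Q ⊔ P by rw [sup_comm, hQP]; exact mem_top y)
    have h1 : u ∈ P ⊓ N := ⟨hu, by
      have := mul_mem (inv_mem (hQ.le hv)) hy
      rwa [inv_mul_cancel_left] at this⟩
    rw [hinf, mem_bot] at h1
    rw [h1, mul_one]; exact hv
  have hNq : IsPGroup q N := by rw [← hQN]; exact hQ.isPGroup
  have hqp : q ≠ p := by
    rintro rfl
    obtain ⟨n, hn⟩ := IsPGroup.iff_card.mp hNq
    apply hpN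
    rw [hn]
    refine dvd_pow_self q ?_
    rintro rfl
    rw [pow_zero, card_eq_one] at hn
    exact hN1 hn
  have hNs : Group.IsSolvable N := by
    haveI := hNq.isNilpotent
    infer_instance
  obtain ⟨hNc, r, hr, hrN, hrp⟩ := H1.minimal_normal_solvable hNn hN1 hmin hNs
  have hrq : r = q := by
    obtain ⟨y, hy, hy1⟩ : ∃ y ∈ N, y ≠ 1 := by
      by_contra hcon
      push Not at hcon
      exact hN1 ((Subgroup.eq_bot_iff_forall N).mpr hcon)
    obtain ⟨k, hk⟩ := (IsPGroup.iff_orderOf.mp hNq) ⟨y, hy⟩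
    rw [orderOf_mk] at hk
    have h1 : orderOf y ∣ r := orderOf_dvd_of_pow_eq_one (hrp y hy)
    have h2 : k ≠ 0 := by
      rintro rfl
      rw [pow_zero, orderOf_eq_one_iff] at hk
      exact hy1 hk
    have h3 : q ∣ r := (dvd_pow_self q h2).trans (hk ▸ h1)
    exact ((Nat.prime_dvd_prime_iff_eq hq.out hr).mp h3).symm
  have hel : Cfsg.IsElementaryAbelian q N := ⟨hNc, fun a ha => by rw [← hrq]; exact hrp a ha⟩
  have hidx : N.index = p := by
    have h1 := N.index_mul_card
    rw [hcardG] at h1
    exact Nat.eq_of_mul_eq_mul_right Nat.card_pos h1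
  have hcardN := card_min_normal hqp N hel hidx hmin (by
    by_contra hcon
    push Not at hcon
    apply hPn
    constructor
    intro n hn g
    rw [hcon g n, mul_inv_cancel_right]; exact hn)
  exact ⟨q, hq.out, hqp, by rw [hcardG, hcardN], hcardN, hel⟩

end mnc

end Cfsg.Agent.H23
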