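import Cfsg.Agent.H23.PSolvable
import Cfsg.Agent.H23.Coprime
import Cfsg.Agent.H23.ZipperVar
import Cfsg.Agent.H2.Basic

set_option autoImplicit false
set_option linter.all false

/-!
# `p`-complements in `p`-soluble groups, seat helper23
-/

namespace Cfsg.Agent.H23

open Subgroup
open scoped Pointwise

/-- `H` is a `p`-complement. -/
def IsPCompl (p : ℕ) {G : Type*} [Group G] (H : Subgroup G) : Prop :=
  (Nat.card H).Coprime p ∧ ∃ n : ℕ, H.index = p ^ n

section
variable {G : Type*} [Group G] [Finite G] {p : ℕ} [hp : Fact p.Prime]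

theorem IsPCompl.map {H : Subgroup G} (h : IsPCompl p H) (N : Subgroup G) [N.Normal] :
    IsPCompl p (H.map (QuotientGroup.mk' N)) := by
  obtain ⟨h1, n, hn⟩ := h
  refine ⟨Nat.Coprime.coprime_dvd_left (Subgroup.card_map_dvd _ _) h1, ?_⟩
  have h2 : (H.map (QuotientGroup.mk' N)).index ∣ H.index :=
    Subgroup.index_map_dvd H (QuotientGroup.mk'_surjective N)
  rw [hn] at h2
  obtain ⟨k, _, hk⟩ := (Nat.dvd_prime_pow hp.out).mp h2
  exact ⟨k, hk⟩

theorem isPCompl_card_eq {H₁ H₂ : Subgroup G} (h₁ : IsPCompl p H₁) (h₂ : IsPCompl p H₂) :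
    Nat.card H₁ = Nat.card H₂ := by
  obtain ⟨h1, n, hn⟩ := h₁
  obtain ⟨h2, m, hm⟩ := h₂
  have e1 := H₁.card_mul_index
  have e2 := H₂.card_mul_index
  rw [hn] at e1
  rw [hm] at e2
  rw [← e2] at e1
  apply Nat.dvd_antisymm
  · have h3 : Nat.card H₁ ∣ Nat.card H₂ * p ^ m := ⟨_, e1.symm⟩
    exact (Nat.Coprime.pow_right m h1).dvd_of_dvd_mul_right h3
  · have h3 : Nat.card H₂ ∣ Nat.card H₁ * p ^ n := ⟨_, e1⟩
    exact (Nat.Coprime.pow_right n h2).dvd_of_dvd_mul_right h3

end

theorem pcompl_aux {p : ℕ} [hp : Fact p.Prime] (n : ℕ) : ∀ (G : Type*) [Group G] [Finite G], Nat.card G = n →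
    Cfsg.IsPSolvable p G → (∃ H : Subgroup G, IsPCompl p H) ∧
      ∀ H U : Subgroup G, IsPCompl p H → (Nat.card U).Coprime p → ∃ g : G, MulAut.conj g • U ≤ H := by
  induction n using Nat.strong_induction_on with
  | _ n ih =>
  intro G _ _ hn hG
  by_cases hnt : Nontrivial G
  swap
  · rw [not_nontrivial_iff_subsingleton] at hnt
    have hall : ∀ K : Subgroup G, K = ⊤ := fun K => Subsingleton.elim _ _
    refine ⟨⟨⊤, ?_, 0, ?_⟩, fun H U hH hU => ⟨1, ?_⟩⟩
    · rw [Nat.card_of_subsingleton (1 : (⊤ : Subgroup G))]; exact Nat.coprime_one_left p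
    · simp
    · rw [hall H]; exact le_top
  obtain ⟨N, hN, hN1, hNp⟩ : ∃ N : Subgroup G, N.Normal ∧ N ≠ ⊥ ∧ (IsPGroup p N ∨ (Nat.card N).Coprime p) := by
    rcases pCore_ne_bot_or hG with h | h
    · exact ⟨_, inferInstance, h, Or.inl (H1.pCore_isPGroup p G)⟩
    · exact ⟨_, inferInstance, h, Or.inr (H1.pPrimeCore_coprime p G)⟩
  haveI := hN
  have hcard : Nat.card (G ⧸ N) < n := by
    rw [← hn]
    have h1 := N.card_eq_card_quotient_mul_card_subgroup
    have h2 : 1 < Nat.card N := (Subgroup.one_lt_card_iff_ne_bot N).mpr hN1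
    have h3 : 0 < Nat.card (G ⧸ N) := Nat.card_pos
    rw [h1]
    exact (Nat.lt_mul_iff_one_lt_right h3).mpr h2
  obtain ⟨⟨K, hK1, k, hK2⟩, hdom⟩ := ih _ hcard (G ⧸ N) rfl (isPSolvable_quotient N hG)
  have hKidx : (K.comap (QuotientGroup.mk' N)).index = p ^ k := by
    rw [index_comap_of_surjective _ (QuotientGroup.mk'_surjective N), hK2]
  have hKcard := card_comap_mk' N K
  constructor
  · rcases hNp with hNp | hNp
    · set K' := K.comap (QuotientGroup.mk' N) with hK'
      have hNK : N ≤ K' := by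
        intro z hz
        rw [hK', mem_comap, show (QuotientGroup.mk' N) z = 1 from (QuotientGroup.eq_one_iff z).mpr hz]
        exact one_mem _
      have hcopN : (Nat.card N).Coprime (Nat.card K) := by
        obtain ⟨m, hm⟩ := IsPGroup.iff_card.mp hNp
        rw [hm]
        exact Nat.Coprime.pow_left _ hK1.symm
      have hidx : (N.subgroupOf K').index = Nat.card K := by
        have h1 := (N.subgroupOf K').card_mul_index
        rw [Nat.card_congr (subgroupOfEquivOfLe hNK).toEquiv, hKcard] at h1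
        exact Nat.eq_of_mul_eq_mul_left Nat.card_pos h1
      obtain ⟨H, hH⟩ := Subgroup.exists_right_complement'_of_coprime (N := N.subgroupOf K') (by
        rw [hidx, Nat.card_congr (subgroupOfEquivOfLe hNK).toEquiv]; exact hcopN)
      have hHcard : Nat.card (H.map K'.subtype) = Nat.card K := by
        rw [Nat.card_congr (H.equivMapOfInjective _ K'.subtype_injective).toEquiv.symm]
        have h1 := hH.card_mul
        rw [Nat.card_congr (subgroupOfEquivOfLe hNK).toEquiv, hKcard] at h1
        exact Nat.eq_of_mul_eq_mul_left Nat.card_pos h1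
      refine ⟨H.map K'.subtype, ?_, ?_⟩
      · rw [hHcard]; exact hK1
      · obtain ⟨m, hm⟩ := IsPGroup.iff_card.mp hNp
        refine ⟨m + k, ?_⟩
        have h1 := (H.map K'.subtype).card_mul_index
        have h2 := K'.card_mul_index
        rw [← h2, hKidx, hHcard, hKcard, hm] at h1
        have h3 : Nat.card K * (H.map K'.subtype).index = Nat.card K * (p ^ (m + k)) := by
          rw [h1, pow_add]; ring
        exact Nat.eq_of_mul_eq_mul_left Nat.card_pos h3
    · exact ⟨K.comap (QuotientGroup.mk' N), by rw [hKcard]; exact Nat.Coprime.mul_left hNp hK1, k, hKidx⟩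
  · intro H U hH hU
    obtain ⟨g', hg'⟩ := hdom (H.map (QuotientGroup.mk' N)) (U.map (QuotientGroup.mk' N)) (hH.map N)
      (Nat.Coprime.coprime_dvd_left (Subgroup.card_map_dvd _ _) hU)
    obtain ⟨g, rfl⟩ := QuotientGroup.mk_surjective g'
    set U' := MulAut.conj g • U with hU'
    have hU'c : Nat.card U' = Nat.card U := H1.card_conj_smul g U
    have hU'H : U' ≤ H ⊔ N := by
      intro z hz
      obtain ⟨u, hu, rfl⟩ := hz
      have h1 : (QuotientGroup.mk' N) (g * u * g⁻¹) ∈ H.map (QuotientGroup.mk' N) := by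
        apply hg'
        exact ⟨QuotientGroup.mk' N u, ⟨u, hu, rfl⟩, rfl⟩
      obtain ⟨h, hh, hhu⟩ := h1
      have h2 : h⁻¹ * (g * u * g⁻¹) ∈ N := QuotientGroup.eq.mp hhu
      have h3 : g * u * g⁻¹ = h * (h⁻¹ * (g * u * g⁻¹)) := by group
      show g * u * g⁻¹ ∈ H ⊔ N
      rw [h3]
      exact mul_mem (mem_sup_left hh) (mem_sup_right h2)
    rcases hNp with hNp | hNp
    · set W := U' ⊔ N with hW
      have hWH : W ≤ H ⊔ N := sup_le hU'H le_sup_right
      set U'' := W ⊓ H with hU''
      have hsup : N ⊔ U'' = W := by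
        apply le_antisymm (sup_le le_sup_right inf_le_left)
        intro w hw
        obtain ⟨n, hn', h, hh, rfl⟩ := mem_sup_of_normal_left.mp (show w ∈ N ⊔ H by rw [sup_comm]; exact hWH hw)
        refine mul_mem (mem_sup_left hn') (mem_sup_right ⟨?_, hh⟩)
        have h1 : n⁻¹ * (n * h) ∈ W := mul_mem (inv_mem ((le_sup_right : N ≤ W) hn')) hw
        rwa [inv_mul_cancel_left] at h1
      have hcop : ∀ V : Subgroup G, (Nat.card V).Coprime p → (Nat.card V).Coprime (Nat.card N) := by
        intro V hV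
        obtain ⟨m, hm⟩ := IsPGroup.iff_card.mp hNp
        rw [hm]
        exact Nat.Coprime.pow_right _ hV
      have hc1 : (Nat.card U').Coprime (Nat.card N) := hcop U' (by rw [hU'c]; exact hU)
      have hc2 : (Nat.card U'').Coprime (Nat.card N) := by
        apply hcop
        exact Nat.Coprime.coprime_dvd_left (Subgroup.card_dvd_of_le inf_le_right) hH.1
      have e1 := card_sup_of_inf_eq_bot (A := U') (G := N) le_normalizer_of_normal (inf_eq_bot_of_coprime hc1)
      have e2 := card_sup_of_inf_eq_bot (A := U'') (G := N) le_normalizer_of_normal (inf_eq_bot_of_coprime hc2)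
      have hcc : Nat.card U' = Nat.card U'' := by
        rw [hsup] at e2
        rw [sup_comm] at e1
        rw [← hW, e2] at e1
        first
        | exact (Nat.eq_of_mul_eq_mul_left Nat.card_pos e1).symm
        | exact (Nat.eq_of_mul_eq_mul_right Nat.card_pos e1).symm
      obtain ⟨x, hx, hxU⟩ := sz_conj_ambient (A := U'') (G := N) le_normalizer_of_normal hc2
        (Or.inr (by haveI := hNp.isNilpotent; infer_instance)) (B := U') (by rw [hsup]; exact le_sup_left) hcc
      refine ⟨x * g, ?_⟩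
      rw [map_mul, mul_smul, ← hU', hxU]
      exact inf_le_right
    · refine ⟨g, ?_⟩
      have h1 : H ⊔ N = H := by
        have h2 : (Nat.card (H ⊔ N : Subgroup G)).Coprime p := by
          have h3 : Nat.card (H ⊔ N : Subgroup G) ∣ Nat.card H * Nat.card N := ⟨_, (H2.card_sup_mul_card_inf H N).symm⟩
          exact Nat.Coprime.coprime_dvd_left h3 (Nat.Coprime.mul_left hH.1 hNp)
        have h4 : H.relIndex (H ⊔ N) = 1 := by
          obtain ⟨m, hm⟩ := hH.2
          have h5 : H.relIndex (H ⊔ N) ∣ p ^ m := by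
            rw [← hm]; exact Subgroup.relIndex_dvd_index_of_le le_sup_left
          have h6 : H.relIndex (H ⊔ N) ∣ Nat.card (H ⊔ N : Subgroup G) := Subgroup.relIndex_dvd_card _ _
          exact Nat.eq_one_of_dvd_coprimes (Nat.Coprime.pow_right m h2) h6 h5
        exact le_antisymm (relIndex_eq_one.mp h4) le_sup_left
      rw [h1] at hU'H
      exact hU'H

section
variable {G : Type*} [Group G] [Finite G] {p : ℕ} [hp : Fact p.Prime]

theorem pcompl_exists (hG : Cfsg.IsPSolvable p G) : ∃ H : Subgroup G, IsPCompl p H :=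
  (pcompl_aux _ G rfl hG).1

theorem pcompl_dominance (hG : Cfsg.IsPSolvable p G) {H U : Subgroup G} (hH : IsPCompl p H)
    (hU : (Nat.card U).Coprime p) : ∃ g : G, MulAut.conj g • U ≤ H :=
  (pcompl_aux _ G rfl hG).2 H U hH hU

theorem pcompl_conj (hG : Cfsg.IsPSolvable p G) {H₁ H₂ : Subgroup G} (h₁ : IsPCompl p H₁) (h₂ : IsPCompl p H₂) :
    ∃ g : G, MulAut.conj g • H₁ = H₂ := by
  obtain ⟨g, hg⟩ := pcompl_dominance hG h₂ h₁.1
  refine ⟨g, Subgroup.eq_of_le_of_card_ge hg ?_⟩
  rw [H1.card_conj_smul, isPCompl_card_eq h₁ h₂]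

end

end Cfsg.Agent.H23
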