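import Mathlib

/-!
Jordan bases of nilpotent operators and a lower bound for the dimension of the commutant.
-/

set_option linter.style.haveILetI false

namespace Cfsg.Agent.H23

open Polynomial Module

variable {K V : Type*} [Field K] [AddCommGroup V] [Module K V] [FiniteDimensional K V]

/-- a nilpotent operator has a basis consisting of strings `v, ν v, ν² v, …`. -/
theorem exists_jordan_basis (ν : Module.End K V) {N : ℕ} (hν : ν ^ N = 0) :
    ∃ (m : ℕ) (k : Fin m → ℕ) (v : Fin m → V), (∀ i, (ν ^ (k i)) (v i) = 0) ∧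
      LinearIndependent K (fun x : (Σ i, Fin (k i)) => (ν ^ (x.2 : ℕ)) (v x.1)) ∧
      Submodule.span K (Set.range (fun x : (Σ i, Fin (k i)) => (ν ^ (x.2 : ℕ)) (v x.1))) = ⊤ := by
  classical
  have htor : Module.IsTorsion' (AEval' ν) (Submonoid.powers (X : K[X])) := by
    rw [Submodule.isTorsion'_powers_iff]
    intro x
    refine ⟨N, ?_⟩
    obtain ⟨w, rfl⟩ := (AEval'.of ν).surjective x
    rw [AEval'.X_pow_smul_of, hν]
    simp
  haveI : Module.Finite K[X] (AEval' ν) := inferInstance
  obtain ⟨m, k, ⟨e⟩⟩ := Module.torsion_by_prime_power_decomposition (R := K[X]) (M := AEval' ν)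
    (p := X) Polynomial.irreducible_X htor
  set v : Fin m → V := fun i => (AEval'.of ν).symm (e.symm (DirectSum.of _ i (Submodule.Quotient.mk 1))) with hv
  have hev : ∀ i (f : K[X]), e (f • (AEval'.of ν (v i))) = DirectSum.of _ i (Submodule.Quotient.mk f) := by
    intro i f
    rw [map_smul, hv]
    simp only [LinearEquiv.apply_symm_apply]
    rw [← DirectSum.of_smul, ← Submodule.Quotient.mk_smul, smul_eq_mul, mul_one]
  have hXpow : ∀ i (l : ℕ), AEval'.of ν ((ν ^ l) (v i)) = (X ^ l : K[X]) • (AEval'.of ν (v i)) := by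
    intro i l
    rw [AEval'.X_pow_smul_of]
    rfl
  have haev : ∀ i (f : K[X]), f • (AEval'.of ν (v i)) = AEval'.of ν ((aeval ν f) (v i)) := fun i f => rfl
  have hzero : ∀ i, (ν ^ (k i)) (v i) = 0 := by
    intro i
    apply (AEval'.of ν).injective
    apply e.injective
    rw [hXpow, hev, map_zero, map_zero]
    have : (Submodule.Quotient.mk (X ^ (k i)) : K[X] ⧸ (Submodule.span K[X] {X ^ (k i)})) = 0 := by
      rw [Submodule.Quotient.mk_eq_zero]
      exact Submodule.mem_span_singleton_self _
    rw [this, map_zero]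
  refine ⟨m, k, v, hzero, ?_, ?_⟩
  · rw [Fintype.linearIndependent_iff]
    intro c hc
    set f : Fin m → K[X] := fun i => ∑ l : Fin (k i), C (c ⟨i, l⟩) * X ^ (l : ℕ) with hf
    have h1 : ∑ i, (aeval ν (f i)) (v i) = 0 := by
      rw [← hc, Fintype.sum_sigma]
      apply Finset.sum_congr rfl
      intro i _
      rw [hf]
      simp only [map_sum, map_mul, aeval_C, map_pow, aeval_X, LinearMap.sum_apply, Module.End.mul_apply,
        Module.algebraMap_end_apply]
    have h2 : ∑ i, DirectSum.of (fun i => K[X] ⧸ (Submodule.span K[X] {X ^ (k i)})) i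
        (Submodule.Quotient.mk (f i)) = 0 := by
      have h3 := congrArg (fun w => e (AEval'.of ν w)) h1
      simp only [map_sum, map_zero] at h3
      rw [← h3]
      apply Finset.sum_congr rfl
      intro i _
      rw [← haev, hev]
    rintro ⟨i, l⟩
    have h4 := congrArg (fun w => w i) h2
    have h5 : (Submodule.Quotient.mk (f i) : K[X] ⧸ (Submodule.span K[X] {X ^ (k i)})) = 0 := by
      simp only [DirectSum.sum_apply] at h4
      rw [Finset.sum_eq_single i] at h4
      · rw [DirectSum.of_eq_same] at h4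
        exact h4
      · intro j _ hj
        exact DirectSum.of_eq_of_ne _ _ _ hj.symm
      · intro h; exact absurd (Finset.mem_univ i) h
    rw [Submodule.Quotient.mk_eq_zero, Submodule.mem_span_singleton] at h5
    obtain ⟨g, hg⟩ := h5
    have h6 : X ^ (k i) ∣ f i := ⟨g, by rw [← hg, smul_eq_mul, mul_comm]⟩
    have h7 := (Polynomial.X_pow_dvd_iff.mp h6) l l.2
    rw [hf] at h7
    simp only [finsetSum_coeff, coeff_C_mul_X_pow] at h7
    rw [Finset.sum_eq_single l] at h7
    · simpa using h7
    · intro j _ hj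
      rw [if_neg]
      intro h
      exact hj (Fin.ext h.symm)
    · intro h; exact absurd (Finset.mem_univ l) h
  · rw [eq_top_iff]
    intro w _
    set S := Submodule.span K (Set.range (fun x : (Σ i, Fin (k i)) => (ν ^ (x.2 : ℕ)) (v x.1))) with hS
    have hmem : ∀ i (l : ℕ), (ν ^ l) (v i) ∈ S := by
      intro i l
      by_cases hl : l < k i
      · exact Submodule.subset_span ⟨⟨i, ⟨l, hl⟩⟩, rfl⟩
      · push Not at hl
        obtain ⟨t, rfl⟩ := Nat.exists_eq_add_of_le hl
        rw [add_comm, pow_add, Module.End.mul_apply, hzero, map_zero]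
        exact S.zero_mem
    have hpoly : ∀ i (f : K[X]), (aeval ν f) (v i) ∈ S := by
      intro i f
      rw [aeval_eq_sum_range, LinearMap.sum_apply]
      apply S.sum_mem
      intro l _
      exact S.smul_mem _ (hmem i l)
    have h1 : ∀ z : DirectSum (Fin m) (fun i => K[X] ⧸ (Submodule.span K[X] {X ^ (k i)})),
        (AEval'.of ν).symm (e.symm z) ∈ S := by
      intro z
      induction z using DirectSum.induction_on with
      | zero => rw [map_zero, map_zero]; exact S.zero_mem
      | of i x =>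
        obtain ⟨f, rfl⟩ := Submodule.Quotient.mk_surjective _ x
        rw [← hev, LinearEquiv.symm_apply_apply, haev, LinearEquiv.symm_apply_apply]
        exact hpoly i f
      | add x y hx hy =>
        rw [map_add, map_add]
        exact S.add_mem hx hy
    have h2 := h1 (e (AEval'.of ν w))
    rwa [LinearEquiv.symm_apply_apply, LinearEquiv.symm_apply_apply] at h2

/-- the commutant of an operator -/
def commutant (ν : Module.End K V) : Submodule K (Module.End K V) where
  carrier := {φ | φ * ν = ν * φ}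
  add_mem' := by
    intro a b ha hb
    rw [Set.mem_ofPred_eq] at *
    rw [add_mul, mul_add, ha, hb]
  zero_mem' := by
    rw [Set.mem_ofPred_eq, zero_mul, mul_zero]
  smul_mem' := by
    intro c a ha
    rw [Set.mem_ofPred_eq] at *
    rw [smul_mul_assoc, mul_smul_comm, ha]

omit [FiniteDimensional K V] in
theorem mem_commutant {ν φ : Module.End K V} : φ ∈ commutant ν ↔ φ * ν = ν * φ := Iff.rfl

theorem commutant_ge (ν : Module.End K V) {m : ℕ} (k : Fin m → ℕ) (v : Fin m → V)
    (hzero : ∀ i, (ν ^ (k i)) (v i) = 0)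
    (hli : LinearIndependent K (fun x : (Σ i, Fin (k i)) => (ν ^ (x.2 : ℕ)) (v x.1)))
    (hspan : Submodule.span K (Set.range (fun x : (Σ i, Fin (k i)) => (ν ^ (x.2 : ℕ)) (v x.1))) = ⊤) :
    ∑ i, ∑ j, min (k i) (k j) ≤ Module.finrank K (commutant ν) := by
  classical
  set b : Basis (Σ i, Fin (k i)) K V := Basis.mk hli hspan.ge with hb
  have hbx : ∀ x, b x = (ν ^ (x.2 : ℕ)) (v x.1) := fun x => Basis.mk_apply hli hspan.ge x
  have hzero' : ∀ i (l : ℕ), k i ≤ l → (ν ^ l) (v i) = 0 := by
    intro i l hl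
    obtain ⟨t, rfl⟩ := Nat.exists_eq_add_of_le hl
    rw [add_comm, pow_add, Module.End.mul_apply, hzero, map_zero]
  -- the operators
  set sh : Fin m → Fin m → ℕ := fun i j => k j - min (k i) (k j) with hsh
  set F : (Σ p : Fin m × Fin m, Fin (min (k p.1) (k p.2))) → Module.End K V := fun x =>
    b.constr K (fun y => if y.1 = x.1.1 then (ν ^ ((y.2 : ℕ) + (sh x.1.1 x.1.2 + x.2))) (v x.1.2) else 0)
    with hF
  have hFb : ∀ x y, F x (b y) = if y.1 = x.1.1 then (ν ^ ((y.2 : ℕ) + (sh x.1.1 x.1.2 + x.2))) (v x.1.2)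
      else 0 := by
    intro x y
    rw [hF]
    exact b.constr_basis K _ y
  have hFc : ∀ x, F x ∈ commutant ν := by
    intro x
    rw [mem_commutant]
    apply b.ext
    intro y
    rw [Module.End.mul_apply, Module.End.mul_apply, hFb]
    by_cases hy : (y.2 : ℕ) + 1 < k y.1
    · have h1 : ν (b y) = b ⟨y.1, ⟨y.2 + 1, hy⟩⟩ := by
        rw [hbx, hbx, pow_succ', Module.End.mul_apply]
      rw [h1, hFb]
      split_ifs with h
      · rw [← Module.End.mul_apply, ← pow_succ']
        congr 2
        ring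
      · rw [map_zero]
    · have h1 : ν (b y) = 0 := by
        rw [hbx, ← Module.End.mul_apply, ← pow_succ']
        exact hzero' _ _ (by omega)
      rw [h1, map_zero]
      split_ifs with h
      · rw [← Module.End.mul_apply, ← pow_succ']
        symm
        apply hzero'
        have h2 : (y.2 : ℕ) < k y.1 := y.2.2
        have h3 : k y.1 = k x.1.1 := by rw [h]
        rw [hsh]
        simp only
        omega
      · rw [map_zero]
  have hFli : LinearIndependent K F := by
    rw [Fintype.linearIndependent_iff]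
    intro c hc x
    obtain ⟨⟨i, j⟩, l⟩ := x
    have hl : (l : ℕ) < min (k i) (k j) := l.2
    have hi0 : 0 < k i := by omega
    have h1 := congrArg (fun φ : Module.End K V => b.repr (φ (b ⟨i, ⟨0, hi0⟩⟩))
      ⟨j, ⟨sh i j + l, by rw [hsh]; simp only; omega⟩⟩) hc
    simp only [LinearMap.sum_apply, LinearMap.smul_apply, map_sum, map_smul, Finsupp.coe_finsetSum,
      Finset.sum_apply, Finsupp.smul_apply, smul_eq_mul, LinearMap.zero_apply, map_zero,
      Finsupp.coe_zero, Pi.zero_apply] at h1
    rw [Finset.sum_eq_single ⟨(i, j), l⟩] at h1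
    · rw [hFb] at h1
      simp only [if_true, zero_add] at h1
      have h2 : (ν ^ (sh i j + (l : ℕ))) (v j) = b ⟨j, ⟨sh i j + l, by rw [hsh]; simp only; omega⟩⟩ := by
        rw [hbx]
      rw [h2, b.repr_self, Finsupp.single_eq_same, mul_one] at h1
      exact h1
    · rintro ⟨⟨i', j'⟩, l'⟩ _ hne
      rw [hFb]
      by_cases hii : i = i'
      · subst hii
        simp only [if_true, zero_add]
        have hl' : (l' : ℕ) < min (k i) (k j') := l'.2
        have h2 : (ν ^ (sh i j' + (l' : ℕ))) (v j') =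
            b ⟨j', ⟨sh i j' + l', by rw [hsh]; simp only; omega⟩⟩ := by
          rw [hbx]
        rw [h2, b.repr_self, Finsupp.single_eq_of_ne, mul_zero]
        intro h
        apply hne
        by_cases hjj : j = j'
        · subst hjj
          have h3 := eq_of_heq (Sigma.mk.inj h).2
          have h4 := congrArg Fin.val h3
          simp only at h4
          have h5 : l' = l := Fin.ext (by omega)
          rw [h5]
        · exact absurd (Sigma.mk.inj h).1 (by first | exact hjj | exact Ne.symm hjj)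
      · simp only [if_neg hii, map_zero, Finsupp.coe_zero, Pi.zero_apply, mul_zero]
    · intro h; exact absurd (Finset.mem_univ _) h
  have hF' : LinearIndependent K (fun x => (⟨F x, hFc x⟩ : commutant ν)) := by
    apply LinearIndependent.of_comp (commutant ν).subtype
    exact hFli
  have h1 := hF'.fintype_card_le_finrank
  rw [Fintype.card_sigma, Fintype.sum_prod_type] at h1
  simpa using h1

/-- the arithmetic of block sizes -/
theorem block_arith {m N : ℕ} (k : Fin m → ℕ) (hN : 1 ≤ N) (hk : ∀ i, k i ≤ N)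
    (h : N * (∑ i, ∑ j, min (k i) (k j)) ≤ N - 1 + (∑ i, k i) ^ 2) (hne : ∃ i, 1 ≤ k i) :
    (∃ i, k i = N) ∨ ∃ i, (∀ j, j ≠ i → k j = 0) ∧ (k i = 1 ∨ k i = N - 1) := by
  classical
  by_cases hall : ∃ i, k i = N
  · exact Or.inl hall
  right
  push Not at hall
  have hlt : ∀ i, k i + 1 ≤ N := fun i => lt_of_le_of_ne (hk i) (hall i)
  obtain ⟨i, hi⟩ := hne
  set g : Fin m → Fin m → ℤ := fun i j => N * (min (k i) (k j) : ℕ) - (k i) * (k j) with hg
  have hg0 : ∀ i j, 0 ≤ g i j := by
    intro i j
    rw [hg]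
    simp only
    rcases le_total (k i) (k j) with h1 | h1
    · rw [min_eq_left h1]
      have h2 : ((k j : ℕ) : ℤ) ≤ N := by exact_mod_cast hk j
      have h3 : (0 : ℤ) ≤ k i := by positivity
      nlinarith
    · rw [min_eq_right h1]
      have h2 : ((k i : ℕ) : ℤ) ≤ N := by exact_mod_cast hk i
      have h3 : (0 : ℤ) ≤ k j := by positivity
      nlinarith
  have hsum : ∑ i, ∑ j, g i j ≤ N - 1 := by
    have h1 : ∑ i, ∑ j, g i j = N * ((∑ i, ∑ j, min (k i) (k j) : ℕ) : ℤ) - ((∑ i, k i : ℕ) : ℤ) ^ 2 := by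
      rw [hg]
      simp only [Finset.sum_sub_distrib]
      push_cast
      rw [sq, Finset.sum_mul_sum, Finset.mul_sum]
      congr 1
      apply Finset.sum_congr rfl
      intro i _
      rw [Finset.mul_sum]
    rw [h1]
    have h2 : ((N * (∑ i, ∑ j, min (k i) (k j)) : ℕ) : ℤ) ≤ ((N - 1 + (∑ i, k i) ^ 2 : ℕ) : ℤ) := by
      exact_mod_cast h
    push_cast [hN] at h2
    push_cast
    linarith
  have hgi : (N : ℤ) - 1 ≤ g i i := by
    rw [hg]
    simp only [min_self]
    have h1 : (1 : ℤ) ≤ k i := by exact_mod_cast hi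
    have h2 : ((k i : ℕ) : ℤ) + 1 ≤ N := by exact_mod_cast hlt i
    nlinarith [mul_nonneg (sub_nonneg.mpr h1) (sub_nonneg.mpr h2)]
  have hrow : ∀ i, g i i ≤ ∑ j, g i j := fun i =>
    Finset.single_le_sum (f := fun j => g i j) (fun j _ => hg0 i j) (Finset.mem_univ i)
  have hrow0 : ∀ i, 0 ≤ ∑ j, g i j := fun i => Finset.sum_nonneg (fun j _ => hg0 i j)
  refine ⟨i, ?_, ?_⟩
  · intro j hj
    have h1 : g i i + g j j ≤ ∑ i, ∑ j, g i j := by
      have h2 : ∑ i ∈ {i, j}, ∑ j, g i j ≤ ∑ i, ∑ j, g i j :=
        Finset.sum_le_sum_of_subset_of_nonneg (Finset.subset_univ _) (fun x _ _ => hrow0 x)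
      rw [Finset.sum_pair hj.symm] at h2
      linarith [hrow i, hrow j]
    have h3 : g j j ≤ 0 := by linarith
    by_contra hne
    have h4 : (1 : ℤ) ≤ k j := by exact_mod_cast Nat.one_le_iff_ne_zero.mpr hne
    have h5 : ((k j : ℕ) : ℤ) + 1 ≤ N := by exact_mod_cast hlt j
    rw [hg] at h3
    simp only [min_self] at h3
    nlinarith
  · have h1 : g i i ≤ N - 1 := by
      have h2 : ∑ j, g i j ≤ ∑ i, ∑ j, g i j :=
        Finset.single_le_sum (f := fun i => ∑ j, g i j) (fun x _ => hrow0 x) (Finset.mem_univ i)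
      linarith [hrow i]
    rw [hg] at h1
    simp only [min_self] at h1
    have h3 : ((k i : ℤ) - 1) * (N - 1 - k i) ≤ 0 := by nlinarith
    have h4 : (1 : ℤ) ≤ k i := by exact_mod_cast hi
    have h5 : ((k i : ℕ) : ℤ) + 1 ≤ N := by exact_mod_cast hlt i
    by_contra hcon
    push Not at hcon
    have h6 : (2 : ℤ) ≤ k i := by
      have : 2 ≤ k i := by omega
      exact_mod_cast this
    have h7 : ((k i : ℕ) : ℤ) + 2 ≤ N := by
      have h8 := hlt i
      have : k i + 2 ≤ N := by omega
      exact_mod_cast this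
    nlinarith

/-- If `ν ^ N = 0` and the commutant of `ν` is small, then `ν` has a block of size `N`, or `V` has dimension
`1` or `N - 1` and `ν` is a single block. -/
theorem nilpotent_dichotomy [Nontrivial V] (ν : Module.End K V) {N : ℕ} (hN : 1 ≤ N) (hν : ν ^ N = 0)
    (h : N * Module.finrank K (commutant ν) ≤ N - 1 + (Module.finrank K V) ^ 2) :
    ν ^ (N - 1) ≠ 0 ∨ Module.finrank K V = 1 ∨
      (Module.finrank K V = N - 1 ∧ ∀ t, ν ^ t = 0 → N - 1 ≤ t) := by
  classical
  obtain ⟨m, k, v, hzero, hli, hspan⟩ := exists_jordan_basis ν hν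
  have hnz : ∀ i (t : ℕ), t < k i → (ν ^ t) (v i) ≠ 0 := fun i t ht => hli.ne_zero ⟨i, ⟨t, ht⟩⟩
  have hkN : ∀ i, k i ≤ N := by
    intro i
    by_contra hcon
    push Not at hcon
    apply hnz i N hcon
    rw [hν]; rfl
  have hdim : ∑ i, k i = Module.finrank K V := by
    have h1 := Module.finrank_eq_card_basis (Basis.mk hli hspan.ge)
    rw [h1, Fintype.card_sigma]
    simp
  have hC := commutant_ge ν k v hzero hli hspan
  have hne : ∃ i, 1 ≤ k i := by
    by_contra hcon
    push Not at hcon
    have h1 : Module.finrank K V = 0 := by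
      rw [← hdim]
      exact Finset.sum_eq_zero (fun i _ => by have := hcon i; omega)
    have h2 : 0 < Module.finrank K V := Module.finrank_pos
    omega
  rcases block_arith k hN hkN (by
    rw [hdim]
    exact (Nat.mul_le_mul_left N hC).trans h) hne with ⟨i, hi⟩ | ⟨i, hi, hi'⟩
  · left
    intro h0
    apply hnz i (N - 1) (by omega)
    rw [h0]; rfl
  · right
    have h1 : ∑ j, k j = k i := Finset.sum_eq_single i (fun j _ hj => hi j hj)
      (fun h => absurd (Finset.mem_univ i) h)
    rcases hi' with h2 | h2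
    · left
      rw [← hdim, h1, h2]
    · right
      refine ⟨by rw [← hdim, h1, h2], ?_⟩
      intro t ht
      by_contra hcon
      push Not at hcon
      apply hnz i t (by omega)
      rw [ht]; rfl

end Cfsg.Agent.H23
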