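import Cfsg.Agent.H23.Coprime
import Cfsg.Agent.H23.PSolvable
import Cfsg.Agent.H2.Basic
import Cfsg.Agent.H19.Sylow
import Cfsg.Agent.OOT.Base

set_option autoImplicit false
set_option linter.all false

/-!
# Coprime action on solvable groups: invariant Hall subgroups, seat helper23
-/

namespace Cfsg.Agent.H23

open Subgroup
open scoped Pointwise
open Cfsg (IsPiHallOf)

section
variable {X : Type*} [Group X] [Finite X] {A G : Subgroup X} {π : Set ℕ}

theorem hallOf_conj' {H : Subgroup X} (h : IsPiHallOf π H G) {g : X} (hg : g ∈ normalizer (G : Set X)) :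
    IsPiHallOf π (MulAut.conj g • H) G := by
  have h1 := OOT.IsPiHallOf.cj h g
  have h2 : L.cj g G = G := by
    rw [← OOT.smul_eq_cj]; exact H1.mem_normalizer_iff_conj_smul.mp hg
  rw [h2] at h1
  exact h1

/-- (a) existence of invariant Hall subgroups -/
theorem exists_invariant_hall (hn : A ≤ normalizer (G : Set X)) (hcop : (Nat.card A).Coprime (Nat.card G))
    (hs : Group.IsSolvable G) (π : Set ℕ) : ∃ H, IsPiHallOf π H G ∧ A ≤ normalizer (H : Set X) := by
  obtain ⟨H, hH⟩ := OOT.hallOf_exists hs π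
  obtain ⟨g, hg, h⟩ := exists_conj_invariant hn hcop (Or.inr hs) H (by
    intro a ha
    obtain ⟨g, hg, hgH⟩ := OOT.IsPiHallOf.conj hs (hallOf_conj' hH (hn ha)) hH
    exact ⟨g, hg, hgH.symm⟩)
  exact ⟨_, hallOf_conj' hH (le_normalizer hg), h⟩

/-- (b) conjugacy of invariant Hall subgroups under the fixed points -/
theorem invariant_hall_conj (hn : A ≤ normalizer (G : Set X)) (hcop : (Nat.card A).Coprime (Nat.card G))
    (hs : Group.IsSolvable G) {H₁ H₂ : Subgroup X} (h₁ : IsPiHallOf π H₁ G) (h₁' : A ≤ normalizer (H₁ : Set X))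
    (h₂ : IsPiHallOf π H₂ G) (h₂' : A ≤ normalizer (H₂ : Set X)) :
    ∃ c ∈ G ⊓ centralizer (A : Set X), MulAut.conj c • H₁ = H₂ := by
  obtain ⟨g, hg, hgH⟩ := OOT.IsPiHallOf.conj hs h₂ h₁
  rw [← OOT.smul_eq_cj] at hgH
  obtain ⟨c, hc, hcH⟩ := conj_of_invariant hn hcop (Or.inr hs) H₁ h₁' hg (by rw [hgH]; exact h₂')
  exact ⟨c, hc, by rw [hcH, hgH]⟩

end

/-- the main claim for groups `G` of order `n` -/
def HallClaim.{u} (π : Set ℕ) (n : ℕ) : Prop :=
  ∀ (X : Type u) [Group X] [Finite X] (A G U : Subgroup X), Nat.card G = n → A ≤ normalizer (G : Set X) →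
    (Nat.card A).Coprime (Nat.card G) → Group.IsSolvable G → U ≤ G → A ≤ normalizer (U : Set X) →
    (∀ p : ℕ, p.Prime → p ∣ Nat.card U → p ∈ π) →
    ∃ H, IsPiHallOf π H G ∧ A ≤ normalizer (H : Set X) ∧ U ≤ H

theorem hallClaim_normal.{u} {π : Set ℕ} {n : ℕ} (ih : ∀ m < n, HallClaim.{u} π m)
    (X : Type u) [Group X] [Finite X] (A G U : Subgroup X) [hGn : G.Normal] (hn : Nat.card G = n)
    (hcop : (Nat.card A).Coprime (Nat.card G)) (hs : Group.IsSolvable G) (hUG : U ≤ G)
    (hAU : A ≤ normalizer (U : Set X)) (hU : ∀ p : ℕ, p.Prime → p ∣ Nat.card U → p ∈ π) :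
    ∃ H, IsPiHallOf π H G ∧ A ≤ normalizer (H : Set X) ∧ U ≤ H := by
  have hAG : A ≤ normalizer (G : Set X) := le_normalizer_of_normal
  by_cases hnt : Nontrivial G
  swap
  · rw [not_nontrivial_iff_subsingleton] at hnt
    have hG : G = ⊥ := (Subgroup.eq_bot_iff_forall G).mpr
      (fun x hx => congrArg Subtype.val (Subsingleton.elim (⟨x, hx⟩ : G) 1))
    refine ⟨⊥, ⟨bot_le, ?_, ?_⟩, ?_, hUG.trans hG.le⟩
    · intro p hp hd
      rw [card_bot, Nat.dvd_one] at hd
      exact absurd hd hp.ne_one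
    · intro p hp _ hd
      rw [hG, relIndex_self, Nat.dvd_one] at hd
      exact hp.ne_one hd
    · exact le_normalizer_of_normal
  obtain ⟨q, N', hq, hN'c, hN'1, -, hN'p⟩ := H1.exists_pgroup_characteristic_of_solvable G hs
  haveI := Fact.mk hq
  set N := N'.map G.subtype with hN
  have hNG : N ≤ G := map_subtype_le _
  haveI hNn : N.Normal := inferInstance
  have hNp : IsPGroup q N := hN'p.map _
  have hN1 : N ≠ ⊥ := by
    rw [hN, ne_eq, map_eq_bot_iff_of_injective _ G.subtype_injective]; exact hN'1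
  set f := QuotientGroup.mk' N with hf
  have hfs : Function.Surjective f := QuotientGroup.mk'_surjective N
  have hker : f.ker = N := QuotientGroup.ker_mk' N
  have hcardmap : ∀ K : Subgroup X, N ≤ K → Nat.card (K.map f) * Nat.card N = Nat.card K := by
    intro K hK
    have := H2.card_map_mul_card_inf_ker f K
    rwa [hker, inf_eq_right.mpr hK] at this
  have hcardlt : Nat.card (G.map f) < n := by
    have h1 := hcardmap G hNG
    have h2 : 1 < Nat.card N := (Subgroup.one_lt_card_iff_ne_bot N).mpr hN1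
    have h3 : 0 < Nat.card (G.map f) := Nat.card_pos
    rw [← hn, ← h1]
    exact (Nat.lt_mul_iff_one_lt_right h3).mpr h2
  obtain ⟨K', hK', hAK', hUK'⟩ := ih _ hcardlt (X ⧸ N) (A.map f) (G.map f) (U.map f) rfl
    (by
      haveI : (G.map f).Normal := hGn.map f hfs
      exact le_normalizer_of_normal)
    (Nat.Coprime.coprime_dvd_left (card_map_dvd _ _) (Nat.Coprime.coprime_dvd_right (card_map_dvd _ _) hcop))
    (H1.isSolvable_map _ hs) (map_mono hUG)
    (by
      have := (map_mono hAU : A.map f ≤ _).trans (le_normalizer_map f)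
      exact this)
    (fun p hp hd => hU p hp (hd.trans (card_map_dvd _ _)))
  set K := K'.comap f with hK
  have hNK : N ≤ K := by
    rw [← hker, hK]; exact MonoidHom.ker_le_comap _ _
  have hKG : K ≤ G := by
    intro z hz
    obtain ⟨g, hg, hgz⟩ := hK'.1 hz
    have h1 : g⁻¹ * z ∈ N := by
      rw [← hker, MonoidHom.mem_ker, map_mul, map_inv, hgz, inv_mul_cancel]
    have h2 := mul_mem hg (hNG h1)
    rwa [mul_inv_cancel_left] at h2
  have hKmap : K.map f = K' := map_comap_eq_self_of_surjective hfs K'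
  have hUK : U ≤ K := by
    intro u hu
    exact hUK' ⟨u, hu, rfl⟩
  have hAK : A ≤ normalizer (K : Set X) := by
    intro a ha
    have h1 := hAK' ⟨a, ha, rfl⟩
    rw [mem_normalizer_iff] at h1 ⊢
    intro z
    have := h1 (f z)
    rw [hK, mem_comap, mem_comap, map_mul, map_mul, map_inv]
    exact this
  have hKidx : K.relIndex G = K'.relIndex (G.map f) := by
    have h1 := H19.card_relIndex hKG
    have h2 := H19.card_relIndex hK'.1
    rw [← hcardmap G hNG, ← hcardmap K hNK, hKmap, ← h2] at h1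
    have h3 : (Nat.card K' * Nat.card N) * K.relIndex G = (Nat.card K' * Nat.card N) * K'.relIndex (G.map f) := by
      rw [h1]; ring
    exact Nat.eq_of_mul_eq_mul_left (Nat.mul_pos Nat.card_pos Nat.card_pos) h3
  by_cases hKlt : K = G
  swap
  · have hcardK : Nat.card K < n := by
      rw [← hn]
      refine lt_of_le_of_ne (Subgroup.card_le_of_le hKG) ?_
      intro hcc
      exact hKlt (Subgroup.eq_of_le_of_card_ge hKG hcc.ge)
    obtain ⟨H, hH, hAH, hUH⟩ := ih _ hcardK X A K U rfl hAK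
      (Nat.Coprime.coprime_dvd_right (card_dvd_of_le hKG) hcop) (H1.isSolvable_of_le hKG hs) hUK hAU hU
    refine ⟨H, ⟨hH.1.trans hKG, hH.2.1, ?_⟩, hAH, hUH⟩
    intro p hp hpπ hd
    rw [← Subgroup.relIndex_mul_relIndex H K G hH.1 hKG] at hd
    rcases hp.dvd_mul.1 hd with hd | hd
    · exact hH.2.2 p hp hpπ hd
    · rw [hKidx] at hd
      exact hK'.2.2 p hp hpπ hd
  -- `G / N` is a `π`-group
  have hGN : ∀ p, p.Prime → p ∣ Nat.card (G.map f) → p ∈ π := by
    intro p hp hd
    rw [← hKlt, hKmap] at hd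
    exact hK'.2.1 p hp hd
  by_cases hqπ : q ∈ π
  · refine ⟨G, ⟨le_rfl, ?_, ?_⟩, hAG, hUG⟩
    · intro p hp hd
      rw [← hcardmap G hNG] at hd
      rcases hp.dvd_mul.1 hd with hd | hd
      · exact hGN p hp hd
      · obtain ⟨k, hk⟩ := IsPGroup.iff_card.mp hNp
        rw [hk] at hd
        rw [(Nat.prime_dvd_prime_iff_eq hp hq).mp (hp.dvd_of_dvd_pow hd)]
        exact hqπ
    · intro p hp _ hd
      rw [relIndex_self, Nat.dvd_one] at hd
      exact hp.ne_one hd
  · -- `N` is a `π'`-group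
    have hNπ : ∀ p, p.Prime → p ∣ Nat.card N → p ∉ π := by
      intro p hp hd
      obtain ⟨k, hk⟩ := IsPGroup.iff_card.mp hNp
      rw [hk] at hd
      rw [(Nat.prime_dvd_prime_iff_eq hp hq).mp (hp.dvd_of_dvd_pow hd)]
      exact hqπ
    obtain ⟨H₀, hH₀, hAH₀⟩ := exists_invariant_hall hAG hcop hs π
    have hsupG : N ⊔ H₀ = G := by
      apply Subgroup.eq_of_le_of_card_ge (sup_le hNG hH₀.1)
      have h1 := H19.card_relIndex (sup_le hNG hH₀.1)
      have h2 : (N ⊔ H₀).relIndex G = 1 := by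
        by_contra hne
        obtain ⟨p, hp, hd⟩ := Nat.exists_prime_and_dvd hne
        by_cases hpπ : p ∈ π
        · exact hH₀.2.2 p hp hpπ (hd.trans (Subgroup.relIndex_dvd_of_le_left G le_sup_right))
        · apply hpπ
          apply hGN p hp
          refine hd.trans ((Subgroup.relIndex_dvd_of_le_left G (le_sup_left : N ≤ N ⊔ H₀)).trans ?_)
          have h3 := H19.card_relIndex hNG
          rw [← hcardmap G hNG, mul_comm] at h3
          rw [Nat.eq_of_mul_eq_mul_right Nat.card_pos h3]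
      rw [h2, mul_one] at h1
      exact h1.ge
    set W := U ⊔ N with hW
    have hWG : W ≤ G := sup_le hUG hNG
    set U' := W ⊓ H₀ with hU'
    have hsupW : N ⊔ U' = W := by
      apply le_antisymm (sup_le le_sup_right inf_le_left)
      intro w hw
      obtain ⟨n, hn', h, hh, rfl⟩ := mem_sup_of_normal_left.mp (show w ∈ N ⊔ H₀ by rw [hsupG]; exact hWG hw)
      refine mul_mem (mem_sup_left hn') (mem_sup_right ⟨?_, hh⟩)
      have h1 : n⁻¹ * (n * h) ∈ W := mul_mem (inv_mem ((le_sup_right : N ≤ W) hn')) hw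
      rwa [inv_mul_cancel_left] at h1
    have hhall : ∀ V : Subgroup X, N ⊔ V = W → (∀ p : ℕ, p.Prime → p ∣ Nat.card V → p ∈ π) → IsPiHallOf π V W := by
      intro V hV hVπ
      refine ⟨by rw [← hV]; exact le_sup_right, hVπ, ?_⟩
      intro p hp hpπ hd
      apply hNπ p hp _ hpπ
      refine hd.trans ?_
      have h1 := H2.card_sup_mul_card_inf V N
      rw [sup_comm, inf_comm, hV] at h1
      have h2 := H19.card_relIndex (show V ≤ W by rw [← hV]; exact le_sup_right)
      rw [← h2] at h1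
      have h3 : V.relIndex W * Nat.card (N ⊓ V : Subgroup X) = Nat.card N := by
        have h4 : Nat.card V * (V.relIndex W * Nat.card (N ⊓ V : Subgroup X)) = Nat.card V * Nat.card N := by
          rw [← mul_assoc, h1]
        exact Nat.eq_of_mul_eq_mul_left Nat.card_pos h4
      exact ⟨_, h3.symm⟩
    have hU1 : IsPiHallOf π U W := hhall U (sup_comm _ _) hU
    have hU2 : IsPiHallOf π U' W := hhall U' hsupW
      (fun p hp hd => hH₀.2.1 p hp (hd.trans (card_dvd_of_le inf_le_right)))
    have hAN : A ≤ normalizer (N : Set X) := le_normalizer_of_normal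
    have hAW : A ≤ normalizer (W : Set X) := by
      intro a ha
      rw [H1.mem_normalizer_iff_conj_smul, hW, Subgroup.smul_sup,
        H1.mem_normalizer_iff_conj_smul.1 (hAU ha), H1.mem_normalizer_iff_conj_smul.1 (hAN ha)]
    have hAU' : A ≤ normalizer (U' : Set X) := by
      intro a ha
      rw [H1.mem_normalizer_iff_conj_smul, hU', Subgroup.smul_inf,
        H1.mem_normalizer_iff_conj_smul.1 (hAW ha), H1.mem_normalizer_iff_conj_smul.1 (hAH₀ ha)]
    obtain ⟨c, hc, hcU⟩ := invariant_hall_conj hAW (Nat.Coprime.coprime_dvd_right (card_dvd_of_le hWG) hcop)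
      (H1.isSolvable_of_le hWG hs) hU2 hAU' hU1 hAU
    refine ⟨MulAut.conj c • H₀, hallOf_conj' hH₀ (le_normalizer (hWG hc.1)), ?_, ?_⟩
    · intro a ha
      rw [H1.mem_normalizer_iff_conj_smul, ← mul_smul, ← map_mul]
      have h1 : a * c = c * a := mem_centralizer_iff.mp hc.2 a ha
      rw [h1, map_mul, mul_smul, H1.mem_normalizer_iff_conj_smul.1 (hAH₀ ha)]
    · rw [← hcU]
      exact Subgroup.pointwise_smul_le_pointwise_smul_iff.2 inf_le_right

theorem hallClaim.{u} (π : Set ℕ) (n : ℕ) : HallClaim.{u} π n := by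
  induction n using Nat.strong_induction_on with
  | _ n ih =>
  intro X _ _ A G U hn hAG hcop hs hUG hAU hU
  set Y := normalizer (G : Set X) with hY
  have hGY : G ≤ Y := le_normalizer
  have hUY : U ≤ Y := hUG.trans hGY
  haveI : (G.subgroupOf Y).Normal := by
    rw [hY]
    exact (Subgroup.normal_subgroupOf_iff_le_normalizer hGY).2 le_rfl
  obtain ⟨H, hH, hAH, hUH⟩ := hallClaim_normal ih Y (A.subgroupOf Y) (G.subgroupOf Y) (U.subgroupOf Y)
    (by rw [H1.card_subgroupOf hGY]; exact hn)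
    (by rw [H1.card_subgroupOf hGY, H1.card_subgroupOf hAG]; exact hcop)
    (H1.isSolvable_subgroupOf hGY hs) (by
      intro z hz; exact hUG hz)
    (by
      intro a ha
      rw [mem_normalizer_iff]
      intro z
      exact mem_normalizer_iff.mp (hAU ha) z)
    (by rw [H1.card_subgroupOf hUY]; exact hU)
  refine ⟨H.map Y.subtype, ?_, ?_, ?_⟩
  · refine ⟨?_, ?_, ?_⟩
    · rintro _ ⟨h, hh, rfl⟩
      exact hH.1 hh
    · intro p hp hd
      rw [H1.card_map_subtype] at hd
      exact hH.2.1 p hp hd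
    · intro p hp hpπ hd
      have h1 : (G.subgroupOf Y).map Y.subtype = G := by
        rw [subgroupOf_map_subtype, inf_eq_left.mpr hGY]
      rw [← h1, Subgroup.relIndex_map_map_of_injective _ _ Y.subtype_injective] at hd
      exact hH.2.2 p hp hpπ hd
  · intro a ha
    have h1 := hAH (show (⟨a, hAG ha⟩ : Y) ∈ A.subgroupOf Y from ha)
    exact le_normalizer_map Y.subtype ⟨_, h1, rfl⟩
  · intro u hu
    exact ⟨⟨u, hUY hu⟩, hUH hu, rfl⟩

/-- (c) -/
theorem exists_invariant_hall_ge {X : Type*} [Group X] [Finite X] {A G U : Subgroup X} {π : Set ℕ}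
    (hAG : A ≤ normalizer (G : Set X)) (hcop : (Nat.card A).Coprime (Nat.card G)) (hs : Group.IsSolvable G)
    (hUG : U ≤ G) (hAU : A ≤ normalizer (U : Set X)) (hU : ∀ p : ℕ, p.Prime → p ∣ Nat.card U → p ∈ π) :
    ∃ H, IsPiHallOf π H G ∧ A ≤ normalizer (H : Set X) ∧ U ≤ H :=
  hallClaim π _ X A G U rfl hAG hcop hs hUG hAU hU

end Cfsg.Agent.H23
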