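import Mathlib
import Cfsg.Agent.H23.JordanNilp
import Cfsg.Agent.H13.Burnside

/-!
Hall-Higman: the critical configuration (class-2 group acting irreducibly, cyclic group of automorphisms acting
freely modulo the scalars).
-/

set_option linter.style.haveILetI false
set_option linter.unusedSectionVars false

namespace Cfsg.Agent.H23

open Module Subgroup

variable {K : Type*} [Field K] {Q : Type*} [Group Q] {W : Type*} [AddCommGroup W] [Module K W]

theorem hom_mul_inv_cancel (σ : Q →* Module.End K W) (u : Q) : σ u * σ u⁻¹ = 1 := by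
  rw [← map_mul, mul_inv_cancel, map_one]

theorem hom_inv_mul_cancel (σ : Q →* Module.End K W) (u : Q) : σ u⁻¹ * σ u = 1 := by
  rw [← map_mul, inv_mul_cancel, map_one]

section schur
variable [FiniteDimensional K W]

/-- Schur's lemma -/
theorem schur_scalar [IsAlgClosed K] [Nontrivial W] (σ : Q →* Module.End K W)
    (hirr : ∀ S : Submodule K W, (∀ u, ∀ w ∈ S, σ u w ∈ S) → S = ⊥ ∨ S = ⊤) (φ : Module.End K W)
    (hφ : ∀ u, φ * σ u = σ u * φ) : ∃ c : K, φ = c • 1 := by
  obtain ⟨c, hc⟩ := Module.End.exists_eigenvalue φ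
  refine ⟨c, ?_⟩
  have h1 := hirr (Module.End.eigenspace φ c) (by
    intro u w hw
    rw [Module.End.mem_eigenspace_iff] at hw ⊢
    have h2 : φ (σ u w) = σ u (φ w) := by
      have := congrArg (fun f : Module.End K W => f w) (hφ u)
      simpa using this
    rw [h2, hw, map_smul])
  rcases h1 with h1 | h1
  · exact absurd h1 hc
  · apply LinearMap.ext
    intro w
    have h2 : w ∈ Module.End.eigenspace φ c := by rw [h1]; exact Submodule.mem_top
    rw [Module.End.mem_eigenspace_iff] at h2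
    rw [h2]
    rfl

variable [Finite Q]

/-- averaging a linear map over the group gives a scalar determined by the trace -/
theorem schur_average [IsAlgClosed K] [Nontrivial W] [Fintype Q] (σ : Q →* Module.End K W)
    (hirr : ∀ S : Submodule K W, (∀ u, ∀ w ∈ S, σ u w ∈ S) → S = ⊥ ∨ S = ⊤) (ψ : Module.End K W) :
    (finrank K W : K) • ∑ u : Q, σ u * ψ * σ u⁻¹ = ((Fintype.card Q : K) * LinearMap.trace K W ψ) • 1 := by
  obtain ⟨c, hc⟩ := schur_scalar σ hirr (∑ u : Q, σ u * ψ * σ u⁻¹) (by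
    intro v
    rw [Finset.sum_mul, Finset.mul_sum]
    refine Fintype.sum_equiv (Equiv.mulLeft v⁻¹) _ _ ?_
    intro u
    simp only [Equiv.coe_mulLeft]
    rw [mul_inv_rev, inv_inv, map_mul, map_mul]
    rw [← mul_assoc (σ v), ← mul_assoc (σ v), ← mul_assoc (σ v), hom_mul_inv_cancel σ v, one_mul, mul_assoc])
  have h1 := congrArg (LinearMap.trace K W) hc
  rw [map_sum, map_smul, LinearMap.trace_one] at h1
  have h2 : ∀ u : Q, LinearMap.trace K W (σ u * ψ * σ u⁻¹) = LinearMap.trace K W ψ := by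
    intro u
    rw [LinearMap.trace_mul_comm, ← mul_assoc, hom_inv_mul_cancel, one_mul]
  simp only [h2, Finset.sum_const, Finset.card_univ, nsmul_eq_mul, smul_eq_mul] at h1
  rw [hc, h1, smul_smul, mul_comm]

theorem finrank_ne_zero_of_irr [IsAlgClosed K] [Nontrivial W] (σ : Q →* Module.End K W)
    (hirr : ∀ S : Submodule K W, (∀ u, ∀ w ∈ S, σ u w ∈ S) → S = ⊥ ∨ S = ⊤)
    (hcard : (Nat.card Q : K) ≠ 0) : (finrank K W : K) ≠ 0 := by
  haveI := Fintype.ofFinite Q
  intro h0
  have h1 : ∀ ψ : Module.End K W, LinearMap.trace K W ψ = 0 := by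
    intro ψ
    have h2 := schur_average σ hirr ψ
    rw [h0, zero_smul] at h2
    have h3 : (Fintype.card Q : K) * LinearMap.trace K W ψ = 0 := by
      by_contra hne
      have : (1 : Module.End K W) = 0 := by
        rw [← inv_smul_smul₀ hne (1 : Module.End K W), ← h2, smul_zero]
      exact one_ne_zero this
    rw [← Nat.card_eq_fintype_card] at h3
    exact (mul_eq_zero.mp h3).resolve_left hcard
  set b := Module.finBasis K W with hb
  have hpos : 0 < finrank K W := finrank_pos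
  have h2 := h1 (b.constr K (fun i => if i = ⟨0, hpos⟩ then b i else 0))
  rw [LinearMap.trace_eq_matrix_trace K b, Matrix.trace] at h2
  simp only [Matrix.diag_apply, LinearMap.toMatrix_apply, Basis.constr_basis] at h2
  rw [Finset.sum_eq_single ⟨0, hpos⟩] at h2
  · simp at h2
  · intro i _ hi
    simp [hi]
  · intro h; exact absurd (Finset.mem_univ _) h

/-- expansion of an operator in terms of the representing operators -/
theorem expansion [IsAlgClosed K] [Nontrivial W] [Fintype Q] (σ : Q →* Module.End K W)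
    (hirr : ∀ S : Submodule K W, (∀ u, ∀ w ∈ S, σ u w ∈ S) → S = ⊥ ∨ S = ⊤)
    (hcard : (Nat.card Q : K) ≠ 0) (φ : Module.End K W) :
    ∑ t : Q, (LinearMap.trace K W (φ * σ t⁻¹)) • σ t =
      ∑ u : Q, (LinearMap.trace K W (σ u⁻¹)) • (σ u * φ) := by
  have hq : (Fintype.card Q : K) ≠ 0 := by rwa [← Nat.card_eq_fintype_card]
  have h1 : ∀ t : Q, ((Fintype.card Q : K) * LinearMap.trace K W (φ * σ t⁻¹)) • σ t =
      (finrank K W : K) • ∑ u : Q, (σ u * φ * (σ t⁻¹ * σ u⁻¹ * σ t)) := by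
    intro t
    have h2 := congrArg (fun ψ => ψ * σ t) (schur_average σ hirr (φ * σ t⁻¹))
    simp only [smul_mul_assoc, one_mul] at h2
    rw [← h2, Finset.sum_mul]
    simp only [mul_assoc]
  have h3 : ∀ u : Q, (finrank K W : K) • ∑ t : Q, (σ t⁻¹ * σ u⁻¹ * σ t) =
      ((Fintype.card Q : K) * LinearMap.trace K W (σ u⁻¹)) • 1 := by
    intro u
    rw [← schur_average σ hirr (σ u⁻¹)]
    congr 1
    refine Fintype.sum_equiv (Equiv.inv Q) _ _ ?_
    intro t
    simp
  have h4 : (Fintype.card Q : K) • ∑ t : Q, (LinearMap.trace K W (φ * σ t⁻¹)) • σ t =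
      (Fintype.card Q : K) • ∑ u : Q, (LinearMap.trace K W (σ u⁻¹)) • (σ u * φ) := by
    rw [Finset.smul_sum, Finset.smul_sum]
    calc ∑ t : Q, (Fintype.card Q : K) • (LinearMap.trace K W (φ * σ t⁻¹)) • σ t
        = ∑ t : Q, (finrank K W : K) • ∑ u : Q, (σ u * φ * (σ t⁻¹ * σ u⁻¹ * σ t)) := by
          apply Finset.sum_congr rfl
          intro t _
          rw [smul_smul, h1]
      _ = (finrank K W : K) • ∑ u : Q, (σ u * φ) * ∑ t : Q, (σ t⁻¹ * σ u⁻¹ * σ t) := by
          rw [← Finset.smul_sum, Finset.sum_comm]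
          congr 1
          apply Finset.sum_congr rfl
          intro u _
          rw [Finset.mul_sum]
      _ = ∑ u : Q, (Fintype.card Q : K) • (LinearMap.trace K W (σ u⁻¹)) • (σ u * φ) := by
          rw [Finset.smul_sum]
          apply Finset.sum_congr rfl
          intro u _
          rw [← mul_smul_comm, h3, mul_smul_comm, mul_one, smul_smul]
  exact smul_right_injective _ hq h4

end schur

/-! ### class two -/

section class2
variable [FiniteDimensional K W] [IsAlgClosed K] [Nontrivial W] [Finite Q]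

theorem trace_eq_zero_of_not_mem (σ : Q →* Module.End K W) (Y : Subgroup Q)
    (hY : ∀ y ∈ Y, ∃ c : K, σ y = c • 1) (hcomm : ∀ u t : Q, u * t * u⁻¹ * t⁻¹ ∈ Y)
    (hnd : ∀ u, u ∉ Y → ∃ t, σ (u * t * u⁻¹ * t⁻¹) ≠ 1) {u : Q} (hu : u ∉ Y) :
    LinearMap.trace K W (σ u) = 0 := by
  obtain ⟨t, ht⟩ := hnd u hu
  obtain ⟨c, hc⟩ := hY _ (hcomm u t)
  have hc1 : c ≠ 1 := by
    rintro rfl
    apply ht
    rw [hc, one_smul]
  have h1 : σ u * σ t = c • (σ t * σ u) := by
    have h2 : u * t = (u * t * u⁻¹ * t⁻¹) * (t * u) := by group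
    rw [← map_mul, h2, map_mul, hc, smul_mul_assoc, one_mul, map_mul]
  have h2 : σ u = c • (σ t * σ u * σ t⁻¹) := by
    calc σ u = σ u * σ t * σ t⁻¹ := by rw [mul_assoc, hom_mul_inv_cancel, mul_one]
      _ = _ := by rw [h1, smul_mul_assoc]
  have h3 := congrArg (LinearMap.trace K W) h2
  rw [map_smul, LinearMap.trace_mul_comm, ← mul_assoc, hom_inv_mul_cancel, one_mul, smul_eq_mul] at h3
  have h4 : (c - 1) * LinearMap.trace K W (σ u) = 0 := by
    rw [sub_mul, one_mul, ← h3, sub_self]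
  exact (mul_eq_zero.mp h4).resolve_left (sub_ne_zero.mpr hc1)

theorem trace_mul_of_mem (σ : Q →* Module.End K W) (Y : Subgroup Q)
    (hY : ∀ y ∈ Y, ∃ c : K, σ y = c • 1) {u : Q} (hu : u ∈ Y) :
    (LinearMap.trace K W (σ u⁻¹)) • (σ u) = (finrank K W : K) • (1 : Module.End K W) := by
  obtain ⟨c, hc⟩ := hY u hu
  obtain ⟨c', hc'⟩ := hY u⁻¹ (Y.inv_mem hu)
  have h1 : c * c' = 1 := by
    have h2 := hom_mul_inv_cancel σ u
    rw [hc, hc', smul_mul_smul_comm, one_mul] at h2
    have h3 : (c * c' - 1) • (1 : Module.End K W) = 0 := by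
      rw [sub_smul, h2, one_smul, sub_self]
    rcases smul_eq_zero.mp h3 with h4 | h4
    · exact sub_eq_zero.mp h4
    · exact absurd h4 one_ne_zero
  rw [hc, hc', map_smul, LinearMap.trace_one, smul_smul, smul_eq_mul]
  congr 1
  calc c' * (finrank K W : K) * c = (finrank K W : K) * (c * c') := by ring
    _ = _ := by rw [h1, mul_one]

theorem sum_trace_smul [Fintype Q] (σ : Q →* Module.End K W) (Y : Subgroup Q)
    (hY : ∀ y ∈ Y, ∃ c : K, σ y = c • 1) (hcomm : ∀ u t : Q, u * t * u⁻¹ * t⁻¹ ∈ Y)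
    (hnd : ∀ u, u ∉ Y → ∃ t, σ (u * t * u⁻¹ * t⁻¹) ≠ 1) (φ : Module.End K W) :
    ∑ u : Q, (LinearMap.trace K W (σ u⁻¹)) • (σ u * φ) = ((Nat.card Y : K) * (finrank K W : K)) • φ := by
  classical
  have h1 : ∀ u : Q, (LinearMap.trace K W (σ u⁻¹)) • (σ u * φ) =
      if u ∈ Y then (finrank K W : K) • φ else 0 := by
    intro u
    split_ifs with hu
    · rw [← smul_mul_assoc, trace_mul_of_mem σ Y hY hu, smul_mul_assoc, one_mul]
    · have hu' : u⁻¹ ∉ Y := fun h => hu (Y.inv_mem_iff.mp h)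
      rw [trace_eq_zero_of_not_mem σ Y hY hcomm hnd hu', zero_smul]
  simp only [h1]
  rw [← Finset.sum_filter, Finset.sum_const, ← Nat.cast_smul_eq_nsmul K, smul_smul]
  congr 3
  rw [Nat.card_eq_fintype_card, ← Fintype.card_subtype]

theorem eq_zero_of_trace_eq_zero (σ : Q →* Module.End K W)
    (hirr : ∀ S : Submodule K W, (∀ u, ∀ w ∈ S, σ u w ∈ S) → S = ⊥ ∨ S = ⊤) (Y : Subgroup Q)
    (hY : ∀ y ∈ Y, ∃ c : K, σ y = c • 1) (hcomm : ∀ u t : Q, u * t * u⁻¹ * t⁻¹ ∈ Y)
    (hnd : ∀ u, u ∉ Y → ∃ t, σ (u * t * u⁻¹ * t⁻¹) ≠ 1) (hcard : (Nat.card Q : K) ≠ 0)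
    {φ : Module.End K W} (hφ : ∀ u, LinearMap.trace K W (φ * σ u⁻¹) = 0) : φ = 0 := by
  haveI := Fintype.ofFinite Q
  have h1 := expansion σ hirr hcard φ
  rw [sum_trace_smul σ Y hY hcomm hnd] at h1
  simp only [hφ, zero_smul, Finset.sum_const_zero] at h1
  have h2 : ((Nat.card Y : K) * (finrank K W : K)) ≠ 0 := by
    apply mul_ne_zero
    · intro h
      apply hcard
      rw [← Y.card_mul_index, Nat.cast_mul, h, zero_mul]
    · exact finrank_ne_zero_of_irr σ hirr hcard
  exact ((smul_eq_zero.mp h1.symm).resolve_left h2)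

theorem finrank_le_of_traces {ι : Type*} [Fintype ι] (σ : Q →* Module.End K W)
    (S : Submodule K (Module.End K W)) (R : ι → Q)
    (hR : ∀ φ ∈ S, (∀ i, LinearMap.trace K W (φ * σ (R i)⁻¹) = 0) → φ = 0) :
    finrank K S ≤ Fintype.card ι := by
  set L : S →ₗ[K] (ι → K) :=
    { toFun := fun φ i => LinearMap.trace K W ((φ : Module.End K W) * σ (R i)⁻¹)
      map_add' := by
        intro a b
        funext i
        simp [add_mul]
      map_smul' := by
        intro c a
        funext i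
        simp } with hL
  have hinj : Function.Injective L := by
    rw [← LinearMap.ker_eq_bot, LinearMap.ker_eq_bot']
    intro φ hφ
    apply Subtype.ext
    exact hR φ φ.2 (fun i => congrFun hφ i)
  have h1 := LinearMap.finrank_le_finrank_of_injective hinj
  rwa [Module.finrank_fintype_fun_eq_card] at h1

theorem normal_of_comm {Y : Subgroup Q} (hcomm : ∀ u t : Q, u * t * u⁻¹ * t⁻¹ ∈ Y) : Y.Normal := by
  constructor
  intro n hn g
  have h1 := Y.mul_mem (hcomm g n) hn
  have h2 : g * n * g⁻¹ * n⁻¹ * n = g * n * g⁻¹ := by group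
  rwa [h2] at h1

theorem index_eq_sq (σ : Q →* Module.End K W)
    (hirr : ∀ S : Submodule K W, (∀ u, ∀ w ∈ S, σ u w ∈ S) → S = ⊥ ∨ S = ⊤) (Y : Subgroup Q)
    (hY : ∀ y ∈ Y, ∃ c : K, σ y = c • 1) (hcomm : ∀ u t : Q, u * t * u⁻¹ * t⁻¹ ∈ Y)
    (hnd : ∀ u, u ∉ Y → ∃ t, σ (u * t * u⁻¹ * t⁻¹) ≠ 1) (hcard : (Nat.card Q : K) ≠ 0) :
    Y.index = (finrank K W) ^ 2 := by
  classical
  haveI := Fintype.ofFinite Q
  haveI : Fintype (Q ⧸ Y) := Fintype.ofFinite _
  have hYn := normal_of_comm hcomm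
  have hd := finrank_ne_zero_of_irr σ hirr hcard
  have hEnd : finrank K (Module.End K W) = (finrank K W) ^ 2 := by
    rw [Module.finrank_linearMap, sq]
  have hidx : Y.index = Fintype.card (Q ⧸ Y) := by
    rw [Subgroup.index, Nat.card_eq_fintype_card]
  apply le_antisymm
  · rw [← hEnd, hidx]
    have hli : LinearIndependent K (fun q : Q ⧸ Y => σ q.out) := by
      rw [Fintype.linearIndependent_iff]
      intro c hc q₀
      have h1 := congrArg (fun φ => LinearMap.trace K W (φ * σ (q₀.out)⁻¹)) hc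
      simp only [Finset.sum_mul, map_sum, smul_mul_assoc, map_smul, zero_mul, map_zero, smul_eq_mul,
        ← map_mul] at h1
      rw [Finset.sum_eq_single q₀] at h1
      · rw [mul_inv_cancel, map_one, LinearMap.trace_one] at h1
        exact (mul_eq_zero.mp h1).resolve_right hd
      · intro q _ hq
        rw [trace_eq_zero_of_not_mem σ Y hY hcomm hnd, mul_zero]
        intro h
        apply hq
        have h2 : (q.out)⁻¹ * q₀.out ∈ Y := by
          have h3 := hYn.conj_mem _ (Y.inv_mem h) (q.out)⁻¹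
          have h4 : (q.out)⁻¹ * (q.out * (q₀.out)⁻¹)⁻¹ * ((q.out)⁻¹)⁻¹ = (q.out)⁻¹ * q₀.out := by group
          rwa [h4] at h3
        rw [← QuotientGroup.out_eq' q, ← QuotientGroup.out_eq' q₀]
        exact QuotientGroup.eq.mpr h2
      · intro h; exact absurd (Finset.mem_univ _) h
    exact hli.fintype_card_le_finrank
  · rw [← hEnd, hidx]
    have h1 := finrank_le_of_traces σ (⊤ : Submodule K (Module.End K W)) (fun q : Q ⧸ Y => q.out) (by
      intro φ _ hφ
      apply eq_zero_of_trace_eq_zero σ hirr Y hY hcomm hnd hcard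
      intro u
      obtain ⟨y, hy⟩ := QuotientGroup.mk_out_eq_mul Y u
      have h2 := hφ (u : Q ⧸ Y)
      obtain ⟨c, hc⟩ := hY y y.2
      have h3 : u⁻¹ = (y : Q) * ((u : Q ⧸ Y).out)⁻¹ := by
        rw [hy]; group
      have h5 : σ ((y : Q) * ((u : Q ⧸ Y).out)⁻¹) = c • σ ((u : Q ⧸ Y).out)⁻¹ := by
        rw [map_mul σ, hc, smul_mul_assoc, one_mul]
      rw [h3, h5, mul_smul_comm, map_smul, h2, smul_zero])
    rwa [finrank_top] at h1

/-- representatives of the orbits of an automorphism acting freely on `Q/Y` -/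
theorem exists_orbit_reps (Y : Subgroup Q) [Y.Normal] (τ : MulAut Q) (hτY : ∀ y ∈ Y, τ y ∈ Y) {N : ℕ}
    (hN : 0 < N) (hτN : τ ^ N = 1)
    (hfree : ∀ i : ℕ, 0 < i → i < N → ∀ u, (τ ^ i) u * u⁻¹ ∈ Y → u ∈ Y) (hne : Y ≠ ⊤) :
    ∃ (m : ℕ) (R : Fin m → Q), N * m = N - 1 + Y.index ∧
      ∀ u : Q, ∃ (i : Fin m) (j : ℕ) (y : Q), y ∈ Y ∧ u = (τ ^ j) (R i) * y := by
  classical
  haveI : Finite (Q ⧸ Y) := inferInstance
  have hpowY : ∀ (j : ℕ), ∀ y ∈ Y, (τ ^ j) y ∈ Y := by
    intro j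
    induction j with
    | zero => intro y hy; simpa using hy
    | succ j ih =>
      intro y hy
      rw [pow_succ', MulAut.mul_apply]
      exact hτY _ (ih y hy)
  set π₀ : Q ⧸ Y →* Q ⧸ Y := QuotientGroup.map Y Y τ.toMonoidHom (fun y hy => hτY y hy) with hπ₀
  have hπm : ∀ u : Q, π₀ (u : Q ⧸ Y) = ((τ u : Q) : Q ⧸ Y) := fun u => rfl
  have hπsurj : Function.Surjective π₀ := by
    intro q
    obtain ⟨u, rfl⟩ := QuotientGroup.mk_surjective q
    exact ⟨((τ.symm u : Q) : Q ⧸ Y), by rw [hπm]; simp⟩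
  have hπbij : Function.Bijective π₀ := Finite.surjective_iff_bijective.mp hπsurj
  set π : Equiv.Perm (Q ⧸ Y) := Equiv.ofBijective π₀ hπbij with hπ
  have hπpow : ∀ (j : ℕ) (u : Q), (π ^ j) (u : Q ⧸ Y) = (((τ ^ j) u : Q) : Q ⧸ Y) := by
    intro j
    induction j with
    | zero => intro u; simp
    | succ j ih =>
      intro u
      rw [pow_succ', Equiv.Perm.mul_apply, ih, pow_succ', MulAut.mul_apply]
      rfl
  have hπN : π ^ N = 1 := by
    ext q
    obtain ⟨u, rfl⟩ := QuotientGroup.mk_surjective q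
    rw [hπpow, hτN]
    rfl
  have hfix : ∀ j : ℕ, 0 < j → j < N → ∀ q, (π ^ j) q = q → q = 1 := by
    intro j hj hjN q hq
    obtain ⟨u, rfl⟩ := QuotientGroup.mk_surjective q
    rw [hπpow] at hq
    rw [QuotientGroup.eq_one_iff]
    apply hfree j hj hjN
    have h1 := QuotientGroup.eq.mp hq.symm
    have h2 := (inferInstance : Y.Normal).conj_mem _ h1 u
    have h3 : u * (u⁻¹ * (τ ^ j) u) * u⁻¹ = (τ ^ j) u * u⁻¹ := by group
    rwa [h3] at h2
  have hord : orderOf π = N := by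
    apply le_antisymm
    · exact orderOf_le_of_pow_eq_one hN hπN
    · by_contra hcon
      push Not at hcon
      apply hne
      rw [eq_top_iff]
      intro u _
      rw [← QuotientGroup.eq_one_iff]
      exact hfix (orderOf π) (orderOf_pos π) hcon _ (by rw [pow_orderOf_eq_one]; rfl)
  set A := Subgroup.zpowers π with hA
  haveI : Finite A := inferInstance
  haveI : Fintype A := Fintype.ofFinite _
  have hcardA : Nat.card A = N := by rw [hA, Nat.card_zpowers, hord]
  have hburn := Cfsg.Agent.H13.sum_card_fixedBy (G := A) (Ω := Q ⧸ Y)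
  have hone : Nat.card (MulAction.fixedBy (Q ⧸ Y) (1 : A)) = Y.index := by
    rw [Subgroup.index]
    apply Nat.card_congr
    exact (Equiv.subtypeUnivEquiv (fun q => by simp [MulAction.mem_fixedBy]))
  have hother : ∀ g : A, g ≠ 1 → Nat.card (MulAction.fixedBy (Q ⧸ Y) g) = 1 := by
    intro g hg
    obtain ⟨j, hj⟩ := (mem_powers_iff_mem_zpowers.mpr g.2)
    have hj' : π ^ (j % N) = g := by
      rw [← hord, pow_mod_orderOf]; exact hj
    have hj0 : 0 < j % N := by
      rw [Nat.pos_iff_ne_zero]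
      intro h
      apply hg
      ext1
      rw [← hj', h, pow_zero]
      rfl
    rw [Nat.card_eq_one_iff_unique]
    refine ⟨⟨?_⟩, ⟨⟨1, ?_⟩⟩⟩
    · intro a b
      have ha := hfix (j % N) hj0 (Nat.mod_lt _ hN) a.1 (by rw [hj']; exact a.2)
      have hb := hfix (j % N) hj0 (Nat.mod_lt _ hN) b.1 (by rw [hj']; exact b.2)
      exact Subtype.ext (by rw [ha, hb])
    · rw [MulAction.mem_fixedBy]
      change (g : Equiv.Perm (Q ⧸ Y)) 1 = 1
      rw [← hj']
      have := hπpow (j % N) 1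
      rw [map_one] at this
      exact this
  have hsum : ∑ g : A, Nat.card (MulAction.fixedBy (Q ⧸ Y) g) = Y.index + (N - 1) := by
    rw [← Finset.add_sum_erase _ _ (Finset.mem_univ (1 : A)), hone]
    congr 1
    rw [Finset.sum_congr rfl (fun g hg => hother g (Finset.ne_of_mem_erase hg)), Finset.sum_const,
      Finset.card_erase_of_mem (Finset.mem_univ _), Finset.card_univ, ← Nat.card_eq_fintype_card, hcardA]
    simp
  rw [hsum, hcardA] at hburn
  set Ω := MulAction.orbitRel.Quotient A (Q ⧸ Y) with hΩ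
  haveI : Finite Ω := inferInstance
  refine ⟨Nat.card Ω, fun i => ((Finite.equivFin Ω).symm i).out.out, ?_, ?_⟩
  · rw [mul_comm, ← hburn, add_comm]
  · intro u
    set ω : Ω := Quotient.mk'' (u : Q ⧸ Y) with hω
    refine ⟨Finite.equivFin Ω ω, ?_⟩
    simp only [Equiv.symm_apply_apply]
    have h1 : (ω.out : Q ⧸ Y) ∈ MulAction.orbit A (u : Q ⧸ Y) := by
      have h2 : (Quotient.mk'' ω.out : Ω) = Quotient.mk'' (u : Q ⧸ Y) := by
        rw [← hω]; exact Quotient.out_eq' ω
      exact Quotient.eq''.mp h2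
    obtain ⟨g, hg⟩ := MulAction.mem_orbit_symm.mp h1
    obtain ⟨j, hj⟩ := (mem_powers_iff_mem_zpowers.mpr g.2)
    have h3 : (π ^ j) ω.out = (u : Q ⧸ Y) := by
      rw [← hg]
      change (π ^ j) ω.out = (g : Equiv.Perm (Q ⧸ Y)) ω.out
      rw [← hj]
    rw [← QuotientGroup.out_eq' ω.out, hπpow] at h3
    have h4 := QuotientGroup.eq.mp h3
    exact ⟨j, _, h4, by group⟩

end class2

end Cfsg.Agent.H23
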