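import Mathlib
import Cfsg.Agent.H23.HHCore

/-!
Hall-Higman, continued: the operator inducing the automorphism, and its minimal polynomial.
-/

set_option linter.style.haveILetI false
set_option linter.unusedSectionVars false

namespace Cfsg.Agent.H23

open Module Subgroup

section general

variable {K : Type*} [Field K] {Q : Type*} [Group Q] {U : Type*} [AddCommGroup U] [Module K U]

theorem intertwine_pow (ρ : Q →* Module.End K U) (τ : MulAut Q) (X : Module.End K U)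
    (hX : ∀ u, X * ρ u = ρ (τ u) * X) (j : ℕ) : ∀ u, X ^ j * ρ u = ρ ((τ ^ j) u) * X ^ j := by
  induction j with
  | zero => intro u; simp
  | succ j ih =>
    intro u
    rw [pow_succ', mul_assoc, ih, ← mul_assoc, hX, mul_assoc, ← pow_succ', pow_succ' τ, MulAut.mul_apply]

theorem mulAut_pow_char (τ : MulAut Q) (Y : Subgroup Q) (hτY : ∀ y ∈ Y, τ y ∈ Y) (j : ℕ) :
    ∀ y ∈ Y, (τ ^ j) y ∈ Y := by
  induction j with
  | zero => intro y hy; simpa using hy
  | succ j ih =>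
    intro y hy
    rw [pow_succ', MulAut.mul_apply]
    exact hτY _ (ih y hy)

end general

variable {K : Type*} [Field K] {Q : Type*} [Group Q] {W : Type*} [AddCommGroup W] [Module K W]
variable [FiniteDimensional K W] [IsAlgClosed K] [Nontrivial W] [Finite Q]

theorem trace_tau (σ : Q →* Module.End K W) (τ : MulAut Q) {T T' φ : Module.End K W}
    (hT : ∀ u, T * σ u = σ (τ u) * T) (h1 : T * T' = 1) (h2 : T' * T = 1) (hφ : φ * T = T * φ) (v : Q) :
    LinearMap.trace K W (φ * σ (τ v)) = LinearMap.trace K W (φ * σ v) := by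
  have h3 : σ (τ v) = T * σ v * T' := by rw [hT, mul_assoc, h1, mul_one]
  have h4 : φ * (T * σ v * T') = (φ * T * σ v) * T' := by simp only [mul_assoc]
  rw [h3, h4, LinearMap.trace_mul_comm]
  have h5 : T' * (φ * T * σ v) = φ * σ v := by
    rw [hφ]
    calc T' * (T * φ * σ v) = (T' * T) * (φ * σ v) := by simp only [mul_assoc]
      _ = _ := by rw [h2, one_mul]
  rw [h5]

theorem core_commutant (σ : Q →* Module.End K W)
    (hirr : ∀ S : Submodule K W, (∀ u, ∀ w ∈ S, σ u w ∈ S) → S = ⊥ ∨ S = ⊤) (Y : Subgroup Q)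
    (hY : ∀ y ∈ Y, ∃ c : K, σ y = c • 1) (hcomm : ∀ u t : Q, u * t * u⁻¹ * t⁻¹ ∈ Y)
    (hnd : ∀ u, u ∉ Y → ∃ t, σ (u * t * u⁻¹ * t⁻¹) ≠ 1) (hcard : (Nat.card Q : K) ≠ 0)
    (τ : MulAut Q) (hτY : ∀ y ∈ Y, τ y ∈ Y) {N : ℕ} (hN : 0 < N) (hτN : τ ^ N = 1)
    (hfree : ∀ i : ℕ, 0 < i → i < N → ∀ u, (τ ^ i) u * u⁻¹ ∈ Y → u ∈ Y) (hne : Y ≠ ⊤)
    (T : Module.End K W) (hT : ∀ u, T * σ u = σ (τ u) * T) (hTN : T ^ N = 1) :
    N * finrank K (commutant (T - 1)) ≤ N - 1 + (finrank K W) ^ 2 := by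
  haveI := normal_of_comm hcomm
  obtain ⟨m, R, hm, hR⟩ := exists_orbit_reps Y τ hτY hN hτN hfree hne
  rw [← index_eq_sq σ hirr Y hY hcomm hnd hcard, ← hm]
  apply Nat.mul_le_mul_left
  have h1 : T * T ^ (N - 1) = 1 := by rw [← pow_succ', Nat.sub_add_cancel hN, hTN]
  have h2 : T ^ (N - 1) * T = 1 := by rw [← pow_succ, Nat.sub_add_cancel hN, hTN]
  have h3 := finrank_le_of_traces σ (commutant (T - 1)) R (by
    intro φ hφ hz
    rw [mem_commutant, mul_sub, sub_mul, mul_one, one_mul] at hφ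
    have hφ' : φ * T = T * φ := sub_left_inj.mp hφ
    apply eq_zero_of_trace_eq_zero σ hirr Y hY hcomm hnd hcard
    have h4 : ∀ (j : ℕ) (v : Q), LinearMap.trace K W (φ * σ ((τ ^ j) v)) = LinearMap.trace K W (φ * σ v) := by
      intro j
      induction j with
      | zero => intro v; simp
      | succ j ih =>
        intro v
        rw [pow_succ', MulAut.mul_apply, trace_tau σ τ hT h1 h2 hφ', ih]
    intro u
    obtain ⟨i, j, y, hy, rfl⟩ := hR u
    obtain ⟨c, hc⟩ := hY _ (Y.inv_mem hy)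
    have h5 : σ ((τ ^ j) (R i) * y)⁻¹ = c • σ ((τ ^ j) (R i)⁻¹) := by
      rw [mul_inv_rev, map_mul σ, hc, smul_mul_assoc, one_mul, map_inv (τ ^ j)]
    rw [h5, mul_smul_comm, map_smul, h4, hz, smul_zero])
  rwa [Fintype.card_fin] at h3

/-- existence of the operator inducing `τ` -/
theorem exists_operator (σ : Q →* Module.End K W)
    (hirr : ∀ S : Submodule K W, (∀ u, ∀ w ∈ S, σ u w ∈ S) → S = ⊥ ∨ S = ⊤) (Y : Subgroup Q)
    (hY : ∀ y ∈ Y, ∃ c : K, σ y = c • 1) (hcomm : ∀ u t : Q, u * t * u⁻¹ * t⁻¹ ∈ Y)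
    (hnd : ∀ u, u ∉ Y → ∃ t, σ (u * t * u⁻¹ * t⁻¹) ≠ 1) (hcard : (Nat.card Q : K) ≠ 0)
    (τ : MulAut Q) (hτσ : ∀ y ∈ Y, σ (τ y) = σ y) {N : ℕ} (hN : 0 < N) (hτN : τ ^ N = 1) :
    ∃ T : Module.End K W, (∀ u, T * σ u = σ (τ u) * T) ∧ T ^ N = 1 := by
  classical
  haveI := Fintype.ofFinite Q
  have hd := finrank_ne_zero_of_irr σ hirr hcard
  have hint : ∀ φ : Module.End K W, ∀ v, (∑ u : Q, σ (τ u) * φ * σ u⁻¹) * σ v =
      σ (τ v) * ∑ u : Q, σ (τ u) * φ * σ u⁻¹ := by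
    intro φ v
    rw [Finset.sum_mul, Finset.mul_sum]
    refine Fintype.sum_equiv (Equiv.mulLeft v⁻¹) _ _ ?_
    intro u
    simp only [Equiv.coe_mulLeft]
    rw [map_mul τ, map_mul σ, mul_inv_rev, inv_inv, map_mul σ]
    have h1 : σ (τ v) * (σ (τ v⁻¹) * σ (τ u) * φ * (σ u⁻¹ * σ v)) =
        (σ (τ v) * σ (τ v⁻¹)) * (σ (τ u) * φ * σ u⁻¹ * σ v) := by simp only [mul_assoc]
    rw [h1, ← map_mul σ (τ v), ← map_mul τ, mul_inv_cancel, map_one, map_one, one_mul]
  -- nonzero for some φ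
  have hex : ∃ φ : Module.End K W, ∑ u : Q, σ (τ u) * φ * σ u⁻¹ ≠ 0 := by
    by_contra hcon
    push Not at hcon
    obtain ⟨w, hw⟩ := exists_ne (0 : W)
    set b := Module.finBasis K W with hb
    have h1 : ∀ i, ∑ u : Q, (b.coord i (σ u⁻¹ (b i))) • (σ (τ u) w) = 0 := by
      intro i
      have h2 := congrArg (fun φ : Module.End K W => φ (b i)) (hcon ((b.coord i).smulRight w))
      simp only [LinearMap.sum_apply, Module.End.mul_apply, LinearMap.smulRight_apply, map_smul,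
        LinearMap.zero_apply] at h2
      exact h2
    have h2 : ∑ u : Q, (LinearMap.trace K W (σ u⁻¹)) • (σ (τ u) w) = 0 := by
      have h3 : ∀ u : Q, (LinearMap.trace K W (σ u⁻¹)) = ∑ i, b.coord i (σ u⁻¹ (b i)) := by
        intro u
        rw [LinearMap.trace_eq_matrix_trace K b, Matrix.trace]
        apply Finset.sum_congr rfl
        intro i _
        rw [Matrix.diag_apply, LinearMap.toMatrix_apply]
        rfl
      simp only [h3, Finset.sum_smul]
      rw [Finset.sum_comm]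
      exact Finset.sum_eq_zero (fun i _ => h1 i)
    have h3 : ∀ u : Q, (LinearMap.trace K W (σ u⁻¹)) • (σ (τ u) w) =
        (LinearMap.trace K W (σ u⁻¹)) • (σ u w) := by
      intro u
      by_cases hu : u ∈ Y
      · rw [hτσ u hu]
      · have hu' : u⁻¹ ∉ Y := fun h => hu (Y.inv_mem_iff.mp h)
        rw [trace_eq_zero_of_not_mem σ Y hY hcomm hnd hu', zero_smul, zero_smul]
    simp only [h3] at h2
    have h4 := congrArg (fun φ : Module.End K W => φ w) (sum_trace_smul σ Y hY hcomm hnd (1 : Module.End K W))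
    simp only [LinearMap.sum_apply, mul_one, LinearMap.smul_apply] at h4
    rw [h2] at h4
    have h5 : ((Nat.card Y : K) * (finrank K W : K)) ≠ 0 := by
      apply mul_ne_zero
      · intro h
        apply hcard
        rw [← Y.card_mul_index, Nat.cast_mul, h, zero_mul]
      · exact hd
    rcases smul_eq_zero.mp h4.symm with h6 | h6
    · exact h5 h6
    · exact hw (by simpa using h6)
  obtain ⟨φ, hφ⟩ := hex
  set T₀ := ∑ u : Q, σ (τ u) * φ * σ u⁻¹ with hT₀
  have hT₀i : ∀ u, T₀ * σ u = σ (τ u) * T₀ := hint φ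
  have hker : LinearMap.ker T₀ = ⊥ := by
    rcases hirr (LinearMap.ker T₀) (by
      intro u w hw
      rw [LinearMap.mem_ker] at hw ⊢
      have h1 := congrArg (fun φ : Module.End K W => φ w) (hT₀i u)
      simp only [Module.End.mul_apply, hw, map_zero] at h1
      exact h1) with h | h
    · exact h
    · exact absurd (LinearMap.ker_eq_top.mp h) hφ
  have hpowi : ∀ u, T₀ ^ N * σ u = σ u * T₀ ^ N := by
    intro u
    rw [intertwine_pow σ τ T₀ hT₀i, hτN]
    rfl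
  obtain ⟨c, hc⟩ := schur_scalar σ hirr (T₀ ^ N) hpowi
  have hc0 : c ≠ 0 := by
    rintro rfl
    rw [zero_smul] at hc
    have hinj : Function.Injective T₀ := LinearMap.ker_eq_bot.mp hker
    have hinjN : Function.Injective (T₀ ^ N) := by
      rw [Module.End.coe_pow]
      exact hinj.iterate N
    obtain ⟨w, hw⟩ := exists_ne (0 : W)
    apply hw
    apply hinjN
    rw [hc]
    simp
  obtain ⟨z, hz⟩ := IsAlgClosed.exists_pow_nat_eq (c⁻¹) hN
  refine ⟨z • T₀, ?_, ?_⟩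
  · intro u
    rw [smul_mul_assoc, hT₀i, mul_smul_comm]
  · rw [smul_pow, hz, hc, smul_smul, inv_mul_cancel₀ hc0, one_smul]

/-- The critical configuration. -/
theorem hh_core (σ : Q →* Module.End K W)
    (hirr : ∀ S : Submodule K W, (∀ u, ∀ w ∈ S, σ u w ∈ S) → S = ⊥ ∨ S = ⊤) (Y : Subgroup Q)
    (hY : ∀ y ∈ Y, ∃ c : K, σ y = c • 1) (hcomm : ∀ u t : Q, u * t * u⁻¹ * t⁻¹ ∈ Y)
    (hnd : ∀ u, u ∉ Y → ∃ t, σ (u * t * u⁻¹ * t⁻¹) ≠ 1) (hcard : (Nat.card Q : K) ≠ 0)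
    (τ : MulAut Q) (hτY : ∀ y ∈ Y, τ y ∈ Y) {p n : ℕ} [Fact p.Prime] [CharP K p] (hτN : τ ^ p ^ n = 1)
    (hfree : ∀ i : ℕ, 0 < i → i < p ^ n → ∀ u, (τ ^ i) u * u⁻¹ ∈ Y → u ∈ Y) (hne : Y ≠ ⊤)
    (T : Module.End K W) (hT : ∀ u, T * σ u = σ (τ u) * T) (hTN : T ^ p ^ n = 1) :
    (T - 1) ^ (p ^ n - 1) ≠ 0 ∨
      (Y.index = (p ^ n - 1) ^ 2 ∧ ∀ t, (T - 1) ^ t = 0 → p ^ n - 1 ≤ t) := by
  have hp := (Fact.out : p.Prime)
  have hN : 0 < p ^ n := pow_pos hp.pos n
  have h1 := core_commutant σ hirr Y hY hcomm hnd hcard τ hτY hN hτN hfree hne T hT hTN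
  have h2 : (T - 1) ^ p ^ n = 0 := by
    haveI : CharP (Module.End K W) p := charP_of_injective_algebraMap' K (A := Module.End K W) p
    rw [sub_pow_char_pow_of_commute, one_pow, hTN, sub_self]
    exact Commute.one_right _
  have hidx := index_eq_sq σ hirr Y hY hcomm hnd hcard
  rcases nilpotent_dichotomy (T - 1) hN h2 h1 with h | h | h
  · exact Or.inl h
  · exfalso
    rw [h, one_pow] at hidx
    exact hne (Subgroup.index_eq_one.mp hidx)
  · right
    refine ⟨by rw [hidx, h.1], h.2⟩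

end Cfsg.Agent.H23
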