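import Mathlib
import Cfsg.Agent.H23.HHCore2

/-!
Hall-Higman, continued: weights, orbits of weights, equivariant embeddings.
-/

set_option linter.style.haveILetI false
set_option linter.unusedSectionVars false

namespace Cfsg.Agent.H23

open Module Subgroup

section embedding

variable {K : Type*} [Field K] {Q : Type*} [Group Q] {W : Type*} [AddCommGroup W] [Module K W]
  {U : Type*} [AddCommGroup U] [Module K U]

theorem exists_equivariant_embedding (σ : Q →* Module.End K W)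
    (hirr : ∀ S : Submodule K W, (∀ u, ∀ w ∈ S, σ u w ∈ S) → S = ⊥ ∨ S = ⊤)
    (ρ : Q →* Module.End K U) (τ : MulAut Q) {p n : ℕ} [Fact p.Prime] [CharP K p]
    (T : Module.End K W) (hT : ∀ u, T * σ u = σ (τ u) * T) (hTN : T ^ p ^ n = 1)
    (X : Module.End K U) (hX : ∀ u, X * ρ u = ρ (τ u) * X) (hXN : X ^ p ^ n = 1)
    (h₀ : W →ₗ[K] U) (hh₀ : h₀ ≠ 0) (heq : ∀ u, h₀ ∘ₗ σ u = ρ u ∘ₗ h₀) :
    ∃ h : W →ₗ[K] U, Function.Injective h ∧ (∀ w, X (h w) = h (T w)) ∧ ∀ u w, h (σ u w) = ρ u (h w) := by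
  classical
  have hp := (Fact.out : p.Prime)
  have hN : 0 < p ^ n := pow_pos hp.pos n
  set T' := T ^ (p ^ n - 1) with hT'
  have h1 : T * T' = 1 := by rw [hT', ← pow_succ', Nat.sub_add_cancel hN, hTN]
  have h2 : T' * T = 1 := by rw [hT', ← pow_succ, Nat.sub_add_cancel hN, hTN]
  have hT'N : T' ^ p ^ n = 1 := by rw [hT', ← pow_mul, mul_comm, pow_mul, hTN, one_pow]
  have hT'σ : ∀ u, T' * σ (τ u) = σ u * T' := by
    intro u
    calc T' * σ (τ u) = T' * σ (τ u) * (T * T') := by rw [h1, mul_one]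
      _ = T' * (σ (τ u) * T) * T' := by simp only [mul_assoc]
      _ = T' * (T * σ u) * T' := by rw [hT]
      _ = (T' * T) * (σ u * T') := by simp only [mul_assoc]
      _ = _ := by rw [h2, one_mul]
  set Ψ : Module.End K (W →ₗ[K] U) :=
    { toFun := fun h => X ∘ₗ h ∘ₗ T'
      map_add' := by
        intro a b
        ext w
        simp
      map_smul' := by
        intro c a
        ext w
        simp } with hΨ
  have hΨapp : ∀ h : W →ₗ[K] U, ∀ w, Ψ h w = X (h (T' w)) := fun h w => rfl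
  have hΨpow : ∀ (k : ℕ) (h : W →ₗ[K] U) (w : W), (Ψ ^ k) h w = (X ^ k) (h ((T' ^ k) w)) := by
    intro k
    induction k with
    | zero => intro h w; simp
    | succ k ih =>
      intro h w
      rw [pow_succ', Module.End.mul_apply, hΨapp, ih, pow_succ', Module.End.mul_apply, pow_succ (a := T'),
        Module.End.mul_apply]
  have hΨN : Ψ ^ p ^ n = 1 := by
    ext h w
    rw [hΨpow, hXN, hT'N]
    simp
  haveI : Nontrivial (W →ₗ[K] U) := ⟨h₀, 0, hh₀⟩
  haveI : CharP (Module.End K (W →ₗ[K] U)) p :=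
    charP_of_injective_algebraMap' K (A := Module.End K (W →ₗ[K] U)) p
  have hnil : (Ψ - 1) ^ p ^ n = 0 := by
    rw [sub_pow_char_pow_of_commute, one_pow, hΨN, sub_self]
    exact Commute.one_right _
  have hstep : ∀ g : W →ₗ[K] U, (∀ u w, g (σ u w) = ρ u (g w)) →
      ∀ u w, ((Ψ - 1) g : W →ₗ[K] U) (σ u w) = ρ u (((Ψ - 1) g : W →ₗ[K] U) w) := by
    intro g h3 u w
    simp only [LinearMap.sub_apply, Module.End.one_apply, hΨapp]
    rw [h3]
    have h4 : T' (σ u w) = σ (τ.symm u) (T' w) := by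
      have := congrArg (fun f : Module.End K W => f w) (hT'σ (τ.symm u))
      simpa using this
    have h5 : ∀ x, X (ρ (τ.symm u) x) = ρ u (X x) := by
      intro x
      have := congrArg (fun f : Module.End K U => f x) (hX (τ.symm u))
      simpa using this
    rw [h4, h3, h5, map_sub]
  have hE : ∀ (k : ℕ) (g : W →ₗ[K] U), g = ((Ψ - 1) ^ k) h₀ → ∀ u w, g (σ u w) = ρ u (g w) := by
    intro k
    induction k with
    | zero =>
      rintro g rfl u w
      have := congrArg (fun f : W →ₗ[K] U => f w) (heq u)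
      simpa using this
    | succ k ih =>
      rintro g rfl
      rw [pow_succ', Module.End.mul_apply]
      exact hstep _ (ih _ rfl)
  have hex : ∃ k : ℕ, ((Ψ - 1) ^ k) h₀ = 0 := ⟨p ^ n, by rw [hnil]; simp⟩
  set k := Nat.find hex with hk
  have hk0 : k ≠ 0 := by
    intro h
    have := Nat.find_spec hex
    rw [← hk, h, pow_zero] at this
    exact hh₀ (by simpa using this)
  obtain ⟨k', hk'⟩ := Nat.exists_eq_succ_of_ne_zero hk0
  have hne : ((Ψ - 1) ^ k') h₀ ≠ 0 := Nat.find_min hex (by rw [← hk, hk']; exact Nat.lt_succ_self _)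
  have hz : (Ψ - 1) (((Ψ - 1) ^ k') h₀) = 0 := by
    rw [← Module.End.mul_apply, ← pow_succ']
    have := Nat.find_spec hex
    rw [← hk, hk'] at this
    exact this
  set g := ((Ψ - 1) ^ k') h₀ with hg
  have hgeq : ∀ u w, g (σ u w) = ρ u (g w) := hE k' g hg
  refine ⟨g, ?_, ?_, hgeq⟩
  · rw [← LinearMap.ker_eq_bot]
    rcases hirr (LinearMap.ker g) (by
      intro u w hw
      rw [LinearMap.mem_ker] at hw ⊢
      rw [hgeq, hw, map_zero]) with h | h
    · exact h
    · exact absurd (LinearMap.ker_eq_top.mp h) hne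
  · intro w
    have h3 := congrArg (fun f : W →ₗ[K] U => f (T w)) hz
    simp only [LinearMap.sub_apply, Module.End.one_apply, hΨapp, LinearMap.zero_apply] at h3
    have h4 : T' (T w) = w := by
      have := congrArg (fun f : Module.End K W => f w) h2
      simpa using this
    rw [h4] at h3
    exact sub_eq_zero.mp h3

end embedding

section weights

variable {K : Type*} [Field K] {Q : Type*} [Group Q] {V : Type*} [AddCommGroup V] [Module K V]

theorem weight_indep {ι : Type*} [DecidableEq ι] (A : Set Q) (ρ : Q →* Module.End K V) (χ : ι → Q → K)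
    (hχ : ∀ i j, i ≠ j → ∃ a ∈ A, χ i a ≠ χ j a) (s : Finset ι) :
    ∀ u : ι → V, (∀ j ∈ s, ∀ a ∈ A, ρ a (u j) = χ j a • u j) → ∑ j ∈ s, u j = 0 → ∀ j ∈ s, u j = 0 := by
  induction s using Finset.induction_on with
  | empty => intro u _ _ j hj; exact absurd hj (Finset.notMem_empty j)
  | insert i s hi ih =>
    intro u hu hsum
    have h1 : ∀ j ∈ s, u j = 0 := by
      intro j hj
      have hij : j ≠ i := fun h => hi (h ▸ hj)
      obtain ⟨a, ha, hne⟩ := hχ j i hij
      have h2 := ih (fun k => (χ k a - χ i a) • u k) (by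
        intro k hk b hb
        rw [map_smul, hu k (Finset.mem_insert_of_mem hk) b hb, smul_smul, smul_smul, mul_comm]) (by
        have h3 : ∑ k ∈ insert i s, (χ k a - χ i a) • u k = 0 := by
          have h4 : ∑ k ∈ insert i s, (χ k a - χ i a) • u k =
              ρ a (∑ k ∈ insert i s, u k) - χ i a • ∑ k ∈ insert i s, u k := by
            rw [map_sum, Finset.smul_sum, ← Finset.sum_sub_distrib]
            apply Finset.sum_congr rfl
            intro k hk
            rw [sub_smul, hu k hk a ha]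
          rw [h4, hsum, map_zero, smul_zero, sub_self]
        rw [Finset.sum_insert hi, sub_self, zero_smul, zero_add] at h3
        exact h3) j hj
      exact (smul_eq_zero.mp h2).resolve_left (sub_ne_zero.mpr hne)
    intro j hj
    rcases Finset.mem_insert.mp hj with rfl | hj
    · rw [Finset.sum_insert hi, Finset.sum_eq_zero h1, add_zero] at hsum
      exact hsum
    · exact h1 j hj

/-- orbit lemma: if the weights of `u, Xu, …, X^(P-1)u` are distinct then `(X-1)^(P-1)u ≠ 0` -/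
theorem orbit_ne_zero (A : Set Q) (ρ : Q →* Module.End K V) (X : Module.End K V) {P : ℕ} (hP : 0 < P)
    (χ : ℕ → Q → K) (hχ : ∀ i j, i < P → j < P → i ≠ j → ∃ a ∈ A, χ i a ≠ χ j a) {u : V} (hu : u ≠ 0)
    (hw : ∀ j < P, ∀ a ∈ A, ρ a ((X ^ j) u) = χ j a • (X ^ j) u) : ((X - 1) ^ (P - 1)) u ≠ 0 := by
  classical
  intro h0
  rw [sub_eq_add_neg, Commute.add_pow (Commute.neg_one_right X), Nat.sub_add_cancel hP, LinearMap.sum_apply] at h0
  have h1 := weight_indep (ι := Fin P) A ρ (fun j => χ j) (by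
    intro i j hij
    exact hχ i j i.2 j.2 (fun h => hij (Fin.ext h))) Finset.univ
    (fun j : Fin P => (X ^ (j : ℕ) * (-1) ^ (P - 1 - j) * ((P - 1).choose j : Module.End K V)) u) (by
      intro j _ a ha
      have h2 : (X ^ (j : ℕ) * (-1) ^ (P - 1 - j) * ((P - 1).choose j : Module.End K V)) u =
          ((-1 : K) ^ (P - 1 - j) * ((P - 1).choose j : K)) • (X ^ (j : ℕ)) u := by
        have h3 : ((-1) ^ (P - 1 - (j : ℕ)) : Module.End K V) = ((-1 : K) ^ (P - 1 - (j : ℕ))) • 1 := by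
          rw [← Algebra.algebraMap_eq_smul_one, map_pow, map_neg, map_one]
        have h4 : (((P - 1).choose j : ℕ) : Module.End K V) = (((P - 1).choose j : ℕ) : K) • 1 := by
          rw [← Algebra.algebraMap_eq_smul_one, map_natCast]
        rw [h3, h4, mul_smul_comm, mul_one, mul_smul_comm, mul_one, smul_smul, mul_comm]
        rfl
      simp only [h2]
      rw [map_smul, hw j j.2 a ha, smul_comm]) (by
      rw [← h0, Finset.sum_range]) ⟨0, hP⟩ (Finset.mem_univ _)
  simp only [pow_zero, one_mul, Nat.choose_zero_right, Nat.cast_one, mul_one, Nat.sub_zero] at h1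
  rcases neg_one_pow_eq_or (Module.End K V) (P - 1) with h | h
  · rw [h] at h1
    exact hu (by simpa using h1)
  · rw [h] at h1
    exact hu (by simpa using h1)

theorem exists_minimal_invariant [FiniteDimensional K V] (C : Submodule K V → Prop) {U : Submodule K V}
    (hU : U ≠ ⊥) (hC : C U) :
    ∃ W : Submodule K V, W ≤ U ∧ W ≠ ⊥ ∧ C W ∧ ∀ W' : Submodule K V, W' ≤ W → C W' → W' = ⊥ ∨ W' = W := by
  obtain ⟨W, hW, hmin⟩ := WellFounded.has_min (wellFounded_lt (α := Submodule K V))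
    {W | W ≤ U ∧ W ≠ ⊥ ∧ C W} ⟨U, le_rfl, hU, hC⟩
  refine ⟨W, hW.1, hW.2.1, hW.2.2, ?_⟩
  intro W' hW' hCW'
  by_contra hcon
  push Not at hcon
  exact hmin W' ⟨hW'.trans hW.1, hcon.1, hCW'⟩ (lt_of_le_of_ne hW' hcon.2)

/-- common eigenvectors -/
theorem exists_common_eigenvector [FiniteDimensional K V] [IsAlgClosed K] (A : Set Q) (ρ : Q →* Module.End K V)
    {U : Submodule K V} (hU : U ≠ ⊥) (hinv : ∀ a ∈ A, ∀ u ∈ U, ρ a u ∈ U)
    (hcomm : ∀ a ∈ A, ∀ b ∈ A, ∀ u ∈ U, ρ a (ρ b u) = ρ b (ρ a u)) :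
    ∃ (v : V) (χ : Q → K), v ∈ U ∧ v ≠ 0 ∧ ∀ a ∈ A, ρ a v = χ a • v := by
  classical
  obtain ⟨W, hWU, hWne, hWinv, hmin⟩ := exists_minimal_invariant
    (fun W => ∀ a ∈ A, ∀ u ∈ W, ρ a u ∈ W) hU hinv
  have h1 : ∀ a ∈ A, ∃ c : K, ∀ w ∈ W, ρ a w = c • w := by
    intro a ha
    haveI : Nontrivial W := (Submodule.nontrivial_iff_ne_bot).mpr hWne
    obtain ⟨c, hc⟩ := Module.End.exists_eigenvalue ((ρ a).restrict (hWinv a ha))
    obtain ⟨w, hw⟩ := hc.exists_hasEigenvector
    refine ⟨c, ?_⟩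
    have h2 := hmin (W ⊓ Module.End.eigenspace (ρ a) c) inf_le_left (by
      intro b hb u hu
      rw [Submodule.mem_inf, Module.End.mem_eigenspace_iff] at hu ⊢
      refine ⟨hWinv b hb u hu.1, ?_⟩
      rw [hcomm a ha b hb u (hWU hu.1), hu.2, map_smul])
    rcases h2 with h2 | h2
    · exfalso
      have h3 : (w : V) ∈ W ⊓ Module.End.eigenspace (ρ a) c := by
        rw [Submodule.mem_inf, Module.End.mem_eigenspace_iff]
        refine ⟨w.2, ?_⟩
        have h4 := congrArg (fun z : W => (z : V)) hw.apply_eq_smul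
        simpa using h4
      rw [h2, Submodule.mem_bot] at h3
      exact hw.2 (Subtype.ext h3)
    · intro w' hw'
      rw [← h2, Submodule.mem_inf, Module.End.mem_eigenspace_iff] at hw'
      exact hw'.2
  obtain ⟨v, hvW, hv0⟩ := Submodule.exists_mem_ne_zero_of_ne_bot hWne
  refine ⟨v, fun a => if ha : a ∈ A then (h1 a ha).choose else 0, hWU hvW, hv0, ?_⟩
  intro a ha
  simp only [dif_pos ha]
  exact (h1 a ha).choose_spec v hvW

theorem fixed_range_eq_zero {g : Module.End K V} {m : ℕ} (hm : (m : K) ≠ 0) (hg : g ^ m = 1) {w : V}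
    (h : g (g w - w) = g w - w) : g w = w := by
  have h1 : ∀ i : ℕ, (g ^ i) w = w + (i : K) • (g w - w) := by
    intro i
    induction i with
    | zero => simp
    | succ i ih =>
      rw [pow_succ', Module.End.mul_apply, ih, map_add, map_smul, h, Nat.cast_succ, add_smul, one_smul]
      abel
  have h2 := h1 m
  rw [hg, Module.End.one_apply] at h2
  have h3 : (m : K) • (g w - w) = 0 := by
    have := sub_eq_zero.mpr h2.symm
    simpa using this
  exact sub_eq_zero.mp ((smul_eq_zero.mp h3).resolve_left hm)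

/-- common eigenvectors, on which a given nontrivial element acts nontrivially -/
theorem exists_common_eigenvector_ne [FiniteDimensional K V] [IsAlgClosed K] [Finite Q]
    (hcard : (Nat.card Q : K) ≠ 0) (A : Set Q)
    (ρ : Q →* Module.End K V) {U : Submodule K V} (hinv : ∀ a ∈ A, ∀ u ∈ U, ρ a u ∈ U)
    (hcomm : ∀ a ∈ A, ∀ b ∈ A, ∀ u ∈ U, ρ a (ρ b u) = ρ b (ρ a u)) {a₀ : Q} (ha₀ : a₀ ∈ A) {w : V} (hw : w ∈ U)
    (hne : ρ a₀ w ≠ w) :
    ∃ (v : V) (χ : Q → K), v ∈ U ∧ v ≠ 0 ∧ (∀ a ∈ A, ρ a v = χ a • v) ∧ χ a₀ ≠ 1 := by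
  classical
  set U' : Submodule K V := U.map (ρ a₀ - 1) with hU'
  have hU'ne : U' ≠ ⊥ := by
    intro h
    have h1 : (ρ a₀ - 1) w ∈ U' := Submodule.mem_map_of_mem hw
    rw [h, Submodule.mem_bot, LinearMap.sub_apply, Module.End.one_apply] at h1
    exact hne (sub_eq_zero.mp h1)
  have hU'U : U' ≤ U := by
    rintro _ ⟨u, hu, rfl⟩
    rw [LinearMap.sub_apply, Module.End.one_apply]
    exact U.sub_mem (hinv a₀ ha₀ u hu) hu
  obtain ⟨v, χ, hv, hv0, hχ⟩ := exists_common_eigenvector A ρ hU'ne (by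
    rintro a ha _ ⟨u, hu, rfl⟩
    refine ⟨ρ a u, hinv a ha u hu, ?_⟩
    simp only [LinearMap.sub_apply, Module.End.one_apply, map_sub]
    rw [hcomm a₀ ha₀ a ha u hu]) (fun a ha b hb u hu => hcomm a ha b hb u (hU'U hu))
  refine ⟨v, χ, hU'U hv, hv0, hχ, ?_⟩
  intro h1
  obtain ⟨w', hw', hww⟩ := hv
  rw [LinearMap.sub_apply, Module.End.one_apply] at hww
  have h2 : ρ a₀ v = v := by rw [hχ a₀ ha₀, h1, one_smul]
  rw [← hww] at h2
  have h3 := fixed_range_eq_zero hcard (g := ρ a₀) (by rw [← map_pow, pow_card_eq_one', map_one]) h2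
  apply hv0
  rw [← hww, h3, sub_self]

/-- If `(X-1)^(p^n-1)` vanishes on `U` then `x^(p^(n-1))` centralizes every abelian invariant group of order prime to `p`. -/
theorem star [FiniteDimensional K V] [IsAlgClosed K] [Finite Q]
    (hcard : (Nat.card Q : K) ≠ 0) (A : Subgroup Q)
    (ρ : Q →* Module.End K V) {U : Submodule K V} (hinv : ∀ a ∈ A, ∀ u ∈ U, ρ a u ∈ U)
    (hcomm : ∀ a ∈ A, ∀ b ∈ A, ∀ u ∈ U, ρ a (ρ b u) = ρ b (ρ a u))
    (τ : MulAut Q) (hτA : ∀ a ∈ A, τ a ∈ A) (X : Module.End K V) (hX : ∀ u, X * ρ u = ρ (τ u) * X)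
    {p n : ℕ} (hp : p.Prime) (hτN : τ ^ p ^ (n + 1) = 1)
    (hXN : ∀ u ∈ U, ((X - 1) ^ (p ^ (n + 1) - 1)) u = 0) :
    ∀ a ∈ A, ∀ u ∈ U, ρ ((τ ^ p ^ n) a) u = ρ a u := by
  classical
  by_contra hcon
  push Not at hcon
  obtain ⟨a, ha, w, hw, hne⟩ := hcon
  have hN : 0 < p ^ (n + 1) := pow_pos hp.pos _
  have hτpA : ∀ (j : ℕ), ∀ a ∈ A, (τ ^ j) a ∈ A := mulAut_pow_char τ A hτA
  have hτiA : ∀ (j : ℕ), ∀ a ∈ A, (τ ^ j)⁻¹ a ∈ A := by
    intro j a ha
    have h1 : (τ ^ j)⁻¹ = τ ^ (j * (p ^ (n + 1) - 1)) := by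
      rw [inv_eq_iff_mul_eq_one, ← pow_add]
      have : j + j * (p ^ (n + 1) - 1) = p ^ (n + 1) * j := by
        rw [Nat.mul_sub, mul_one]
        have : j ≤ j * p ^ (n + 1) := Nat.le_mul_of_pos_right _ hN
        rw [mul_comm (p ^ (n + 1)) j]
        omega
      rw [this, pow_mul, hτN, one_pow]
    rw [h1]
    exact hτpA _ a ha
  have hba : a⁻¹ * (τ ^ p ^ n) a ∈ A := A.mul_mem (A.inv_mem ha) (hτpA _ a ha)
  obtain ⟨v, χ, hvU, hv0, hχ, hχ1⟩ := exists_common_eigenvector_ne hcard (A : Set Q) ρ hinv hcomm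
    (a₀ := a⁻¹ * (τ ^ p ^ n) a) hba hw (by
      intro h
      apply hne
      have h1 := congrArg (ρ a) h
      rw [← Module.End.mul_apply, ← map_mul, mul_inv_cancel_left] at h1
      exact h1)
  have hχne : χ ((τ ^ p ^ n) a) ≠ χ a := by
    intro h
    apply hχ1
    have h1 : ρ ((τ ^ p ^ n) a) v = ρ a v := by rw [hχ _ (hτpA _ a ha), hχ a ha, h]
    have h2 : ρ (a⁻¹ * (τ ^ p ^ n) a) v = v := by
      rw [map_mul, Module.End.mul_apply, h1, ← Module.End.mul_apply, ← map_mul, inv_mul_cancel, map_one]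
      rfl
    rw [hχ _ hba] at h2
    have h3 : (χ (a⁻¹ * (τ ^ p ^ n) a) - 1) • v = 0 := by rw [sub_smul, h2, one_smul, sub_self]
    exact sub_eq_zero.mp ((smul_eq_zero.mp h3).resolve_right hv0)
  -- the weights of `X^j v`
  refine orbit_ne_zero (A : Set Q) ρ X hN (fun j b => χ ((τ ^ j)⁻¹ b)) ?_ hv0 ?_ (hXN v hvU)
  · -- distinctness
    have hkey : ∀ d, 0 < d → d < p ^ (n + 1) → ∃ b ∈ A, χ ((τ ^ d) b) ≠ χ b := by
      intro d hd0 hdN
      by_contra hcon
      push Not at hcon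
      have h1 : ∀ (s : ℕ), ∀ b ∈ A, χ ((τ ^ (d * s)) b) = χ b := by
        intro s
        induction s with
        | zero => intro b _; simp
        | succ s ih =>
          intro b hb
          rw [mul_add, mul_one, pow_add, MulAut.mul_apply, ih _ (hτpA _ b hb), hcon b hb]
      -- find s with d * s ≡ p^n
      have h2 : ∃ s : ℕ, τ ^ (d * s) = τ ^ p ^ n := by
        have hglt : Nat.gcd d (p ^ (n + 1)) < p ^ (n + 1) :=
          lt_of_le_of_lt (Nat.le_of_dvd hd0 (Nat.gcd_dvd_left d (p ^ (n + 1)))) hdN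
        obtain ⟨i, hi, hgi⟩ := (Nat.dvd_prime_pow hp).mp (Nat.gcd_dvd_right d (p ^ (n + 1)))
        have hin : i ≤ n := by
          by_contra hcon2
          have hi' : i = n + 1 := by omega
          rw [hi'] at hgi
          omega
        obtain ⟨m, _, hm⟩ := Nat.exists_mul_mod_eq_gcd hglt
        refine ⟨m * p ^ (n - i), ?_⟩
        rw [pow_eq_pow_iff_modEq]
        have h5 : d * m ≡ p ^ i [MOD p ^ (n + 1)] := by
          rw [Nat.ModEq, hm, hgi]
          exact (Nat.mod_eq_of_lt (hgi ▸ hglt)).symm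
        have h6 := h5.mul_right (p ^ (n - i))
        rw [← pow_add, Nat.add_sub_cancel' hin, mul_assoc] at h6
        exact h6.of_dvd (orderOf_dvd_of_pow_eq_one hτN)
      obtain ⟨s, hs⟩ := h2
      exact hχne (by rw [← hs]; exact h1 s a ha)
    have hord : ∀ i j, i < j → j < p ^ (n + 1) → ∃ a ∈ (A : Set Q), χ ((τ ^ i)⁻¹ a) ≠ χ ((τ ^ j)⁻¹ a) := by
      intro i j hij hj
      obtain ⟨b, hb, hbne⟩ := hkey (j - i) (by omega) (by omega)
      refine ⟨(τ ^ j) b, hτpA j b hb, ?_⟩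
      have h1 : (τ ^ i)⁻¹ ((τ ^ j) b) = (τ ^ (j - i)) b := by
        rw [← MulAut.mul_apply]
        congr 1
        rw [inv_mul_eq_iff_eq_mul, ← pow_add]
        congr 1; omega
      rw [h1, MulAut.inv_apply_self]
      exact hbne
    intro i j hi hj hij
    rcases lt_or_gt_of_ne hij with h | h
    · exact hord i j h hj
    · obtain ⟨a, ha, hne⟩ := hord j i h hi
      exact ⟨a, ha, hne.symm⟩
  · intro j _ b hb
    have h1 := congrArg (fun f : Module.End K V => f v) (intertwine_pow ρ τ X hX j ((τ ^ j)⁻¹ b))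
    simp only [Module.End.mul_apply, MulAut.apply_inv_self] at h1
    rw [← h1, hχ _ (hτiA j b hb), map_smul]

end weights

end Cfsg.Agent.H23
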