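import Mathlib
import Cfsg.Agent.H23.HHCore3

/-!
Hall-Higman, continued: the case of a class-two group on which the element of order `p` acts with the centre as its
set of fixed points.
-/

set_option linter.style.haveILetI false
set_option linter.unusedSectionVars false

namespace Cfsg.Agent.H23

open Module Subgroup

section norm
variable {Q : Type*} [Group Q]

/-- the norm `u · y(u) · y²(u) ⋯ y^(k-1)(u)` -/
def nrm (y : MulAut Q) : ℕ → Q → Q
  | 0, _ => 1
  | k + 1, u => nrm y k u * (y ^ k) u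

theorem nrm_map (y τ : MulAut Q) (h : y * τ = τ * y) (k : ℕ) (u : Q) : nrm y k (τ u) = τ (nrm y k u) := by
  induction k with
  | zero => simp [nrm]
  | succ k ih =>
    have h1 : (y ^ k) (τ u) = τ ((y ^ k) u) := by
      have h2 : y ^ k * τ = τ * y ^ k := (Commute.pow_left h k)
      rw [← MulAut.mul_apply, h2, MulAut.mul_apply]
    rw [nrm, nrm, ih, h1, map_mul]

theorem nrm_quot (y : MulAut Q) (Y : Subgroup Q) [Y.Normal] (hy : ∀ v ∈ Y, y v ∈ Y) {u : Q} (hu : u⁻¹ * y u ∈ Y)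
    (k : ℕ) : ((nrm y k u : Q) : Q ⧸ Y) = (u : Q ⧸ Y) ^ k := by
  have h1 : ∀ i : ℕ, (((y ^ i) u : Q) : Q ⧸ Y) = (u : Q ⧸ Y) := by
    intro i
    induction i with
    | zero => simp
    | succ i ih =>
      rw [← ih]
      symm
      rw [QuotientGroup.eq, pow_succ, MulAut.mul_apply, ← map_inv, ← map_mul]
      exact mulAut_pow_char y Y hy i _ hu
  induction k with
  | zero => simp [nrm]
  | succ k ih =>
    rw [nrm, QuotientGroup.mk_mul, ih, h1, pow_succ]

theorem nrm_shift (y : MulAut Q) (hQ : ∀ a b : Q, a * b * a⁻¹ * b⁻¹ ∈ center Q) (k : ℕ) (u : Q) :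
    ((y (nrm y k u) : Q) : Q ⧸ center Q) = ((nrm y (k + 1) u : Q) : Q ⧸ center Q) * (u : Q ⧸ center Q)⁻¹ := by
  have hc : ∀ a b : Q ⧸ center Q, a * b = b * a := by
    intro a b
    obtain ⟨a, rfl⟩ := QuotientGroup.mk_surjective a
    obtain ⟨b, rfl⟩ := QuotientGroup.mk_surjective b
    rw [← QuotientGroup.mk_mul, ← QuotientGroup.mk_mul, QuotientGroup.eq]
    have := hQ (b⁻¹) (a⁻¹)
    have h2 : b⁻¹ * a⁻¹ * b⁻¹⁻¹ * a⁻¹⁻¹ = (a * b)⁻¹ * (b * a) := by group
    rwa [h2] at this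
  induction k with
  | zero =>
    simp [nrm]
  | succ k ih =>
    rw [nrm, map_mul, QuotientGroup.mk_mul, ih]
    have h1 : y ((y ^ k) u) = (y ^ (k + 1)) u := by rw [pow_succ', MulAut.mul_apply]
    rw [h1, nrm.eq_def y (k + 1 + 1) u]
    simp only [QuotientGroup.mk_mul]
    rw [mul_assoc, hc (u : Q ⧸ center Q)⁻¹, ← mul_assoc]

theorem exists_pow_eq {G : Type*} [Group G] {p n : ℕ} (hp : p.Prime) {τ : G} (hτN : τ ^ p ^ (n + 1) = 1) {d : ℕ}
    (hd0 : 0 < d) (hdN : d < p ^ (n + 1)) : ∃ s : ℕ, τ ^ (d * s) = τ ^ p ^ n := by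
  have hglt : Nat.gcd d (p ^ (n + 1)) < p ^ (n + 1) :=
    lt_of_le_of_lt (Nat.le_of_dvd hd0 (Nat.gcd_dvd_left d (p ^ (n + 1)))) hdN
  obtain ⟨i, hi, hgi⟩ := (Nat.dvd_prime_pow hp).mp (Nat.gcd_dvd_right d (p ^ (n + 1)))
  have hin : i ≤ n := by
    by_contra hcon2
    have hi' : i = n + 1 := by omega
    rw [hi'] at hgi
    omega
  obtain ⟨m, _, hm⟩ := Nat.exists_mul_mod_eq_gcd hglt
  refine ⟨m * p ^ (n - i), ?_⟩
  rw [pow_eq_pow_iff_modEq]
  have h5 : d * m ≡ p ^ i [MOD p ^ (n + 1)] := by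
    rw [Nat.ModEq, hm, hgi]
    exact (Nat.mod_eq_of_lt (hgi ▸ hglt)).symm
  have h6 := h5.mul_right (p ^ (n - i))
  rw [← pow_add, Nat.add_sub_cancel' hin, mul_assoc] at h6
  exact h6.of_dvd (orderOf_dvd_of_pow_eq_one hτN)

theorem exists_root_of_coprime (Q : Type*) [Group Q] [Finite Q] {p : ℕ} (hcop : (Nat.card Q).Coprime p) :
    ∃ m : ℕ, ∀ u : Q, (u ^ p) ^ m = u := by
  rcases Nat.lt_or_ge 1 (Nat.card Q) with h | h
  · obtain ⟨m, _, hm⟩ := Nat.exists_mul_mod_eq_one_of_coprime hcop.symm h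
    refine ⟨m, fun u => ?_⟩
    rw [← pow_mul, ← pow_mod_natCard, hm, pow_one]
  · have h1 : Nat.card Q = 1 := le_antisymm h (Nat.one_le_iff_ne_zero.mpr (Nat.card_pos).ne')
    haveI : Subsingleton Q := (Nat.card_eq_one_iff_unique.mp h1).1
    exact ⟨0, fun u => Subsingleton.elim _ _⟩

/-- fixed points modulo the centre -/
theorem mem_center_of_quot [Finite Q] {p : ℕ} (hcop : (Nat.card Q).Coprime p) {y : MulAut Q} (hyp : y ^ p = 1)
    (hC : ∀ u, y u = u ↔ u ∈ center Q) {a : Q} (ha : a⁻¹ * y a ∈ center Q) : a ∈ center Q := by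
  set z := a⁻¹ * y a with hz
  have hyz : y z = z := (hC z).mpr ha
  have h1 : ∀ i : ℕ, (y ^ i) a = a * z ^ i := by
    intro i
    induction i with
    | zero => simp
    | succ i ih =>
      rw [pow_succ', MulAut.mul_apply, ih, map_mul, map_pow, hyz]
      have : y a = a * z := by rw [hz]; group
      rw [this, mul_assoc, ← pow_succ']
  have h2 := h1 p
  rw [hyp] at h2
  have h3 : z ^ p = 1 := by
    have : a = a * z ^ p := h2
    exact (left_eq_mul.mp this)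
  obtain ⟨m, hm⟩ := exists_root_of_coprime Q hcop
  have h4 : z = 1 := by rw [← hm z, h3, one_pow]
  rw [← hC a]
  have : y a = a * z := by rw [hz]; group
  rw [this, h4, mul_one]

theorem nrm_mem_center [Finite Q] {p : ℕ} (hcop : (Nat.card Q).Coprime p) {y : MulAut Q} (hyp : y ^ p = 1)
    (hQ : ∀ a b : Q, a * b * a⁻¹ * b⁻¹ ∈ center Q)
    (hC : ∀ u, y u = u ↔ u ∈ center Q) (u : Q) : nrm y p u ∈ center Q := by
  apply mem_center_of_quot hcop hyp hC
  rw [← QuotientGroup.eq, nrm_shift y hQ, nrm, hyp]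
  simp

theorem mem_of_quot [Finite Q] {p : ℕ} (hcop : (Nat.card Q).Coprime p) {y : MulAut Q} (hyp : y ^ p = 1)
    (hQ : ∀ a b : Q, a * b * a⁻¹ * b⁻¹ ∈ center Q)
    (hC : ∀ u, y u = u ↔ u ∈ center Q) (Y : Subgroup Q) [Y.Normal] (hZY : center Q ≤ Y) (hy : ∀ v ∈ Y, y v ∈ Y)
    {u : Q} (hu : u⁻¹ * y u ∈ Y) : u ∈ Y := by
  have h1 := nrm_quot y Y hy hu p
  have h2 : ((nrm y p u : Q) : Q ⧸ Y) = 1 :=
    (QuotientGroup.eq_one_iff _).mpr (hZY (nrm_mem_center hcop hyp hQ hC u))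
  rw [h2, ← QuotientGroup.mk_pow] at h1
  have h3 : u ^ p ∈ Y := (QuotientGroup.eq_one_iff _).mp h1.symm
  obtain ⟨m, hm⟩ := exists_root_of_coprime Q hcop
  rw [← hm u]
  exact Y.pow_mem h3 m

end norm

section subrep
variable {K : Type*} [Field K] {Q : Type*} [Group Q] {V : Type*} [AddCommGroup V] [Module K V]

/-- the restriction of a representation to an invariant subspace -/
def subrep (ρ : Q →* Module.End K V) (W : Submodule K V) (hW : ∀ u, ∀ w ∈ W, ρ u w ∈ W) :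
    Q →* Module.End K W where
  toFun u := (ρ u).restrict (hW u)
  map_one' := by
    ext w
    simp
  map_mul' := by
    intro a b
    ext w
    simp

theorem subrep_coe (ρ : Q →* Module.End K V) (W : Submodule K V) (hW : ∀ u, ∀ w ∈ W, ρ u w ∈ W) (u : Q) (w : W) :
    ((subrep ρ W hW u w : W) : V) = ρ u w := rfl

theorem subrep_irr (ρ : Q →* Module.End K V) (W : Submodule K V) (hW : ∀ u, ∀ w ∈ W, ρ u w ∈ W)
    (hmin : ∀ W' : Submodule K V, W' ≤ W → (∀ u, ∀ w ∈ W', ρ u w ∈ W') → W' = ⊥ ∨ W' = W) :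
    ∀ S : Submodule K W, (∀ u, ∀ w ∈ S, subrep ρ W hW u w ∈ S) → S = ⊥ ∨ S = ⊤ := by
  intro S hS
  have h1 := hmin (S.map W.subtype) (Submodule.map_subtype_le W S) (by
    rintro u _ ⟨w, hw, rfl⟩
    exact ⟨subrep ρ W hW u w, hS u w hw, rfl⟩)
  rcases h1 with h1 | h1
  · left
    rw [eq_bot_iff]
    intro w hw
    have h2 : (w : V) ∈ S.map W.subtype := ⟨w, hw, rfl⟩
    rw [h1, Submodule.mem_bot] at h2
    rw [Submodule.mem_bot]
    exact Subtype.ext h2
  · right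
    rw [eq_top_iff]
    rintro ⟨w, hw⟩ _
    have h2 : w ∈ S.map W.subtype := by rw [h1]; exact hw
    obtain ⟨w', hw', hww⟩ := h2
    have : w' = ⟨w, hw⟩ := Subtype.ext hww
    rwa [this] at hw'

end subrep

end Cfsg.Agent.H23
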