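import Mathlib
import Cfsg.Agent.H23.HHCore4

/-!
Hall-Higman, continued: the special case.
-/

set_option linter.style.haveILetI false
set_option linter.unusedSectionVars false

namespace Cfsg.Agent.H23

open Module Subgroup

variable {K : Type*} [Field K] {Q : Type*} [Group Q] {V : Type*} [AddCommGroup V] [Module K V]

/-- weight space -/
def wtSpace (ρ : Q →* Module.End K V) (Z : Subgroup Q) (μ : Q → K) : Submodule K V where
  carrier := {w | ∀ z ∈ Z, ρ z w = μ z • w}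
  add_mem' := by
    intro a b ha hb
    rw [Set.mem_ofPred_eq] at *
    intro z hz
    rw [map_add, ha z hz, hb z hz, smul_add]
  zero_mem' := by
    rw [Set.mem_ofPred_eq]
    intro z _
    rw [map_zero, smul_zero]
  smul_mem' := by
    intro c a ha
    rw [Set.mem_ofPred_eq] at *
    intro z hz
    rw [map_smul, ha z hz, smul_comm]

theorem mem_wtSpace {ρ : Q →* Module.End K V} {Z : Subgroup Q} {μ : Q → K} {w : V} :
    w ∈ wtSpace ρ Z μ ↔ ∀ z ∈ Z, ρ z w = μ z • w := Iff.rfl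

/-- elements commuting with everything on a given subspace -/
def commOn (ρ : Q →* Module.End K V) (U : Submodule K V) (hU : ∀ u, ∀ w ∈ U, ρ u w ∈ U) : Subgroup Q where
  carrier := {u | ∀ t, ∀ w ∈ U, ρ u (ρ t w) = ρ t (ρ u w)}
  mul_mem' := by
    intro a b ha hb
    rw [Set.mem_ofPred_eq] at *
    intro t w hw
    rw [map_mul, Module.End.mul_apply, Module.End.mul_apply, hb t w hw, ha t _ (hU b w hw)]
  one_mem' := by
    rw [Set.mem_ofPred_eq]
    intro t w _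
    rw [map_one]
    rfl
  inv_mem' := by
    intro a ha
    rw [Set.mem_ofPred_eq] at *
    intro t w hw
    have h1 : ∀ w, ρ a (ρ a⁻¹ w) = w := fun w => by
      rw [← Module.End.mul_apply, ← map_mul, mul_inv_cancel, map_one]; rfl
    have h2 : ∀ w, ρ a⁻¹ (ρ a w) = w := fun w => by
      rw [← Module.End.mul_apply, ← map_mul, inv_mul_cancel, map_one]; rfl
    have h3 := ha t (ρ a⁻¹ w) (hU _ _ hw)
    rw [h1] at h3
    rw [← h3, h2]

theorem mem_commOn {ρ : Q →* Module.End K V} {U : Submodule K V} {hU : ∀ u, ∀ w ∈ U, ρ u w ∈ U} {u : Q} :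
    u ∈ commOn ρ U hU ↔ ∀ t, ∀ w ∈ U, ρ u (ρ t w) = ρ t (ρ u w) := Iff.rfl

variable [FiniteDimensional K V] [IsAlgClosed K] [Finite Q]

theorem hh_special {p n : ℕ} [hpf : Fact p.Prime] [CharP K p] (hcop : (Nat.card Q).Coprime p)
    (ρ : Q →* Module.End K V) (hinj : Function.Injective ρ)
    (τ : MulAut Q) (hτN : τ ^ p ^ (n + 1) = 1) (X : Module.End K V) (hX : ∀ u, X * ρ u = ρ (τ u) * X)
    (hXN : X ^ p ^ (n + 1) = 1) (hQ : ∀ a b : Q, a * b * a⁻¹ * b⁻¹ ∈ center Q)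
    (hC : ∀ u, (τ ^ p ^ n) u = u ↔ u ∈ center Q) (hna : center Q ≠ ⊤) :
    (X - 1) ^ (p ^ (n + 1) - 1) ≠ 0 ∨ ∃ k ≤ n, (∃ Y : Subgroup Q, Y.index = (p ^ (n + 1 - k) - 1) ^ 2) ∧
      1 < p ^ (n + 1 - k) - 1 ∧ (∀ t, (X - 1) ^ t = 0 → p ^ k * (p ^ (n + 1 - k) - 1) ≤ t) ∧
      ((∀ z ∈ center Q, ∃ c : K, ρ z = c • 1) → k = 0) := by
  classical
  have hp := hpf.out
  by_cases hX0 : (X - 1) ^ (p ^ (n + 1) - 1) ≠ 0
  · exact Or.inl hX0
  right
  push Not at hX0
  have hN : 0 < p ^ (n + 1) := pow_pos hp.pos _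
  have hcard : (Nat.card Q : K) ≠ 0 := by
    intro h
    rw [CharP.cast_eq_zero_iff K p] at h
    have := Nat.dvd_gcd h (dvd_refl p)
    rw [hcop] at this
    exact hp.one_lt.ne' (Nat.dvd_one.mp this)
  set y := τ ^ p ^ n with hy
  have hyp : y ^ p = 1 := by rw [hy, ← pow_mul, ← pow_succ, hτN]
  set Z := center Q with hZ
  have hτZ : ∀ z ∈ Z, τ z ∈ Z := by
    intro z hz
    rw [hZ, mem_center_iff] at hz ⊢
    intro g
    have := hz (τ.symm g)
    have h2 := congrArg τ this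
    simpa using h2
  have hτpZ : ∀ (j : ℕ), ∀ z ∈ Z, (τ ^ j) z ∈ Z := mulAut_pow_char τ Z hτZ
  have hτiZ : ∀ (j : ℕ), ∀ z ∈ Z, (τ ^ j)⁻¹ z ∈ Z := by
    intro j z hz
    rw [hZ, mem_center_iff] at hz ⊢
    intro g
    have := hz ((τ ^ j) g)
    have h2 := congrArg ((τ ^ j)⁻¹ : MulAut Q) this
    simpa using h2
  -- the element z₀
  obtain ⟨a₀, ha₀⟩ : ∃ a, a ∉ Z := by
    by_contra hcon
    push Not at hcon
    exact hna (eq_top_iff.mpr (fun a _ => hcon a))
  obtain ⟨b₀, hb₀⟩ : ∃ b, b * a₀ ≠ a₀ * b := by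
    by_contra hcon
    push Not at hcon
    exact ha₀ (mem_center_iff.mpr hcon)
  set z₀ := a₀ * b₀ * a₀⁻¹ * b₀⁻¹ with hz₀
  have hz₀Z : z₀ ∈ Z := hQ a₀ b₀
  have hz₀1 : z₀ ≠ 1 := by
    intro h
    apply hb₀
    rw [hz₀, mul_inv_eq_one, mul_inv_eq_iff_eq_mul] at h
    exact h.symm
  obtain ⟨w₀, hw₀⟩ : ∃ w, ρ z₀ w ≠ w := by
    by_contra hcon
    push Not at hcon
    apply hz₀1
    apply hinj
    rw [map_one]
    exact LinearMap.ext hcon
  have hρZ : ∀ z ∈ Z, ∀ u w, ρ z (ρ u w) = ρ u (ρ z w) := by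
    intro z hz u w
    rw [← Module.End.mul_apply, ← Module.End.mul_apply, ← map_mul, ← map_mul, mem_center_iff.mp hz u]
  obtain ⟨v, μ, _, hv0, hμ, hμz₀⟩ := exists_common_eigenvector_ne hcard (Z : Set Q) ρ (U := ⊤)
    (fun a _ u _ => Submodule.mem_top) (fun a ha b _ u _ => hρZ a ha b u) hz₀Z (w := w₀) Submodule.mem_top hw₀
  set U := wtSpace ρ Z μ with hU
  have hvU : v ∈ U := mem_wtSpace.mpr hμ
  have hUinv : ∀ u, ∀ w ∈ U, ρ u w ∈ U := by
    intro u w hw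
    rw [hU, mem_wtSpace] at hw ⊢
    intro z hz
    rw [hρZ z hz, hw z hz, map_smul]
  -- the period of μ
  have hSy : ∀ z ∈ Z, μ ((τ ^ p ^ n) z) = μ z := by
    intro z hz
    rw [(hC z).mpr hz]
  have hex : ∃ j : ℕ, 0 < j ∧ ∀ z ∈ Z, μ ((τ ^ j) z) = μ z := ⟨p ^ n, pow_pos hp.pos _, hSy⟩
  set P := Nat.find hex with hPdef
  have hP0 : 0 < P := (Nat.find_spec hex).1
  have hPμ : ∀ z ∈ Z, μ ((τ ^ P) z) = μ z := (Nat.find_spec hex).2
  have hPmin : ∀ j, 0 < j → (∀ z ∈ Z, μ ((τ ^ j) z) = μ z) → P ≤ j := fun j hj0 hj => Nat.find_min' hex ⟨hj0, hj⟩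
  have hPq : ∀ q : ℕ, ∀ z ∈ Z, μ ((τ ^ (P * q)) z) = μ z := by
    intro q
    induction q with
    | zero => intro z _; simp
    | succ q ih =>
      intro z hz
      rw [mul_add, mul_one, pow_add, MulAut.mul_apply, ih _ (hτpZ P z hz), hPμ z hz]
  have hPdvd : P ∣ p ^ n := by
    rw [Nat.dvd_iff_mod_eq_zero]
    by_contra hne
    have h1 := hPmin (p ^ n % P) (Nat.pos_of_ne_zero hne) (by
      intro z hz
      have h2 := hPq (p ^ n / P) ((τ ^ (p ^ n % P)) z) (hτpZ _ z hz)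
      rw [← MulAut.mul_apply, ← pow_add, Nat.div_add_mod, hSy z hz] at h2
      exact h2.symm)
    exact absurd (Nat.mod_lt (p ^ n) hP0) (not_lt.mpr h1)
  obtain ⟨k, hk, hPk⟩ := (Nat.dvd_prime_pow hp).mp hPdvd
  set m₁ := n - k with hm₁
  have hN₁ : p ^ (n + 1 - k) = p ^ (m₁ + 1) := by congr 1; omega
  have hPN₁ : P * p ^ (m₁ + 1) = p ^ (n + 1) := by rw [hPk, ← pow_add]; congr 1; omega
  have hPm₁ : P * p ^ m₁ = p ^ n := by rw [hPk, ← pow_add]; congr 1; omega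
  have hN₁pos : 0 < p ^ (m₁ + 1) := pow_pos hp.pos _
  -- distinct weights
  have hdist : ∀ i j, i < P → j < P → i ≠ j → ∃ a ∈ (Z : Set Q), μ ((τ ^ i)⁻¹ a) ≠ μ ((τ ^ j)⁻¹ a) := by
    have hord : ∀ i j, i < j → j < P → ∃ a ∈ (Z : Set Q), μ ((τ ^ i)⁻¹ a) ≠ μ ((τ ^ j)⁻¹ a) := by
      intro i j hij hj
      by_contra hcon
      push Not at hcon
      have h1 := hPmin (j - i) (by omega) (by
        intro z hz
        have h2 := hcon ((τ ^ j) z) (hτpZ j z hz)
        have h3 : (τ ^ i)⁻¹ ((τ ^ j) z) = (τ ^ (j - i)) z := by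
          rw [← MulAut.mul_apply]
          congr 1
          rw [inv_mul_eq_iff_eq_mul, ← pow_add]
          congr 1; omega
        rw [h3, MulAut.inv_apply_self] at h2
        exact h2)
      omega
    intro i j hi hj hij
    rcases lt_or_gt_of_ne hij with h | h
    · exact hord i j h hj
    · obtain ⟨a, ha, hne⟩ := hord j i h hi
      exact ⟨a, ha, hne.symm⟩
  set τ₁ := τ ^ P with hτ₁
  set X₁ := X ^ P with hX₁
  have hX₁i : ∀ u, X₁ * ρ u = ρ (τ₁ u) * X₁ := intertwine_pow ρ τ X hX P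
  have hX₁N : X₁ ^ p ^ (m₁ + 1) = 1 := by rw [hX₁, ← pow_mul, hPN₁, hXN]
  have hτ₁N : τ₁ ^ p ^ (m₁ + 1) = 1 := by rw [hτ₁, ← pow_mul, hPN₁, hτN]
  have hτ₁y : τ₁ ^ p ^ m₁ = y := by rw [hτ₁, ← pow_mul, hPm₁]
  have hX₁U : ∀ w ∈ U, X₁ w ∈ U := by
    intro w hw
    rw [hU, mem_wtSpace] at hw ⊢
    intro z hz
    have h1 := congrArg (fun f : Module.End K V => f w) (hX₁i ((τ ^ P)⁻¹ z))
    simp only [Module.End.mul_apply, hτ₁, MulAut.apply_inv_self] at h1
    rw [← h1, hw _ (hτiZ P z hz), map_smul]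
    have h2 := hPμ ((τ ^ P)⁻¹ z) (hτiZ P z hz)
    rw [MulAut.apply_inv_self] at h2
    rw [h2]
  have horbit : ∀ u ∈ U, u ≠ 0 → ((X - 1) ^ (P - 1)) u ≠ 0 := by
    intro u hu hu0
    refine orbit_ne_zero (Z : Set Q) ρ X hP0 (fun j b => μ ((τ ^ j)⁻¹ b)) hdist hu0 ?_
    intro j _ z hz
    have h1 := congrArg (fun f : Module.End K V => f u) (intertwine_pow ρ τ X hX j ((τ ^ j)⁻¹ z))
    simp only [Module.End.mul_apply, MulAut.apply_inv_self] at h1
    rw [← h1, (mem_wtSpace.mp hu) _ (hτiZ j z hz), map_smul]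
  haveI : Nontrivial V := ⟨v, 0, hv0⟩
  haveI : CharP (Module.End K V) p := charP_of_injective_algebraMap' K (A := Module.End K V) p
  have hX₁sub : (X - 1) ^ P = X₁ - 1 := by
    rw [hX₁, hPk, sub_pow_char_pow_of_commute, one_pow]
    exact Commute.one_right _
  have hsubU : ∀ (j : ℕ), ∀ w ∈ U, ((X₁ - 1) ^ j) w ∈ U := by
    intro j
    induction j with
    | zero => intro w hw; simpa using hw
    | succ j ih =>
      intro w hw
      rw [pow_succ', Module.End.mul_apply, LinearMap.sub_apply, Module.End.one_apply]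
      exact U.sub_mem (hX₁U _ (ih w hw)) (ih w hw)
  have hclaim : ∀ (j : ℕ), ∀ u ∈ U, ((X₁ - 1) ^ j) u ≠ 0 → (X - 1) ^ (P * j + (P - 1)) ≠ 0 := by
    intro j u hu hne h0
    have h1 := horbit _ (hsubU j u hu) hne
    apply h1
    rw [← hX₁sub, ← pow_mul, ← Module.End.mul_apply, ← pow_add, add_comm, h0]
    rfl
  have hX₁0 : ∀ u ∈ U, ((X₁ - 1) ^ (p ^ (m₁ + 1) - 1)) u = 0 := by
    intro u hu
    by_contra hne
    apply hclaim _ u hu hne
    have h1 : P * (p ^ (m₁ + 1) - 1) + (P - 1) = p ^ (n + 1) - 1 := by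
      rw [Nat.mul_sub, hPN₁, mul_one]
      have : P ≤ p ^ (n + 1) := by rw [← hPN₁]; exact Nat.le_mul_of_pos_right _ hN₁pos
      omega
    rw [h1, hX0]
  -- the radical
  set Y := commOn ρ U hUinv with hY
  have hZY : Z ≤ Y := by
    intro z hz
    rw [hY, mem_commOn]
    intro t w _
    exact hρZ z hz t w
  have hcomm : ∀ u t : Q, u * t * u⁻¹ * t⁻¹ ∈ Y := fun u t => hZY (hQ u t)
  haveI hYn : Y.Normal := normal_of_comm hcomm
  have hτ₁Y : ∀ a ∈ Y, τ₁ a ∈ Y := by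
    intro a ha
    rw [hY, mem_commOn] at ha ⊢
    intro t w hw
    have hX₁c : X₁ ((X₁ ^ (p ^ (m₁ + 1) - 1)) w) = w := by
      rw [← Module.End.mul_apply, ← pow_succ', Nat.sub_add_cancel hN₁pos, hX₁N]
      rfl
    have hX₁p : ∀ (j : ℕ), ∀ w ∈ U, (X₁ ^ j) w ∈ U := by
      intro j
      induction j with
      | zero => intro w hw; simpa using hw
      | succ j ih =>
        intro w hw
        rw [pow_succ', Module.End.mul_apply]
        exact hX₁U _ (ih w hw)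
    set w' := (X₁ ^ (p ^ (m₁ + 1) - 1)) w with hw'
    have hw'U : w' ∈ U := hX₁p _ w hw
    have hi : ∀ u x, ρ (τ₁ u) (X₁ x) = X₁ (ρ u x) := by
      intro u x
      have := congrArg (fun f : Module.End K V => f x) (hX₁i u)
      simpa using this.symm
    obtain ⟨t', rfl⟩ := τ₁.surjective t
    rw [← hX₁c, hi, hi, hi, hi, ha t' w' hw'U]
  have hYcomm : ∀ a ∈ Y, ∀ b ∈ Y, ∀ u ∈ U, ρ a (ρ b u) = ρ b (ρ a u) := fun a ha b _ u hu => ha b u hu
  have hstar := star hcard Y ρ (U := U) (fun a _ u hu => hUinv a u hu) hYcomm τ₁ hτ₁Y X₁ hX₁i hp hτ₁N hX₁0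
  rw [hτ₁y] at hstar
  have hyY : ∀ v ∈ Y, y v ∈ Y := by
    intro v hv
    rw [← hτ₁y]
    exact mulAut_pow_char τ₁ Y hτ₁Y _ v hv
  have hnρ : ∀ (i : ℕ), ∀ a ∈ Y, ∀ w ∈ U, ρ (nrm y i a) w = ((ρ a) ^ i) w := by
    have h1 : ∀ (i : ℕ), ∀ a ∈ Y, ∀ w ∈ U, ρ ((y ^ i) a) w = ρ a w := by
      intro i
      induction i with
      | zero => intro a _ w _; simp
      | succ i ih =>
        intro a ha w hw
        rw [pow_succ, MulAut.mul_apply, ih _ (hyY a ha) w hw, hstar a ha w hw]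
    intro i
    induction i with
    | zero => intro a _ w _; simp [nrm]
    | succ i ih =>
      intro a ha w hw
      rw [nrm, map_mul, Module.End.mul_apply, h1 i a ha w hw, ih a ha _ (hUinv a w hw), pow_succ,
        Module.End.mul_apply]
  obtain ⟨r, hr⟩ := exists_root_of_coprime Q hcop
  have hYsc : ∀ a ∈ Y, ∀ w ∈ U, ρ a w = (μ (nrm y p a) ^ r) • w := by
    intro a ha w hw
    have h1 : ∀ w ∈ U, ρ (a ^ p) w = μ (nrm y p a) • w := by
      intro w hw
      rw [map_pow, ← hnρ p a ha w hw]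
      exact (mem_wtSpace.mp hw) _ (nrm_mem_center hcop hyp hQ hC a)
    have h2 : ∀ (i : ℕ), ∀ w ∈ U, ρ ((a ^ p) ^ i) w = (μ (nrm y p a) ^ i) • w := by
      intro i
      induction i with
      | zero => intro w _; simp
      | succ i ih =>
        intro w hw
        rw [pow_succ (a ^ p), map_mul, Module.End.mul_apply, h1 w hw, map_smul, ih w hw, smul_smul, pow_succ,
          mul_comm]
    have h3 := h2 r w hw
    rwa [hr a] at h3
  have hYτ : ∀ a ∈ Y, ∀ w ∈ U, ρ (τ₁ a) w = ρ a w := by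
    intro a ha w hw
    rw [hYsc _ (hτ₁Y a ha) w hw, hYsc a ha w hw]
    have h1 : y * τ₁ = τ₁ * y := by rw [hy, hτ₁, ← pow_add, ← pow_add, add_comm]
    rw [nrm_map y τ₁ h1, hPμ _ (nrm_mem_center hcop hyp hQ hC a)]
  -- the irreducible constituent
  have hUne : U ≠ ⊥ := by
    intro h
    rw [h, Submodule.mem_bot] at hvU
    exact hv0 hvU
  obtain ⟨W, hWU, hWne, hWinv, hWmin⟩ := exists_minimal_invariant
    (fun W => ∀ u, ∀ w ∈ W, ρ u w ∈ W) hUne hUinv
  haveI : Nontrivial W := (Submodule.nontrivial_iff_ne_bot).mpr hWne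
  set σ := subrep ρ W hWinv with hσ
  have hσcoe : ∀ u (w : W), ((σ u w : W) : V) = ρ u w := fun u w => rfl
  have hσirr := subrep_irr ρ W hWinv hWmin
  have hσY : ∀ a ∈ Y, ∃ c : K, σ a = c • 1 := by
    intro a ha
    refine ⟨μ (nrm y p a) ^ r, ?_⟩
    ext w
    rw [hσcoe, hYsc a ha w (hWU w.2)]
    rfl
  have hσU : ∀ z ∈ Z, σ z = 1 → ∀ w ∈ U, ρ z w = w := by
    intro z hz h1 w hw
    obtain ⟨w₁, hw₁⟩ := exists_ne (0 : W)
    have h2 : ρ z (w₁ : V) = w₁ := by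
      rw [← hσcoe, h1]; rfl
    rw [(mem_wtSpace.mp (hWU w₁.2)) z hz] at h2
    have h3 : (μ z - 1) • (w₁ : V) = 0 := by rw [sub_smul, h2, one_smul, sub_self]
    have h4 : μ z = 1 := by
      rcases smul_eq_zero.mp h3 with h | h
      · exact sub_eq_zero.mp h
      · exact absurd (Subtype.ext h) hw₁
    rw [(mem_wtSpace.mp hw) z hz, h4, one_smul]
  have hcommρ : ∀ u t w, ρ (u * t * u⁻¹ * t⁻¹) (ρ t (ρ u w)) = ρ u (ρ t w) := by
    intro u t w
    rw [← Module.End.mul_apply, ← Module.End.mul_apply, ← Module.End.mul_apply, ← map_mul, ← map_mul, ← map_mul]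
    congr 2
    group
  have hnd : ∀ u, u ∉ Y → ∃ t, σ (u * t * u⁻¹ * t⁻¹) ≠ 1 := by
    intro u hu
    by_contra hcon
    push Not at hcon
    apply hu
    rw [hY, mem_commOn]
    intro t w hw
    rw [← hcommρ u t w]
    exact hσU _ (hQ u t) (hcon t) _ (hUinv t _ (hUinv u w hw))
  have hYne : Y ≠ ⊤ := by
    intro h
    have ha₀Y : a₀ ∈ Y := by rw [h]; exact mem_top a₀
    rw [hY, mem_commOn] at ha₀Y
    have h1 : ∀ w ∈ U, ρ z₀ w = w := by
      intro w hw
      have h2 : w = ρ b₀ (ρ a₀ (ρ a₀⁻¹ (ρ b₀⁻¹ w))) := by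
        rw [← Module.End.mul_apply, ← Module.End.mul_apply, ← Module.End.mul_apply, ← map_mul, ← map_mul,
          ← map_mul]
        have : b₀ * a₀ * a₀⁻¹ * b₀⁻¹ = 1 := by group
        rw [this, map_one]; rfl
      have h3 := hcommρ a₀ b₀ (ρ a₀⁻¹ (ρ b₀⁻¹ w))
      rw [← h2, ← hz₀, ha₀Y b₀ _ (hUinv _ _ (hUinv _ _ hw)), ← h2] at h3
      exact h3
    have h2 := h1 v hvU
    rw [hμ z₀ hz₀Z] at h2
    have h3 : (μ z₀ - 1) • v = 0 := by rw [sub_smul, h2, one_smul, sub_self]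
    rcases smul_eq_zero.mp h3 with h | h
    · exact hμz₀ (sub_eq_zero.mp h)
    · exact hv0 h
  have hτσ : ∀ a ∈ Y, σ (τ₁ a) = σ a := by
    intro a ha
    ext w
    rw [hσcoe, hσcoe, hYτ a ha w (hWU w.2)]
  obtain ⟨T, hT, hTN⟩ := exists_operator σ hσirr Y hσY hcomm hnd hcard τ₁ hτσ hN₁pos hτ₁N
  have hfree : ∀ i : ℕ, 0 < i → i < p ^ (m₁ + 1) → ∀ u, (τ₁ ^ i) u * u⁻¹ ∈ Y → u ∈ Y := by
    intro i hi0 hi u hu
    obtain ⟨s, hs⟩ := exists_pow_eq hp hτ₁N hi0 hi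
    rw [hτ₁y] at hs
    have h1 : ∀ s : ℕ, (τ₁ ^ (i * s)) u * u⁻¹ ∈ Y := by
      intro s
      induction s with
      | zero => simp [Y.one_mem]
      | succ s ih =>
        have h2 : (τ₁ ^ (i * (s + 1))) u * u⁻¹ = (τ₁ ^ (i * s)) ((τ₁ ^ i) u * u⁻¹) * ((τ₁ ^ (i * s)) u * u⁻¹) := by
          rw [mul_add, mul_one, pow_add, MulAut.mul_apply, map_mul, map_inv]
          group
        rw [h2]
        exact Y.mul_mem (mulAut_pow_char τ₁ Y hτ₁Y _ _ hu) ih
    have h2 := h1 s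
    rw [hs] at h2
    apply mem_of_quot hcop hyp hQ hC Y hZY hyY
    have h3 := hYn.conj_mem _ h2 u⁻¹
    have h4 : u⁻¹ * (y u * u⁻¹) * u⁻¹⁻¹ = u⁻¹ * y u := by group
    rwa [h4] at h3
  have hcore := hh_core σ hσirr Y hσY hcomm hnd hcard τ₁ hτ₁Y hτ₁N hfree hYne T hT hTN
  obtain ⟨h, hhinj, hhX, hhρ⟩ := exists_equivariant_embedding σ hσirr ρ τ₁ T hT hTN X₁ hX₁i hX₁N W.subtype (by
    intro h
    apply hWne
    rw [eq_bot_iff]
    intro w hw
    have := congrArg (fun f : W →ₗ[K] V => f ⟨w, hw⟩) h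
    rw [Submodule.mem_bot]
    simpa using this) (by
    intro u
    ext w
    rfl)
  have hhU : ∀ w, h w ∈ U := by
    intro w
    rw [hU, mem_wtSpace]
    intro z hz
    rw [← hhρ]
    have h1 : σ z w = μ z • w := by
      apply Subtype.ext
      rw [hσcoe, (mem_wtSpace.mp (hWU w.2)) z hz]
      rfl
    rw [h1, map_smul]
  have hhpow : ∀ (j : ℕ) (w : W), ((X₁ - 1) ^ j) (h w) = h (((T - 1) ^ j) w) := by
    intro j
    induction j with
    | zero => intro w; simp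
    | succ j ih =>
      intro w
      rw [pow_succ', Module.End.mul_apply, ih, LinearMap.sub_apply, Module.End.one_apply, hhX, pow_succ',
        Module.End.mul_apply, LinearMap.sub_apply, Module.End.one_apply, map_sub]
  have hTne : ∀ j : ℕ, (T - 1) ^ j ≠ 0 → (X - 1) ^ (P * j + (P - 1)) ≠ 0 := by
    intro j hj
    obtain ⟨w, hw⟩ : ∃ w, ((T - 1) ^ j) w ≠ 0 := by
      by_contra hcon
      push Not at hcon
      exact hj (LinearMap.ext hcon)
    apply hclaim j (h w) (hhU w)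
    rw [hhpow]
    intro h0
    exact hw (hhinj (by rw [h0, map_zero]))
  have hPle : P ≤ p ^ (n + 1) := by rw [← hPN₁]; exact Nat.le_mul_of_pos_right _ hN₁pos
  rcases hcore with hcore | ⟨hidx, hbd⟩
  · exfalso
    apply hTne _ hcore
    have h1 : P * (p ^ (m₁ + 1) - 1) + (P - 1) = p ^ (n + 1) - 1 := by
      rw [Nat.mul_sub, hPN₁, mul_one]
      omega
    rw [h1, hX0]
  · have hN₁2 : 2 ≤ p ^ (m₁ + 1) := by
      calc 2 ≤ p := hp.two_le
        _ = p ^ 1 := (pow_one p).symm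
        _ ≤ _ := Nat.pow_le_pow_right hp.pos (by omega)
    have h1lt : 1 < p ^ (m₁ + 1) - 1 := by
      by_contra hcon
      have h1 : p ^ (m₁ + 1) - 1 = 1 := by omega
      rw [h1, one_pow] at hidx
      exact hYne (Subgroup.index_eq_one.mp hidx)
    refine ⟨k, hk, ⟨Y, by rw [hN₁, hidx]⟩, by rw [hN₁]; exact h1lt, ?_, ?_⟩
    · intro t ht
      by_contra hcon
      push Not at hcon
      rw [hN₁, ← hPk] at hcon
      have h2 : (T - 1) ^ (p ^ (m₁ + 1) - 2) ≠ 0 := by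
        intro h
        have := hbd _ h
        omega
      apply hTne _ h2
      have h3 : t ≤ P * (p ^ (m₁ + 1) - 2) + (P - 1) := by
        have h4 : P * (p ^ (m₁ + 1) - 1) = P * (p ^ (m₁ + 1) - 2) + P := by
          have : p ^ (m₁ + 1) - 1 = p ^ (m₁ + 1) - 2 + 1 := by omega
          rw [this, mul_add, mul_one]
        omega
      obtain ⟨d, hd⟩ := Nat.exists_eq_add_of_le h3
      rw [hd, pow_add, ht, zero_mul]
    · intro hsc
      have h1 := hPmin 1 one_pos (by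
        intro z hz
        rw [pow_one]
        obtain ⟨c, hc⟩ := hsc z hz
        have hXr : ∀ w, X ((X ^ (p ^ (n + 1) - 1)) w) = w := by
          intro w
          rw [← Module.End.mul_apply, ← pow_succ', Nat.sub_add_cancel hN, hXN]
          rfl
        have h2 : ρ (τ z) v = c • v := by
          have h3 := congrArg (fun f : Module.End K V => f ((X ^ (p ^ (n + 1) - 1)) v)) (hX z)
          simp only [Module.End.mul_apply, hXr, hc, LinearMap.smul_apply, Module.End.one_apply, map_smul] at h3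
          exact h3.symm
        have h3 : ρ z v = c • v := by rw [hc]; rfl
        rw [hμ _ (hτZ z hz)] at h2
        rw [hμ z hz] at h3
        have h4 : (μ (τ z) - μ z) • v = 0 := by rw [sub_smul, h2, h3, sub_self]
        rcases smul_eq_zero.mp h4 with h | h
        · exact sub_eq_zero.mp h
        · exact absurd h hv0)
      rw [hPk] at h1
      by_contra hk0
      have h2 : 2 ≤ p ^ k := by
        calc 2 ≤ p := hp.two_le
          _ = p ^ 1 := (pow_one p).symm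
          _ ≤ _ := Nat.pow_le_pow_right hp.pos (Nat.one_le_iff_ne_zero.mpr hk0)
      omega

end Cfsg.Agent.H23
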