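import Cfsg.Agent.H23.Coprime5
import Cfsg.Agent.H2.Frat
import Cfsg.Prelude.Def_Transfer
set_option autoImplicit false
set_option linter.all false

/-!
# Hall–Higman reduction for a minimal non-trivial coprime action.
-/

namespace Cfsg.Agent.H23

open Subgroup
open scoped Pointwise commutatorElement

variable {X : Type*} [Group X]

/-- If `U` is normalized by `P = [P,A]` and centralized by `A`, then it is centralized by `P`. -/
theorem le_centralizer_of_commutator_eq_bot {A P U : Subgroup X} (hPA : ⁅P, A⁆ = P)
    (hU : P ≤ normalizer (U : Set X)) (hUA : ⁅U, A⁆ = ⊥) : ⁅U, P⁆ = ⊥ := by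
  have h1 : ⁅⁅A, U⁆, P⁆ = ⊥ := by
    rw [commutator_comm A U, hUA, commutator_eq_bot_iff_le_centralizer]
    exact bot_le
  have h2 : ⁅⁅U, P⁆, A⁆ = ⊥ := by
    rw [← le_bot_iff, ← hUA]
    exact commutator_mono (commutator_le_of_le_normalizer hU) le_rfl
  have h3 := commutator_commutator_eq_bot_of_rotate h1 h2
  rw [hPA] at h3
  rw [commutator_comm]; exact h3

theorem map_subtype_eq_bot_iff {P : Subgroup X} {K : Subgroup P} :
    K.map P.subtype = ⊥ ↔ K = ⊥ :=
  Subgroup.map_eq_bot_iff_of_injective K P.subtype_injective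

theorem le_center_iff_map {P : Subgroup X} {K : Subgroup P} :
    K ≤ center P ↔ ⁅K.map P.subtype, P⁆ = ⊥ := by
  rw [commutator_eq_bot_iff_le_centralizer]
  constructor
  · rintro h _ ⟨k, hk, rfl⟩
    rw [mem_centralizer_iff]
    intro x hx
    exact congrArg Subtype.val (mem_center_iff.mp (h hk) ⟨x, hx⟩)
  · intro h k hk
    rw [mem_center_iff]
    intro x
    apply Subtype.ext
    exact mem_centralizer_iff.mp (h (mem_map_of_mem _ hk)) x x.2

theorem hall_higman_reduction [Finite X] {p : ℕ} [Fact p.Prime] (B A P : Subgroup X)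
    (hP : IsPGroup p P) (hBP : B ≤ normalizer (P : Set X)) (hAB : A ≤ B)
    (hAn : B ≤ normalizer (A : Set X)) (hAp : (Nat.card A).Coprime p) (hnt : ⁅P, A⁆ ≠ ⊥)
    (hmin : ∀ U : Subgroup X, U < P → B ≤ normalizer (U : Set X) → ⁅U, A⁆ = ⊥) :
    ⁅P, A⁆ = P ∧ (Cfsg.IsElementaryAbelian p P ∨ Cfsg.IsSpecial p ↥P) ∧
      (∀ U : Subgroup X, (frattini ↥P).map P.subtype ≤ U → U ≤ P → B ≤ normalizer (U : Set X) →
        U = (frattini ↥P).map P.subtype ∨ U = P) ∧ (p ≠ 2 → ∀ x ∈ P, x ^ p = 1) := by
  have hAP : A ≤ normalizer (P : Set X) := hAB.trans hBP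
  have hcop : (Nat.card A).Coprime (Nat.card P) := card_coprime_of_isPGroup hP hAp
  have hPs : Group.IsSolvable A ∨ Group.IsSolvable P := Or.inr (isSolvable_of_isPGroup hP)
  -- step 1
  have hPA : ⁅P, A⁆ = P := by
    by_contra hne
    have hlt : ⁅P, A⁆ < P := lt_of_le_of_ne (commutator_le_of_le_normalizer hAP) hne
    have hB : B ≤ normalizer ((⁅P, A⁆ : Subgroup X) : Set X) := by
      intro b hb
      rw [H1.mem_normalizer_iff_conj_smul, conj_smul_commutator,
        H1.mem_normalizer_iff_conj_smul.mp (hBP hb), H1.mem_normalizer_iff_conj_smul.mp (hAn hb)]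
    exact hnt (commutator_eq_bot_of_commutator_commutator hAP hcop (hmin _ hlt hB))
  have hchar : ∀ K : Subgroup P, K.Characteristic → B ≤ normalizer ((K.map P.subtype : Subgroup X) : Set X) :=
    fun K hK => hBP.trans (normalizer_le_normalizer_map K)
  have hP1 : P ≠ ⊥ := by
    rintro rfl
    apply hnt
    rw [commutator_eq_bot_iff_le_centralizer]; exact bot_le
  haveI : Nontrivial P := (Subgroup.nontrivial_iff_ne_bot P).mpr hP1
  have hchar_lt : ∀ K : Subgroup P, K ≠ ⊤ → K.map P.subtype < P := by
    intro K hK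
    refine lt_of_le_of_ne (map_subtype_le K) fun h => hK ?_
    apply Subgroup.map_injective P.subtype_injective
    rw [h, ← MonoidHom.range_eq_map, range_subtype]
  have hΦtop : frattini P ≠ ⊤ := by
    intro h
    have : (⊥ : Subgroup P) = ⊤ := eq_top_of_sup_frattini (by rw [h, bot_sup_eq])
    exact bot_ne_top this
  have hΦlt := hchar_lt _ hΦtop
  have hΦB := hchar (frattini P) inferInstance
  have hΦA : ⁅(frattini P).map P.subtype, A⁆ = ⊥ := hmin _ hΦlt hΦB
  have hcomm : ⁅P, P⁆ ≤ (frattini P).map P.subtype := by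
    rw [← map_subtype_commutator]
    exact map_mono (commutator_le_frattini_of_isNilpotent hP.isNilpotent)
  -- step 2
  have hirr : ∀ U : Subgroup X, (frattini ↥P).map P.subtype ≤ U → U ≤ P →
      B ≤ normalizer (U : Set X) → U = (frattini ↥P).map P.subtype ∨ U = P := by
    intro U hΦU hUP hBU
    by_cases h : U = P
    · exact Or.inr h
    · left
      have hUA := hmin U (lt_of_le_of_ne hUP h) hBU
      exact eq_of_commutator_le_of_abelian_quotient hAP hcop hPs hPA hcomm (hAB.trans hΦB) hΦU hUP
        (hUA ▸ bot_le)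
  -- step 3
  by_cases hab : IsMulCommutative P
  · have hel : Cfsg.IsElementaryAbelian p P := by
      refine ⟨hab, fun x hx => ?_⟩
      have h1 : x ^ p ∈ (frattini P).map P.subtype :=
        ⟨(⟨x, hx⟩ : P) ^ p, H2.pow_mem_frattini hP _, rfl⟩
      have h2 : (frattini P).map P.subtype ≤ ⁅P, A⁆ ⊓ centralizer (A : Set X) :=
        le_inf (hPA.symm ▸ hΦlt.le) (commutator_eq_bot_iff_le_centralizer.mp hΦA)
      rw [commutator_inf_centralizer_of_abelian hAP hcop hab] at h2
      exact mem_bot.mp (h2 h1)
    exact ⟨hPA, Or.inl hel, hirr, fun _ => hel.2⟩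
  · have hZtop : center P ≠ ⊤ := by
      intro h
      apply hab
      refine ⟨⟨fun a b => ?_⟩⟩
      have : b ∈ center P := h ▸ mem_top b
      exact mem_center_iff.mp this a
    -- proper B-invariant normal subgroups are central
    have hcen : ∀ K : Subgroup P, K.Characteristic → K ≠ ⊤ → K ≤ center P := by
      intro K hK hKt
      rw [le_center_iff_map]
      apply le_centralizer_of_commutator_eq_bot hPA
      · exact le_normalizer.trans (normalizer_le_normalizer_map K)
      · exact hmin _ (hchar_lt K hKt) (hchar K hK)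
    have hΦZ : frattini P ≤ center P := hcen _ inferInstance hΦtop
    have hΦZ' : frattini P = center P := by
      rcases hirr ((center P).map P.subtype) (map_mono hΦZ) (map_subtype_le _)
        (hchar _ inferInstance) with h | h
      · exact (Subgroup.map_injective P.subtype_injective h).symm
      · exact absurd h (hchar_lt _ hZtop).ne
    have hcomm' : commutator P = center P := by
      rw [← hΦZ']
      apply Subgroup.map_injective P.subtype_injective
      rw [map_subtype_commutator]
      refine (eq_of_commutator_le_of_abelian_quotient hAP hcop hPs hPA le_rfl ?_ hcomm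
        (map_subtype_le _) (hΦA ▸ bot_le)).symm
      rw [← map_subtype_commutator]
      exact hAB.trans (hchar _ inferInstance)
    refine ⟨hPA, Or.inr ⟨hP, hΦZ', hcomm'⟩, hirr, fun hp2 => ?_⟩
    -- step 4
    have hpow : ∀ x y : P, (x * y) ^ p = x ^ p * y ^ p := by
      intro x y
      have hc : ∀ z : P, Commute ⁅y, x⁆ z := by
        intro z
        have h1 : ⁅y, x⁆ ∈ center P := hcomm' ▸ commutator_mem_commutator (mem_top y) (mem_top x)
        exact (mem_center_iff.mp h1 z).symm
      rw [mul_pow_of_class_two x y hc p]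
      have h2 : ⁅y, x⁆ ^ p = 1 := by
        rw [← commutator_pow_left_of_central x y hc p, commutatorElement_eq_one_iff_mul_comm]
        have h3 : y ^ p ∈ center P := hΦZ' ▸ H2.pow_mem_frattini hP y
        exact (mem_center_iff.mp h3 x).symm
      have h4 : p ∣ p * (p - 1) / 2 := by
        have hodd : Odd p := (Fact.out : p.Prime).odd_of_ne_two hp2
        obtain ⟨k, hk⟩ := hodd
        rw [hk, Nat.add_sub_cancel, show (2 * k + 1) * (2 * k) = ((2 * k + 1) * k) * 2 by ring,
          Nat.mul_div_cancel _ (by norm_num : 0 < 2)]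
        exact dvd_mul_right _ _
      obtain ⟨m, hm⟩ := h4
      rw [hm, pow_mul, h2, one_pow, mul_one]
    let U : Subgroup P :=
      { carrier := {x | x ^ p = 1}
        mul_mem' := fun {x y} hx hy => by
          show (x * y) ^ p = 1
          rw [hpow, show x ^ p = 1 from hx, show y ^ p = 1 from hy, mul_one]
        one_mem' := one_pow p
        inv_mem' := fun {x} hx => by
          show x⁻¹ ^ p = 1
          rw [inv_pow, show x ^ p = 1 from hx, inv_one] }
    have hUchar : U.Characteristic := by
      rw [characteristic_iff_le_comap]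
      intro ϕ x hx
      show (ϕ x) ^ p = 1
      rw [← map_pow, show x ^ p = 1 from hx, map_one]
    have hUtop : U = ⊤ := by
      by_contra hU
      have h1 := hmin _ (hchar_lt U hU) (hchar U hUchar)
      have h2 : P ≤ centralizer (A : Set X) := by
        apply le_centralizer_of_omega_odd hp2 hP hAP hAp
        intro x hx hxp
        apply commutator_eq_bot_iff_le_centralizer.mp h1
        exact ⟨⟨x, hx⟩, Subtype.ext hxp, rfl⟩
      exact hnt (commutator_eq_bot_iff_le_centralizer.mpr h2)
    intro x hx
    have : (⟨x, hx⟩ : P) ∈ U := hUtop ▸ mem_top _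
    exact congrArg Subtype.val this

end Cfsg.Agent.H23
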