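import Mathlib
import Cfsg.Agent.H23.HHCore5
import Cfsg.Agent.H23.HHRed

/-!
Hall-Higman: the action of a `p`-element on a `q`-group of a linear group in characteristic `p`.
-/

set_option linter.style.haveILetI false
set_option linter.unusedSectionVars false

namespace Cfsg.Agent.H23

open Module Subgroup

variable {K : Type*} [Field K] {G : Type*} [Group G] {V : Type*} [AddCommGroup V] [Module K V]
variable [FiniteDimensional K V] [IsAlgClosed K] [Finite G]

theorem le_normalizer_zpowers_pow (x : G) (j : ℕ) : zpowers x ≤ normalizer ((zpowers (x ^ j) : Subgroup G) : Set G) := by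
  apply le_normalizer_of_conj_mem
  rintro a ⟨i, rfl⟩ g ⟨l, rfl⟩
  refine ⟨l, ?_⟩
  have : Commute (x ^ i) ((x ^ j) ^ l) := ((Commute.refl x).pow_right j).zpow_zpow i l
  simp only
  rw [this.eq, mul_inv_cancel_right]

theorem hh_qgroup {p q n : ℕ} [hpf : Fact p.Prime] [hqf : Fact q.Prime] (hpq : p ≠ q) [CharP K p]
    (ρ : G →* Module.End K V) (hinj : Function.Injective ρ) {x : G} (hx : x ^ p ^ (n + 1) = 1)
    (Q₀ : Subgroup G) (hQ₀ : IsPGroup q Q₀) (hxQ : x ∈ normalizer (Q₀ : Set G))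
    (hne : ∃ u ∈ Q₀, x ^ p ^ n * u ≠ u * x ^ p ^ n) :
    (ρ x - 1) ^ (p ^ (n + 1) - 1) ≠ 0 ∨ ∃ k ≤ n, (∃ m, 1 ≤ m ∧ p ^ (n + 1 - k) - 1 = q ^ m) ∧
      (¬ ∀ a ∈ Q₀, ∀ b ∈ Q₀, a * b = b * a) ∧
      (∀ t, (ρ x - 1) ^ t = 0 → p ^ k * (p ^ (n + 1 - k) - 1) ≤ t) ∧
      ((∀ u ∈ Q₀, x ^ p ^ n * u = u * x ^ p ^ n → ∃ c : K, ρ u = c • 1) → k = 0) := by
  classical
  have hp := hpf.out
  have hq := hqf.out
  set y := x ^ p ^ n with hy
  have hyp : y ^ p = 1 := by rw [hy, ← pow_mul, ← pow_succ, hx]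
  set B := zpowers x with hB
  set A := zpowers y with hA
  have hAB : A ≤ B := by
    rw [hA, zpowers_le, hy]
    exact B.pow_mem (mem_zpowers x) _
  have hAn : B ≤ normalizer (A : Set G) := by
    rw [hA, hB, hy]
    exact le_normalizer_zpowers_pow x _
  have hAcard : Nat.card A ∣ p := by
    rw [hA, Nat.card_zpowers]
    exact orderOf_dvd_of_pow_eq_one hyp
  have hAcop : (Nat.card A).Coprime q :=
    Nat.Coprime.coprime_dvd_left hAcard ((Nat.coprime_primes hp hq).mpr hpq)
  have hcomA : ∀ U : Subgroup G, ⁅U, A⁆ = ⊥ ↔ ∀ u ∈ U, y * u = u * y := by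
    intro U
    rw [commutator_eq_bot_iff_le_centralizer]
    constructor
    · intro h u hu
      exact (mem_centralizer_iff.mp (h hu) y (mem_zpowers y))
    · intro h u hu
      rw [mem_centralizer_iff]
      rintro _ ⟨i, rfl⟩
      exact (show Commute y u from h u hu).zpow_left i
  -- minimal Q
  obtain ⟨Q, hQmem, hQmin⟩ := WellFounded.has_min (wellFounded_lt (α := Subgroup G))
    {Q | Q ≤ Q₀ ∧ B ≤ normalizer (Q : Set G) ∧ ⁅Q, A⁆ ≠ ⊥} ⟨Q₀, le_rfl, by rw [hB, zpowers_le]; exact hxQ, by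
      obtain ⟨u, hu, hne⟩ := hne
      intro h
      exact hne ((hcomA Q₀).mp h u hu)⟩
  obtain ⟨hQQ₀, hBQ, hQA⟩ := hQmem
  have hmin : ∀ U : Subgroup G, U < Q → B ≤ normalizer (U : Set G) → ⁅U, A⁆ = ⊥ := by
    intro U hU hBU
    by_contra hcon
    exact hQmin U ⟨hU.le.trans hQQ₀, hBU, hcon⟩ hU
  have hQ : IsPGroup q Q := hQ₀.to_le hQQ₀
  obtain ⟨hQAQ, hcase, hΦ, _⟩ := hall_higman_reduction (p := q) B A Q hQ hBQ hAB hAn hAcop hQA hmin
  -- the action on Q
  have hxQ' : x ∈ normalizer (Q : Set G) := hBQ (mem_zpowers x)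
  set τ : MulAut Q := Q.normalizerMonoidHom ⟨x, hxQ'⟩ with hτ
  have hτc : ∀ u : Q, ((τ u : Q) : G) = x * u * x⁻¹ := fun u => rfl
  have hτpow : ∀ (j : ℕ) (u : Q), (((τ ^ j) u : Q) : G) = x ^ j * u * (x ^ j)⁻¹ := by
    intro j
    induction j with
    | zero => intro u; simp
    | succ j ih =>
      intro u
      rw [pow_succ', MulAut.mul_apply, hτc, ih, pow_succ']
      group
  have hτN : τ ^ p ^ (n + 1) = 1 := by
    ext u
    rw [hτpow, hx]
    simp
  have hτy : ∀ u : Q, (τ ^ p ^ n) u = u ↔ y * u = u * y := by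
    intro u
    rw [Subtype.ext_iff, hτpow, ← hy, mul_inv_eq_iff_eq_mul]
  set ρQ : Q →* Module.End K V := ρ.comp Q.subtype with hρQ
  have hρQinj : Function.Injective ρQ := hinj.comp Q.subtype_injective
  have hX : ∀ u : Q, ρ x * ρQ u = ρQ (τ u) * ρ x := by
    intro u
    simp only [hρQ, MonoidHom.comp_apply, Subgroup.coe_subtype]
    rw [← map_mul, ← map_mul, hτc]
    congr 1
    group
  have hXN : ρ x ^ p ^ (n + 1) = 1 := by rw [← map_pow, hx, map_one]
  obtain ⟨e, he⟩ := hQ.exists_card_eq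
  have hcop : (Nat.card Q).Coprime p := by
    rw [he]
    exact Nat.Coprime.pow_left _ ((Nat.coprime_primes hq hp).mpr hpq.symm)
  have hcard : (Nat.card Q : K) ≠ 0 := by
    intro h
    rw [CharP.cast_eq_zero_iff K p] at h
    have := Nat.dvd_gcd h (dvd_refl p)
    rw [hcop] at this
    exact hp.one_lt.ne' (Nat.dvd_one.mp this)
  -- the abelian case
  have habel : (∀ a b : Q, a * b = b * a) → (ρ x - 1) ^ (p ^ (n + 1) - 1) ≠ 0 := by
    intro hab h0
    apply hQA
    rw [hcomA]
    intro u hu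
    have h1 := star hcard (⊤ : Subgroup Q) ρQ (U := ⊤) (fun _ _ _ _ => Submodule.mem_top) (by
      intro a _ b _ w _
      rw [← Module.End.mul_apply, ← Module.End.mul_apply, ← map_mul, ← map_mul, hab]) τ (fun a _ => mem_top _)
      (ρ x) hX hp hτN (by intro w _; rw [h0]; rfl) ⟨u, hu⟩ (mem_top _)
    have h2 : (τ ^ p ^ n) ⟨u, hu⟩ = ⟨u, hu⟩ := by
      apply hρQinj
      exact LinearMap.ext (fun w => h1 w Submodule.mem_top)
    exact (hτy ⟨u, hu⟩).mp h2
  by_cases hab : ∀ a b : Q, a * b = b * a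
  · exact Or.inl (habel hab)
  have hsp : Cfsg.IsSpecial q ↥Q := by
    rcases hcase with h | h
    · exfalso
      apply hab
      intro a b
      exact h.1.is_comm.comm a b
    · exact h
  obtain ⟨_, hfr, hder⟩ := hsp
  have hcomm : ∀ a b : Q, a * b * a⁻¹ * b⁻¹ ∈ center Q := by
    intro a b
    rw [← hder]
    exact commutator_mem_commutator (mem_top a) (mem_top b)
  have hna : center Q ≠ ⊤ := by
    intro h
    apply hab
    intro a b
    have : b ∈ center Q := by rw [h]; exact mem_top b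
    exact mem_center_iff.mp this a
  have hZlt : (center Q).map Q.subtype < Q := by
    refine lt_of_le_of_ne (map_subtype_le _) ?_
    intro h
    apply hna
    rw [eq_top_iff]
    intro u _
    have h1 : (u : G) ∈ (center Q).map Q.subtype := by rw [h]; exact u.2
    obtain ⟨v, hv, hvu⟩ := h1
    have : v = u := Subtype.ext hvu
    rwa [this] at hv
  have hBZ : B ≤ normalizer (((center Q).map Q.subtype : Subgroup G) : Set G) :=
    hBQ.trans (normalizer_le_normalizer_map _)
  have hC : ∀ u, (τ ^ p ^ n) u = u ↔ u ∈ center Q := by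
    intro u
    rw [hτy]
    constructor
    · intro hu
      set U := Q ⊓ centralizer (A : Set G) with hU
      have h1 : (frattini ↥Q).map Q.subtype ≤ U := by
        rw [hfr, hU]
        refine le_inf hZlt.le ?_
        rw [← commutator_eq_bot_iff_le_centralizer]
        exact hmin _ hZlt hBZ
      have h2 : B ≤ normalizer (U : Set G) := by
        apply le_normalizer_of_conj_mem
        intro a ha g hg
        rw [hU, mem_inf] at hg ⊢
        refine ⟨(mem_normalizer_iff.mp (hBQ ha) g).mp hg.1, ?_⟩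
        rw [mem_centralizer_iff]
        intro b hb
        have h3 : a⁻¹ * b * a ∈ A := by
          have := (mem_normalizer_iff.mp (hAn (B.inv_mem ha)) b).mp hb
          rwa [inv_inv] at this
        have h4 := mem_centralizer_iff.mp hg.2 _ h3
        calc b * (a * g * a⁻¹) = a * ((a⁻¹ * b * a) * g) * a⁻¹ := by group
          _ = a * (g * (a⁻¹ * b * a)) * a⁻¹ := by rw [h4]
          _ = _ := by group
      rcases hΦ U h1 inf_le_left h2 with h3 | h3
      · have h4 : (u : G) ∈ U := by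
          rw [hU, mem_inf]
          refine ⟨u.2, ?_⟩
          rw [mem_centralizer_iff]
          rintro _ ⟨i, rfl⟩
          exact (show Commute y u from hu).zpow_left i
        rw [h3, hfr] at h4
        obtain ⟨v, hv, hvu⟩ := h4
        have : v = u := Subtype.ext hvu
        rwa [this] at hv
      · exfalso
        apply hQA
        rw [commutator_eq_bot_iff_le_centralizer]
        intro g hg
        rw [← h3] at hg
        exact hg.2
    · intro hu
      exact (hcomA _).mp (hmin _ hZlt hBZ) u (mem_map_of_mem Q.subtype hu)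
  rcases hh_special hcop ρQ hρQinj τ hτN (ρ x) hX hXN hcomm hC hna with h | ⟨k, hk, ⟨Y, hY⟩, h1, hbd, hk0⟩
  · exact Or.inl h
  · right
    refine ⟨k, hk, ?_, ?_, hbd, ?_⟩
    · have h2 : Y.index ∣ q ^ e := by rw [← he]; exact Y.index_dvd_card
      rw [hY] at h2
      have h3 : (p ^ (n + 1 - k) - 1) ∣ q ^ e := (dvd_pow_self _ two_ne_zero).trans h2
      obtain ⟨m, _, hm⟩ := (Nat.dvd_prime_pow hq).mp h3
      refine ⟨m, ?_, hm⟩
      by_contra hcon
      have : m = 0 := by omega
      rw [this, pow_zero] at hm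
      omega
    · intro hcom
      apply hab
      intro a b
      exact Subtype.ext (hcom a (hQQ₀ a.2) b (hQQ₀ b.2))
    · intro hsc
      apply hk0
      intro z hz
      exact hsc z (hQQ₀ z.2) ((hτy z).mp ((hC z).mpr hz))

end Cfsg.Agent.H23
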