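import Mathlib
import Cfsg.Agent.H23.HHMain
import Cfsg.Agent.H23.PSolvable

/-!
Hall-Higman Theorem B over an algebraically closed field.
-/

set_option linter.style.haveILetI false
set_option linter.unusedSectionVars false

namespace Cfsg.Agent.H23

open Module Subgroup

/-- In a `p`-soluble group with `O_p(G) = 1`, `C_G(O_{p'}(G)) ≤ O_{p'}(G)`. -/
theorem centralizer_pPrimeCore_le {p : ℕ} [hp : Fact p.Prime] {G : Type*} [Group G] [Finite G]
    (h : Cfsg.IsPSolvable p G) (hO : Cfsg.pCore p G = ⊥) :
    centralizer (Cfsg.pPrimeCore p G : Set G) ≤ Cfsg.pPrimeCore p G := by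
  by_contra hne
  set R := Cfsg.pPrimeCore p G with hR
  set C := centralizer (R : Set G) with hC
  have hlt : C ⊓ R < C := lt_of_le_of_ne inf_le_left fun hEq => hne (by rw [← hEq]; exact inf_le_right)
  obtain ⟨K, hK, hZK, hKC, hf⟩ := exists_normal_factor h (C ⊓ R) C hlt
  have hRc : (Nat.card R).Coprime p := H1.pPrimeCore_coprime p G
  have hZc : (Nat.card (C ⊓ R : Subgroup G)).Coprime p :=
    Nat.Coprime.coprime_dvd_left (card_dvd_of_le inf_le_right) hRc
  have hcardK := H1.card_mul_relIndex_aux hZK.le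
  rcases hf with ⟨m, hm⟩ | hf
  · set P : Sylow p K := default with hP
    set Z := (C ⊓ R).subgroupOf K with hZ
    have hcent : ∀ z ∈ Z, ∀ w : K, z * w = w * z := by
      intro z hz w
      apply Subtype.ext
      have hz' := mem_subgroupOf.mp hz
      exact mem_centralizer_iff.mp (hKC w.2) z (mem_inf.mp hz').2
    have hZn : Z ≤ normalizer ((P : Subgroup K) : Set K) := by
      intro z hz
      rw [mem_normalizer_iff]
      intro g
      rw [hcent z hz g, mul_inv_cancel_right]
    have h1 : (normalizer ((P : Subgroup K) : Set K)).index ∣ p ^ m := by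
      rw [← hm]
      exact index_dvd_of_le hZn
    have h2 : ¬ p ∣ (normalizer ((P : Subgroup K) : Set K)).index := by
      intro h3
      exact P.not_dvd_index (h3.trans (index_dvd_of_le le_normalizer))
    have h3 : (normalizer ((P : Subgroup K) : Set K)).index = 1 := by
      obtain ⟨j, _, hj⟩ := (Nat.dvd_prime_pow hp.out).mp h1
      rw [hj] at h2 ⊢
      cases j with
      | zero => simp
      | succ j => exact absurd (dvd_pow_self p (Nat.succ_ne_zero j)) h2
    have h4 : normalizer ((P : Subgroup K) : Set K) = ⊤ := index_eq_one.mp h3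
    haveI h5 : (P : Subgroup K).Normal := normalizer_eq_top_iff.mp h4
    haveI h6 : (P : Subgroup K).Characteristic := Sylow.characteristic_of_normal P h5
    haveI : ((P : Subgroup K).map K.subtype).Normal := ConjAct.normal_of_characteristic_of_normal
    have h7 : (P : Subgroup K).map K.subtype ≤ Cfsg.pCore p G := by
      apply H1.le_pCore inferInstance
      exact P.isPGroup'.map _
    rw [hO, le_bot_iff, Subgroup.map_eq_bot_iff, ker_subtype, le_bot_iff] at h7
    have h8 : ¬ p ∣ Nat.card K := by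
      have := P.not_dvd_index
      rw [h7, index_bot] at this
      exact this
    have hm0 : m = 0 := by
      by_contra hm0
      apply h8
      rw [← hcardK, hm]
      exact (dvd_pow_self p hm0).trans (dvd_mul_left _ _)
    rw [hm0, pow_zero] at hm
    exact absurd (relIndex_eq_one.mp hm) (not_le_of_gt hZK)
  · have h1 : (Nat.card K).Coprime p := by
      rw [← hcardK]
      exact Nat.Coprime.mul_left hZc (Nat.Coprime.symm hf.symm)
    have h2 : K ≤ R := H1.le_pPrimeCore hK h1
    exact absurd (le_inf hKC h2) (not_le_of_gt hZK)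

theorem hh_theoremB_closed {K : Type*} [Field K] {G : Type*} [Group G] {V : Type*} [AddCommGroup V] [Module K V]
    [FiniteDimensional K V] [IsAlgClosed K] [Finite G] {p n : ℕ} [hpf : Fact p.Prime] [CharP K p]
    (ρ : G →* Module.End K V) (hinj : Function.Injective ρ) (h : Cfsg.IsPSolvable p G) (hO : Cfsg.pCore p G = ⊥)
    {x : G} (hx : orderOf x = p ^ (n + 1)) :
    (ρ x - 1) ^ (p ^ (n + 1) - 1) ≠ 0 ∨ ∃ k ≤ n, ∃ q : ℕ, q.Prime ∧ (∃ m, 1 ≤ m ∧ p ^ (n + 1 - k) - 1 = q ^ m) ∧
      (∀ Q : Sylow q G, ¬ IsMulCommutative Q) ∧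
      (∀ t, (ρ x - 1) ^ t = 0 → p ^ k * (p ^ (n + 1 - k) - 1) ≤ t) := by
  classical
  have hp := hpf.out
  have hxN : x ^ p ^ (n + 1) = 1 := by rw [← hx, pow_orderOf_eq_one]
  set y := x ^ p ^ n with hy
  have hy1 : y ≠ 1 := by
    intro h1
    have h2 := orderOf_dvd_of_pow_eq_one h1
    rw [hx] at h2
    have h3 := (Nat.pow_dvd_pow_iff_le_right hp.one_lt).mp h2
    omega
  have hyp : y ^ p = 1 := by rw [hy, ← pow_mul, ← pow_succ, hxN]
  set R := Cfsg.pPrimeCore p G with hR
  have hRc : (Nat.card R).Coprime p := H1.pPrimeCore_coprime p G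
  set A := zpowers x with hA
  have hAcard : Nat.card A = p ^ (n + 1) := by rw [hA, Nat.card_zpowers, hx]
  have hAR : A ≤ normalizer (R : Set G) := by rw [normalizer_eq_top]; exact le_top
  have hcop : (Nat.card A).Coprime (Nat.card R) := by rw [hAcard]; exact (hRc.pow_right _).symm
  have hAsol : Group.IsSolvable A := isSolvable_of_isPGroup (p := p) (IsPGroup.of_card hAcard)
  -- some q
  obtain ⟨q, hqf, P, hP, hAP, hPy⟩ : ∃ (q : ℕ) (_ : Fact q.Prime) (P : Subgroup G), IsSylowOf q P R ∧
      A ≤ normalizer (P : Set G) ∧ ∃ u ∈ P, y * u ≠ u * y := by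
    by_contra hcon
    push Not at hcon
    have h1 : R ≤ centralizer ({y} : Set G) := by
      rw [← relIndex_eq_one]
      by_contra hne
      obtain ⟨q, hq, hqd⟩ := Nat.exists_prime_and_dvd hne
      haveI : Fact q.Prime := ⟨hq⟩
      obtain ⟨P, hP, hAP⟩ := exists_invariant_sylow hAR hcop (Or.inl hAsol) q
      have h2 := hcon q inferInstance P hP hAP
      have h3 : P ≤ centralizer ({y} : Set G) := by
        intro u hu
        rw [mem_centralizer_singleton_iff]
        exact (h2 u hu).symm
      exact hP.not_dvd (hqd.trans (relIndex_dvd_of_le_left R h3))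
    have h2 : y ∈ R := by
      apply centralizer_pPrimeCore_le h hO
      rw [mem_centralizer_iff]
      intro r hr
      exact mem_centralizer_singleton_iff.mp (h1 hr)
    have h3 : orderOf y = p := orderOf_eq_prime hyp hy1
    have h4 : p ∣ Nat.card R := by
      rw [← h3]
      exact Subgroup.orderOf_dvd_natCard R h2
    have h5 := Nat.dvd_gcd h4 (dvd_refl p)
    rw [hRc] at h5
    exact hp.one_lt.ne' (Nat.dvd_one.mp h5)
  have hq := hqf.out
  have hpq : p ≠ q := by
    rintro rfl
    obtain ⟨u, hu, hne⟩ := hPy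
    apply hne
    have h1 : IsPGroup p P := hP.isPGroup
    have h2 : (Nat.card P).Coprime p := Nat.Coprime.coprime_dvd_left (card_dvd_of_le hP.le) hRc
    obtain ⟨e, he⟩ := h1.exists_card_eq
    have h3 : Nat.card P = 1 := by
      rw [he] at h2 ⊢
      rcases Nat.eq_zero_or_pos e with h | h
      · rw [h, pow_zero]
      · have h4 := Nat.Coprime.coprime_dvd_left (dvd_pow_self p h.ne') h2
        exact absurd ((Nat.coprime_self p).mp h4) hp.one_lt.ne'
    rw [card_eq_one] at h3
    rw [h3, mem_bot] at hu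
    rw [hu, one_mul, mul_one]
  rcases hh_qgroup hpq ρ hinj hxN P hP.isPGroup (hAP (mem_zpowers x)) hPy with h1 | ⟨k, hk, hm, hna, hbd, _⟩
  · exact Or.inl h1
  · right
    refine ⟨k, hk, q, hq, hm, ?_, hbd⟩
    intro Q hQ
    apply hna
    obtain ⟨S, hS⟩ := hP.isPGroup.exists_le_sylow
    obtain ⟨g, hg⟩ := MulAction.exists_smul_eq G Q S
    intro a ha b hb
    have ha' : a ∈ (S : Subgroup G) := hS ha
    have hb' : b ∈ (S : Subgroup G) := hS hb
    rw [← hg, Sylow.coe_subgroup_smul, mem_pointwise_smul_iff_inv_smul_mem] at ha' hb'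
    have h2 := hQ.is_comm.comm ⟨_, ha'⟩ ⟨_, hb'⟩
    have h3 := congrArg (fun z : Q => (z : G)) h2
    simp only [MulMemClass.mk_mul_mk] at h3
    rw [← smul_mul', ← smul_mul'] at h3
    exact smul_left_cancel _ h3

end Cfsg.Agent.H23
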