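import Mathlib
import Cfsg.Agent.H23.HHThmB

/-!
Hall-Higman Theorem B over an arbitrary field.
-/

set_option linter.style.haveILetI false
set_option linter.unusedSectionVars false

namespace Cfsg.Agent.H23

open Module Subgroup TensorProduct

/-- **Hall-Higman Theorem B** -/
theorem hh_theoremB {F : Type*} [Field F] {G : Type*} [Group G] {V : Type*} [AddCommGroup V] [Module F V]
    [FiniteDimensional F V] [Finite G] {p n : ℕ} [hpf : Fact p.Prime] [CharP F p]
    (ρ : G →* Module.End F V) (hinj : Function.Injective ρ) (h : Cfsg.IsPSolvable p G) (hO : Cfsg.pCore p G = ⊥)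
    {x : G} (hx : orderOf x = p ^ (n + 1)) :
    (ρ x - 1) ^ (p ^ (n + 1) - 1) ≠ 0 ∨ ∃ k ≤ n, ∃ q : ℕ, q.Prime ∧ (∃ m, 1 ≤ m ∧ p ^ (n + 1 - k) - 1 = q ^ m) ∧
      (∀ Q : Sylow q G, ¬ IsMulCommutative Q) ∧
      (∀ t, (ρ x - 1) ^ t = 0 → p ^ k * (p ^ (n + 1 - k) - 1) ≤ t) := by
  set K := AlgebraicClosure F with hK
  set Φ : Module.End F V →ₐ[F] Module.End K (K ⊗[F] V) := Module.End.baseChangeHom F K V with hΦ
  have hΦinj : Function.Injective Φ := LinearMap.baseChangeHom_injective F V K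
  set ρ' : G →* Module.End K (K ⊗[F] V) := (Φ : Module.End F V →* Module.End K (K ⊗[F] V)).comp ρ with hρ'
  have hρ'inj : Function.Injective ρ' := hΦinj.comp hinj
  have hpow : ∀ t, (ρ' x - 1) ^ t = Φ ((ρ x - 1) ^ t) := by
    intro t
    rw [map_pow, map_sub, map_one]
    rfl
  rcases hh_theoremB_closed (K := K) ρ' hρ'inj h hO hx with h1 | ⟨k, hk, q, hq, hm, hna, hbd⟩
  · left
    intro h0
    apply h1
    rw [hpow, h0, map_zero]
  · right
    refine ⟨k, hk, q, hq, hm, hna, ?_⟩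
    intro t ht
    apply hbd
    rw [hpow, ht, map_zero]

end Cfsg.Agent.H23
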