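import Mathlib
import Cfsg.Agent.H2.PLen
import Cfsg.Agent.OOT.PLen1
import Cfsg.Agent.H1.Cores
import Cfsg.Agent.H1.Chief

/-!
Calculus of p-length: quotients, extensions, subdirect products.
-/

set_option linter.style.haveILetI false

namespace Cfsg.Agent.H23

open Subgroup Cfsg

variable {p : ℕ} [hp : Fact p.Prime]

theorem plengthLE_of_chain {G : Type*} [Group G] [Finite G] {k : ℕ} (N : ℕ → Subgroup G)
    (hn : ∀ i, (N i).Normal) (h0 : N 0 = ⊥)
    (hodd : ∀ k, ((N (2 * k)).relIndex (N (2 * k + 1))).Coprime p)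
    (heven : ∀ k, ∃ m : ℕ, (N (2 * k + 1)).relIndex (N (2 * k + 2)) = p ^ m)
    (hk : N (2 * k + 1) = ⊤) : PLengthLE p k G := by
  unfold PLengthLE
  rw [eq_top_iff, ← hk]
  exact H2.le_upperPSeries N hn h0 hodd heven _

theorem relIndex_map_dvd {G G' : Type*} [Group G] [Group G'] (f : G →* G') {A B : Subgroup G}
    [A.Normal] (hAB : A ≤ B) : (A.map f).relIndex (B.map f) ∣ A.relIndex B := by
  rw [relIndex_map_map]
  have h1 : (A ⊔ f.ker).relIndex (B ⊔ f.ker) = (A ⊔ f.ker).relIndex B := by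
    have : B ⊔ f.ker = B ⊔ (A ⊔ f.ker) := by
      rw [← sup_assoc, sup_eq_left.mpr hAB]
    rw [this, relIndex_sup_right]
  rw [h1]
  exact relIndex_dvd_of_le_left _ le_sup_left

theorem isPow_of_dvd {a m : ℕ} (h : a ∣ p ^ m) : ∃ m', a = p ^ m' := by
  obtain ⟨k, -, hk⟩ := (Nat.dvd_prime_pow hp.out).mp h
  exact ⟨k, hk⟩

theorem plengthLE_of_surjective {G G' : Type*} [Group G] [Finite G] [Group G'] {k : ℕ} (f : G →* G')
    (hf : Function.Surjective f) (h : PLengthLE p k G) : PLengthLE p k G' := by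
  haveI : Finite G' := Finite.of_surjective f hf
  refine plengthLE_of_chain (fun i => (upperPSeries p G i).1.map f) ?_ ?_ ?_ ?_ ?_
  · intro i
    exact (upperPSeries p G i).2.map f hf
  · show (⊥ : Subgroup G).map f = ⊥
    exact map_bot f
  · intro k
    exact Nat.Coprime.coprime_dvd_left (relIndex_map_dvd f (H2.upperPSeries_le_succ p G _))
      (H2.upperPSeries_relIndex_odd k)
  · intro k
    obtain ⟨m, hm⟩ := H2.upperPSeries_relIndex_even (p := p) (G := G) k
    have h1 := relIndex_map_dvd f (H2.upperPSeries_le_succ p G (2 * k + 1))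
    rw [hm] at h1
    exact isPow_of_dvd h1
  · unfold PLengthLE at h
    show (upperPSeries p G (2 * k + 1)).1.map f = ⊤
    rw [h, ← MonoidHom.range_eq_map, MonoidHom.range_eq_top.mpr hf]

theorem plengthLE_quotient {G : Type*} [Group G] [Finite G] {k : ℕ} (N : Subgroup G) [N.Normal]
    (h : PLengthLE p k G) : PLengthLE p k (G ⧸ N) :=
  plengthLE_of_surjective (QuotientGroup.mk' N) (QuotientGroup.mk'_surjective N) h

theorem plengthLE_subgroup {G : Type*} [Group G] [Finite G] {k : ℕ} (N : Subgroup G)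
    (h : PLengthLE p k G) : PLengthLE p k N :=
  OOT.plengthLE_of_injective N.subtype N.subtype_injective h

theorem plengthLE_of_equiv {G G' : Type*} [Group G] [Finite G] [Group G'] {k : ℕ} (e : G ≃* G')
    (h : PLengthLE p k G) : PLengthLE p k G' :=
  plengthLE_of_surjective e.toMonoidHom e.surjective h

theorem upperPSeries_characteristic {G : Type*} [Group G] [Finite G] (n : ℕ) :
    (upperPSeries p G n).1.Characteristic := by
  rw [characteristic_iff_map_le]
  intro φ
  refine H2.le_upperPSeries (fun i => (upperPSeries p G i).1.map φ.toMonoidHom) ?_ ?_ ?_ ?_ n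
  · intro i
    exact (upperPSeries p G i).2.map _ φ.surjective
  · show (⊥ : Subgroup G).map _ = ⊥
    exact map_bot _
  · intro k
    exact Nat.Coprime.coprime_dvd_left (relIndex_map_dvd _ (H2.upperPSeries_le_succ p G _))
      (H2.upperPSeries_relIndex_odd k)
  · intro k
    obtain ⟨m, hm⟩ := H2.upperPSeries_relIndex_even (p := p) (G := G) k
    have h1 := relIndex_map_dvd φ.toMonoidHom (H2.upperPSeries_le_succ p G (2 * k + 1))
    rw [hm] at h1
    exact isPow_of_dvd h1

/-- p-length is subadditive in extensions. -/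
theorem plengthLE_extension {G : Type*} [Group G] [Finite G] {a b : ℕ} (N : Subgroup G) [hNn : N.Normal]
    (hN : PLengthLE p a N) (hQ : PLengthLE p b (G ⧸ N)) : PLengthLE p (a + b) G := by
  set U : ℕ → Subgroup G := fun i => (upperPSeries p N i).1.map N.subtype with hU
  set V : ℕ → Subgroup G := fun i => (upperPSeries p (G ⧸ N) i).1.comap (QuotientGroup.mk' N) with hV
  have hUn : ∀ i, (U i).Normal := by
    intro i
    haveI := upperPSeries_characteristic (p := p) (G := N) i
    exact ConjAct.normal_of_characteristic_of_normal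
  have hVn : ∀ i, (V i).Normal := fun i => (upperPSeries p (G ⧸ N) i).2.comap _
  have hUN : ∀ i, U i ≤ N := fun i => map_subtype_le _
  have hNV : ∀ i, N ≤ V i := by
    intro i x hx
    rw [hV, mem_comap]
    have : QuotientGroup.mk' N x = 1 := (QuotientGroup.eq_one_iff x).mpr hx
    rw [this]
    exact one_mem _
  have hV0 : V 0 = N := by
    show (⊥ : Subgroup (G ⧸ N)).comap _ = N
    rw [MonoidHom.comap_bot, QuotientGroup.ker_mk']
  have hU1 : U (2 * a + 1) = N := by
    unfold PLengthLE at hN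
    show (upperPSeries p N (2 * a + 1)).1.map N.subtype = N
    rw [hN, ← MonoidHom.range_eq_map, range_subtype]
  have hUodd : ∀ k, ((U (2 * k)).relIndex (U (2 * k + 1))).Coprime p := by
    intro k
    exact Nat.Coprime.coprime_dvd_left (relIndex_map_dvd _ (H2.upperPSeries_le_succ p N _))
      (H2.upperPSeries_relIndex_odd k)
  have hUeven : ∀ k, ∃ m, (U (2 * k + 1)).relIndex (U (2 * k + 2)) = p ^ m := by
    intro k
    obtain ⟨m, hm⟩ := H2.upperPSeries_relIndex_even (p := p) (G := N) k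
    have h1 := relIndex_map_dvd N.subtype (H2.upperPSeries_le_succ p N (2 * k + 1))
    rw [hm] at h1
    exact isPow_of_dvd h1
  have hVodd : ∀ k, ((V (2 * k)).relIndex (V (2 * k + 1))).Coprime p := by
    intro k
    show ((upperPSeries p (G ⧸ N) (2 * k)).1.comap _).relIndex
      ((upperPSeries p (G ⧸ N) (2 * k + 1)).1.comap _) |>.Coprime p
    rw [H2.relIndex_comap_comap_mk']
    exact H2.upperPSeries_relIndex_odd k
  have hVeven : ∀ k, ∃ m, (V (2 * k + 1)).relIndex (V (2 * k + 2)) = p ^ m := by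
    intro k
    obtain ⟨m, hm⟩ := H2.upperPSeries_relIndex_even (p := p) (G := G ⧸ N) k
    refine ⟨m, ?_⟩
    show ((upperPSeries p (G ⧸ N) (2 * k + 1)).1.comap _).relIndex
      ((upperPSeries p (G ⧸ N) (2 * k + 2)).1.comap _) = p ^ m
    rw [H2.relIndex_comap_comap_mk']
    exact hm
  refine plengthLE_of_chain (fun i => if i ≤ 2 * a then U i else V (i - 2 * a)) ?_ ?_ ?_ ?_ ?_
  · intro i
    show (if i ≤ 2 * a then U i else V (i - 2 * a)).Normal
    split_ifs
    · exact hUn i
    · exact hVn _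
  · show (if 0 ≤ 2 * a then U 0 else V (0 - 2 * a)) = ⊥
    rw [if_pos (Nat.zero_le _)]
    show (⊥ : Subgroup N).map _ = ⊥
    exact map_bot _
  · intro k
    show ((if 2 * k ≤ 2 * a then U (2 * k) else V (2 * k - 2 * a)).relIndex
      (if 2 * k + 1 ≤ 2 * a then U (2 * k + 1) else V (2 * k + 1 - 2 * a))).Coprime p
    rcases lt_trichotomy k a with h | h | h
    · rw [if_pos (by omega), if_pos (by omega)]
      exact hUodd k
    · subst h
      rw [if_pos le_rfl, if_neg (by omega)]
      have h1 : 2 * k + 1 - 2 * k = 2 * 0 + 1 := by omega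
      rw [h1, ← relIndex_mul_relIndex (U (2 * k)) N (V (2 * 0 + 1)) (hUN _) (hNV _)]
      have h2 := hUodd k
      rw [hU1] at h2
      have h3 := hVodd 0
      rw [mul_zero, hV0] at h3
      exact Nat.Coprime.mul_left h2 h3
    · rw [if_neg (by omega), if_neg (by omega)]
      have h1 : 2 * k - 2 * a = 2 * (k - a) := by omega
      have h2 : 2 * k + 1 - 2 * a = 2 * (k - a) + 1 := by omega
      rw [h1, h2]
      exact hVodd _
  · intro k
    show ∃ m, (if 2 * k + 1 ≤ 2 * a then U (2 * k + 1) else V (2 * k + 1 - 2 * a)).relIndex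
      (if 2 * k + 2 ≤ 2 * a then U (2 * k + 2) else V (2 * k + 2 - 2 * a)) = p ^ m
    rcases lt_or_ge k a with h | h
    · rw [if_pos (by omega), if_pos (by omega)]
      exact hUeven k
    · rw [if_neg (by omega), if_neg (by omega)]
      have h1 : 2 * k + 1 - 2 * a = 2 * (k - a) + 1 := by omega
      have h2 : 2 * k + 2 - 2 * a = 2 * (k - a) + 2 := by omega
      rw [h1, h2]
      exact hVeven _
  · show (if 2 * (a + b) + 1 ≤ 2 * a then U (2 * (a + b) + 1) else V (2 * (a + b) + 1 - 2 * a)) = ⊤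
    rw [if_neg (by omega)]
    have h1 : 2 * (a + b) + 1 - 2 * a = 2 * b + 1 := by omega
    rw [h1]
    unfold PLengthLE at hQ
    show (upperPSeries p (G ⧸ N) (2 * b + 1)).1.comap _ = ⊤
    rw [hQ, comap_top]

theorem plengthLE_of_isPGroup {G : Type*} [Group G] [Finite G] (h : IsPGroup p G) : PLengthLE p 1 G := by
  refine plengthLE_of_chain (fun i => if i ≤ 1 then ⊥ else ⊤) ?_ ?_ ?_ ?_ ?_
  · intro i
    show (if i ≤ 1 then (⊥ : Subgroup G) else ⊤).Normal
    split_ifs <;> infer_instance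
  · simp
  · intro k
    rcases Nat.eq_zero_or_pos k with rfl | hk
    · simp
    · have h1 : ¬ 2 * k ≤ 1 := by omega
      have h2 : ¬ 2 * k + 1 ≤ 1 := by omega
      simp only [h1, h2, if_false, relIndex_self]
      exact Nat.coprime_one_left p
  · intro k
    rcases Nat.eq_zero_or_pos k with rfl | hk
    · obtain ⟨m, hm⟩ := IsPGroup.iff_card.mp h
      refine ⟨m, ?_⟩
      simp [hm]
    · have h1 : ¬ 2 * k + 1 ≤ 1 := by omega
      have h2 : ¬ 2 * k + 2 ≤ 1 := by omega
      refine ⟨0, ?_⟩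
      simp only [h1, h2, if_false, relIndex_self, pow_zero]
  · simp

/-- if `O_{p'}(G) = 1` then factoring `O_p(G)` reduces the p-length by one. -/
theorem plengthLE_quotient_pCore {G : Type*} [Group G] [Finite G] {l : ℕ} (h0 : pPrimeCore p G = ⊥)
    (h : PLengthLE p (l + 1) G) : PLengthLE p l (G ⧸ pCore p G) := by
  have hU1 : (upperPSeries p G 1).1 = ⊥ := by
    rw [eq_bot_iff, ← h0]
    apply H1.le_pPrimeCore (upperPSeries p G 1).2
    have h1 := H2.upperPSeries_relIndex_odd (p := p) (G := G) 0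
    have h2 : (upperPSeries p G (2 * 0)).1 = ⊥ := rfl
    rw [h2, relIndex_bot_left] at h1
    exact h1
  have hU2 : (upperPSeries p G 2).1 ≤ pCore p G := by
    apply H18.le_pCore (upperPSeries p G 2).2
    obtain ⟨m, hm⟩ := H2.upperPSeries_relIndex_even (p := p) (G := G) 0
    have h2 : (upperPSeries p G (2 * 0 + 1)).1 = ⊥ := hU1
    rw [h2, relIndex_bot_left] at hm
    exact IsPGroup.of_card hm
  set f := QuotientGroup.mk' (pCore p G) with hf
  refine plengthLE_of_chain (fun i => (upperPSeries p G (i + 2)).1.map f) ?_ ?_ ?_ ?_ ?_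
  · intro i
    exact (upperPSeries p G _).2.map _ (QuotientGroup.mk'_surjective _)
  · show (upperPSeries p G 2).1.map f = ⊥
    rw [Subgroup.map_eq_bot_iff, hf, QuotientGroup.ker_mk']
    exact hU2
  · intro k
    exact Nat.Coprime.coprime_dvd_left (relIndex_map_dvd _ (H2.upperPSeries_le_succ p G _))
      (H2.upperPSeries_relIndex_odd (k + 1))
  · intro k
    obtain ⟨m, hm⟩ := H2.upperPSeries_relIndex_even (p := p) (G := G) (k + 1)
    have h1 := relIndex_map_dvd f (H2.upperPSeries_le_succ p G (2 * (k + 1) + 1))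
    rw [hm] at h1
    exact isPow_of_dvd h1
  · unfold PLengthLE at h
    show (upperPSeries p G (2 * l + 1 + 2)).1.map f = ⊤
    have h1 : 2 * l + 1 + 2 = 2 * (l + 1) + 1 := by ring
    rw [h1, h, ← MonoidHom.range_eq_map, MonoidHom.range_eq_top.mpr (QuotientGroup.mk'_surjective _)]

theorem card_coprime_of_plengthLE_zero {G : Type*} [Group G] [Finite G] (h : PLengthLE p 0 G) :
    (Nat.card G).Coprime p := by
  unfold PLengthLE at h
  have h1 := H2.upperPSeries_relIndex_odd (p := p) (G := G) 0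
  rw [h] at h1
  have h2 : (upperPSeries p G (2 * 0)).1 = ⊥ := rfl
  rw [h2, relIndex_bot_left, Subgroup.card_top] at h1
  exact h1

/-- factoring out `O_{p'}(G)` and then `O_p` reduces the p-length by one. -/
theorem plengthLE_quotient_quotient {G : Type*} [Group G] [Finite G] {l : ℕ}
    (h : PLengthLE p (l + 1) G) :
    PLengthLE p l ((G ⧸ pPrimeCore p G) ⧸ pCore p (G ⧸ pPrimeCore p G)) := by
  apply plengthLE_quotient_pCore
  · exact H1.pPrimeCore_quotient_eq_bot p
  · exact plengthLE_quotient _ h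

theorem relIndex_dvd_of_normal {G : Type*} [Group G] {A K L : Subgroup G} [A.Normal] (h : K ≤ L) :
    A.relIndex K ∣ A.relIndex L := by
  haveI : (A.subgroupOf L).Normal := inferInstance
  have h2 := relIndex_dvd_index_of_normal (A.subgroupOf L) (K.subgroupOf L)
  rwa [relIndex_subgroupOf h] at h2

theorem relIndex_inf_inf_dvd {G : Type*} [Group G] {A₁ A₂ B₁ B₂ : Subgroup G} [A₁.Normal] [B₁.Normal] :
    (A₁ ⊓ B₁).relIndex (A₂ ⊓ B₂) ∣ A₁.relIndex A₂ * B₁.relIndex B₂ := by
  rw [← relIndex_inf_mul_relIndex]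
  exact mul_dvd_mul (relIndex_dvd_of_normal (inf_le_right.trans inf_le_left))
    (relIndex_dvd_of_normal inf_le_right)

/-- subdirect products -/
theorem plengthLE_of_inf_eq_bot {G : Type*} [Group G] [Finite G] {k : ℕ} (M N : Subgroup G) [M.Normal]
    [N.Normal] (hMN : M ⊓ N = ⊥) (hM : PLengthLE p k (G ⧸ M)) (hN : PLengthLE p k (G ⧸ N)) :
    PLengthLE p k G := by
  set U : ℕ → Subgroup G := fun i => (upperPSeries p (G ⧸ M) i).1.comap (QuotientGroup.mk' M) with hU
  set V : ℕ → Subgroup G := fun i => (upperPSeries p (G ⧸ N) i).1.comap (QuotientGroup.mk' N) with hV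
  have hUn : ∀ i, (U i).Normal := fun i => (upperPSeries p (G ⧸ M) i).2.comap _
  have hVn : ∀ i, (V i).Normal := fun i => (upperPSeries p (G ⧸ N) i).2.comap _
  have hUrel : ∀ i j, (U i).relIndex (U j) =
      (upperPSeries p (G ⧸ M) i).1.relIndex (upperPSeries p (G ⧸ M) j).1 :=
    fun i j => H2.relIndex_comap_comap_mk' _ _
  have hVrel : ∀ i j, (V i).relIndex (V j) =
      (upperPSeries p (G ⧸ N) i).1.relIndex (upperPSeries p (G ⧸ N) j).1 :=
    fun i j => H2.relIndex_comap_comap_mk' _ _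
  refine plengthLE_of_chain (fun i => U i ⊓ V i) ?_ ?_ ?_ ?_ ?_
  · intro i
    haveI := hUn i
    haveI := hVn i
    show (U i ⊓ V i).Normal
    infer_instance
  · show (⊥ : Subgroup (G ⧸ M)).comap _ ⊓ (⊥ : Subgroup (G ⧸ N)).comap _ = ⊥
    rw [MonoidHom.comap_bot, MonoidHom.comap_bot, QuotientGroup.ker_mk', QuotientGroup.ker_mk', hMN]
  · intro k
    haveI := hUn (2 * k)
    haveI := hVn (2 * k)
    refine Nat.Coprime.coprime_dvd_left relIndex_inf_inf_dvd ?_
    rw [hUrel, hVrel]
    exact Nat.Coprime.mul_left (H2.upperPSeries_relIndex_odd k) (H2.upperPSeries_relIndex_odd k)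
  · intro k
    haveI := hUn (2 * k + 1)
    haveI := hVn (2 * k + 1)
    obtain ⟨m, hm⟩ := H2.upperPSeries_relIndex_even (p := p) (G := G ⧸ M) k
    obtain ⟨m', hm'⟩ := H2.upperPSeries_relIndex_even (p := p) (G := G ⧸ N) k
    have h1 := relIndex_inf_inf_dvd (A₁ := U (2 * k + 1)) (B₁ := V (2 * k + 1)) (A₂ := U (2 * k + 2))
      (B₂ := V (2 * k + 2))
    rw [hUrel, hVrel, hm, hm', ← pow_add] at h1
    exact isPow_of_dvd h1
  · unfold PLengthLE at hM hN
    show (upperPSeries p (G ⧸ M) (2 * k + 1)).1.comap _ ⊓ (upperPSeries p (G ⧸ N) (2 * k + 1)).1.comap _ = ⊤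
    rw [hM, hN, comap_top, comap_top, inf_top_eq]

end Cfsg.Agent.H23
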