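import Mathlib
import Cfsg.Agent.H23.HHThmB2
import Cfsg.Agent.H23.PLen
import Cfsg.Agent.H23.Coprime2

/-!
Applications of Hall-Higman Theorem B to the exponent of the Sylow p-subgroups.
-/

set_option linter.style.haveILetI false
set_option linter.unusedSectionVars false

namespace Cfsg.Agent.H23

open Module Subgroup

universe u

/-- the representation on a commutative group of exponent `p` -/
theorem exists_rep_aux {W : Type u} [CommGroup W] [Finite W] {p : ℕ} [Fact p.Prime]
    [Module (ZMod p) (Additive W)] :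
    ∃ (M : Type u) (_ : AddCommGroup M) (_ : Module (ZMod p) M) (_ : FiniteDimensional (ZMod p) M)
      (κ : MulAut W →* Module.End (ZMod p) M) (ι : W → M), Function.Bijective ι ∧
      (∀ v w, ι (v * w) = ι v + ι w) ∧ ∀ φ v, κ φ (ι v) = ι (φ v) := by
  haveI : Module.Finite (ZMod p) (Additive W) := Module.Finite.of_finite
  refine ⟨Additive W, inferInstance, inferInstance, inferInstance,
    { toFun := fun φ => (MulEquiv.toAdditive φ).toAddMonoidHom.toZModLinearMap p
      map_one' := ?_
      map_mul' := ?_ }, fun v => Additive.ofMul v, ⟨fun _ _ h => h, fun x => ⟨Additive.toMul x, rfl⟩⟩,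
    fun v w => rfl, fun φ v => rfl⟩
  · ext v; rfl
  · intro a b; ext v; rfl

theorem exists_rep {G : Type u} [Group G] [Finite G] {p : ℕ} [hp : Fact p.Prime] {V : Subgroup G} [hVn : V.Normal]
    (hV : Cfsg.IsElementaryAbelian p V) :
    ∃ (M : Type u) (_ : AddCommGroup M) (_ : Module (ZMod p) M) (_ : FiniteDimensional (ZMod p) M)
      (ρ : G →* Module.End (ZMod p) M) (ι : V → M), Function.Bijective ι ∧ (∀ v w, ι (v * w) = ι v + ι w) ∧
      (∀ (g : G) (v : V), ρ g (ι v) = ι ⟨g * v * g⁻¹, hVn.conj_mem v v.2 g⟩) ∧ ρ.ker = centralizer (V : Set G) := by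
  letI cg : CommGroup V := { (inferInstance : Group V) with mul_comm := hV.1.is_comm.comm }
  letI md : Module (ZMod p) (Additive V) := AddCommGroup.zmodModule (n := p) (by
    intro x
    change Additive.ofMul ((Additive.toMul x) ^ p) = 0
    have : (Additive.toMul x) ^ p = 1 := Subtype.ext (hV.2 _ (Additive.toMul x).2)
    rw [this]; rfl)
  obtain ⟨M, i1, i2, i3, κ, ι, hι, hιm, hκ⟩ := exists_rep_aux (W := V) (p := p)
  refine ⟨M, i1, i2, i3, κ.comp (MulAut.conjNormal (H := V)), ι, hι, hιm, ?_, ?_⟩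
  · intro g v
    rw [MonoidHom.comp_apply, hκ]
    congr 1
  · ext g
    rw [MonoidHom.mem_ker, MonoidHom.comp_apply, mem_centralizer_iff]
    constructor
    · intro h v hv
      have h1 := hκ (MulAut.conjNormal g) ⟨v, hv⟩
      rw [h, Module.End.one_apply] at h1
      have h2 := congrArg (fun z : V => (z : G)) (hι.1 h1)
      simp only [MulAut.conjNormal_apply] at h2
      exact eq_mul_inv_iff_mul_eq.mp h2
    · intro h
      apply LinearMap.ext
      intro x
      obtain ⟨v, rfl⟩ := hι.2 x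
      have h1 := hκ (MulAut.conjNormal g) v
      have h2 : MulAut.conjNormal (H := V) g v = v := by
        apply Subtype.ext
        rw [MulAut.conjNormal_apply, mul_inv_eq_iff_eq_mul]
        exact (h _ v.2).symm
      rw [h2] at h1
      exact h1

theorem sub_one_pow_eq_sum {R : Type*} [Ring R] {p : ℕ} [hp : Fact p.Prime] [Algebra (ZMod p) R] (a : R) (m : ℕ) :
    (a - 1) ^ (p ^ m - 1) = ∑ i ∈ Finset.range (p ^ m), a ^ i := by
  have h1 : (Polynomial.X - 1 : Polynomial (ZMod p)) ^ (p ^ m - 1) =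
      ∑ i ∈ Finset.range (p ^ m), (Polynomial.X : Polynomial (ZMod p)) ^ i := by
    have hne : (Polynomial.X - 1 : Polynomial (ZMod p)) ≠ 0 := (Polynomial.monic_X_sub_C (1 : ZMod p)).ne_zero
    apply mul_right_cancel₀ hne
    rw [← pow_succ, Nat.sub_add_cancel (Nat.one_le_pow _ _ hp.out.pos), geom_sum_mul, sub_pow_char_pow, one_pow]
  have h2 := congrArg (Polynomial.aeval a) h1
  simpa using h2

/-- the hypothesis excluding the exceptional case -/
def NoExc (p : ℕ) (G : Type*) [Group G] : Prop :=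
  ∀ k m q : ℕ, 1 ≤ k → 1 ≤ m → q.Prime → p ^ k - 1 = q ^ m → ∃ Q : Sylow q G, IsMulCommutative (Q : Subgroup G)

theorem NoExc.of_surjective {p : ℕ} {G G' : Type*} [Group G] [Group G'] [Finite G] (f : G →* G')
    (hf : Function.Surjective f) (h : NoExc p G) : NoExc p G' := by
  intro k m q hk hm hq he
  obtain ⟨Q, hQ⟩ := h k m q hk hm hq he
  haveI : Fact q.Prime := ⟨hq⟩
  refine ⟨Q.mapSurjective hf, ?_⟩
  rw [Sylow.coe_mapSurjective]
  constructor
  constructor
  rintro ⟨_, a, ha, rfl⟩ ⟨_, b, hb, rfl⟩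
  apply Subtype.ext
  have := congrArg (fun z : (Q : Subgroup G) => f (z : G)) (hQ.is_comm.comm ⟨a, ha⟩ ⟨b, hb⟩)
  simpa using this

/-- Theorem B in group form: the norm is nontrivial. -/
theorem exists_pow_ne {G : Type u} [Group G] [Finite G] {p : ℕ} [hp : Fact p.Prime] {V : Subgroup G} [hVn : V.Normal]
    (hV : Cfsg.IsElementaryAbelian p V) (hG : Cfsg.IsPSolvable p G) (hne : NoExc p G)
    (hO : Cfsg.pCore p (G ⧸ centralizer (V : Set G)) = ⊥) {x : G} {m : ℕ}
    (hx : orderOf (x : G ⧸ centralizer (V : Set G)) = p ^ (m + 1)) :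
    ∃ v ∈ V, (v * x) ^ p ^ (m + 1) ≠ x ^ p ^ (m + 1) := by
  obtain ⟨M, i1, i2, i3, ρ, ι, hι, hιm, hρ, hker⟩ := exists_rep hV
  set C := centralizer (V : Set G) with hC
  have hCk : C ≤ ρ.ker := hker.ge
  set ρ' : G ⧸ C →* Module.End (ZMod p) M := QuotientGroup.lift C ρ hCk with hρ'
  have hρ'inj : Function.Injective ρ' := by
    rw [injective_iff_map_eq_one]
    intro a ha
    obtain ⟨a, rfl⟩ := QuotientGroup.mk_surjective a
    rw [QuotientGroup.eq_one_iff, ← hker]
    exact ha
  have hB := hh_theoremB ρ' hρ'inj (isPSolvable_quotient C hG) hO hx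
  rcases hB with h1 | ⟨k, hk, q, hq, ⟨e, he1, he⟩, hna, _⟩
  · rw [sub_one_pow_eq_sum] at h1
    obtain ⟨w, hw⟩ : ∃ w, (∑ i ∈ Finset.range (p ^ (m + 1)), (ρ' x) ^ i) w ≠ 0 := by
      by_contra hcon
      push Not at hcon
      exact h1 (LinearMap.ext hcon)
    obtain ⟨v, rfl⟩ := hι.2 w
    refine ⟨v, v.2, ?_⟩
    have h2 : ∀ k : ℕ, ∃ u : V, (u : G) = ((v : G) * x) ^ k * (x ^ k)⁻¹ ∧
        ι u = (∑ i ∈ Finset.range k, (ρ' x) ^ i) (ι v) := by
      intro k
      induction k with
      | zero =>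
        refine ⟨1, by simp, ?_⟩
        have : ι 1 = 0 := by
          have := hιm 1 1
          rw [mul_one] at this
          exact left_eq_add.mp this
        rw [this]; simp
      | succ k ih =>
        obtain ⟨u, hu, huι⟩ := ih
        refine ⟨v * ⟨x * u * x⁻¹, hVn.conj_mem u u.2 x⟩, ?_, ?_⟩
        · change (v : G) * (x * u * x⁻¹) = _
          rw [hu, pow_succ', pow_succ']
          group
        · rw [hιm, ← hρ, huι, Finset.sum_range_succ', LinearMap.add_apply, pow_zero, Module.End.one_apply, add_comm]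
          congr 1
          rw [LinearMap.sum_apply, LinearMap.sum_apply, map_sum]
          apply Finset.sum_congr rfl
          intro i _
          rw [pow_succ', Module.End.mul_apply]
          rfl
    intro heq
    obtain ⟨u, hu, huι⟩ := h2 (p ^ (m + 1))
    apply hw
    rw [← huι]
    have h3 : u = 1 := by
      apply Subtype.ext
      rw [hu, heq, mul_inv_cancel]
      rfl
    rw [h3]
    have := hιm 1 1
    rw [mul_one] at this
    exact left_eq_add.mp this
  · exfalso
    obtain ⟨Q, hQ⟩ := (hne.of_surjective (QuotientGroup.mk' C) (QuotientGroup.mk'_surjective C)) (m + 1 - k) e q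
      (by omega) he1 hq he
    exact hna Q hQ

end Cfsg.Agent.H23
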