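import Mathlib
import Cfsg.Agent.H23.HHApp
import Cfsg.Agent.H18.PCore

/-!
Applications of Hall-Higman Theorem B, continued: p-length and exponent.
-/

set_option linter.style.haveILetI false
set_option linter.unusedSectionVars false

namespace Cfsg.Agent.H23

open Module Subgroup
open scoped commutatorElement

universe u

theorem isPGroup_of_coprime_eq_one {G : Type*} [Group G] [Finite G] {p : ℕ} [hp : Fact p.Prime] {H : Subgroup G}
    (h : ∀ g ∈ H, (orderOf g).Coprime p → g = 1) : IsPGroup p H := by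
  rintro ⟨g, hg⟩
  obtain ⟨e, n', hn', hgo⟩ := Nat.exists_eq_pow_mul_and_not_dvd (orderOf_pos g).ne' p hp.out.ne_one
  refine ⟨e, ?_⟩
  apply Subtype.ext
  rw [SubmonoidClass.mk_pow]
  apply h _ (H.pow_mem hg _)
  have h1 : orderOf (g ^ p ^ e) ∣ n' :=
    orderOf_dvd_of_pow_eq_one (by rw [← pow_mul, ← hgo, pow_orderOf_eq_one])
  exact Nat.Coprime.coprime_dvd_left h1 ((Nat.Prime.coprime_iff_not_dvd hp.out).mpr hn').symm

theorem frat_setup {G : Type u} [Group G] [Finite G] {p : ℕ} [hp : Fact p.Prime] (hG : Cfsg.IsPSolvable p G)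
    (hO : Cfsg.pPrimeCore p G = ⊥) :
    ∃ Φ : Subgroup G, ∃ _ : Φ.Normal, Φ ≤ Cfsg.pCore p G ∧
      Cfsg.IsElementaryAbelian p ((Cfsg.pCore p G).map (QuotientGroup.mk' Φ)) ∧
      centralizer (((Cfsg.pCore p G).map (QuotientGroup.mk' Φ) : Subgroup (G ⧸ Φ)) : Set (G ⧸ Φ)) =
        (Cfsg.pCore p G).map (QuotientGroup.mk' Φ) := by
  set P := Cfsg.pCore p G with hP
  have hPp : IsPGroup p P := H1.pCore_isPGroup p G
  set Φ := (frattini P).map P.subtype with hΦ
  haveI hΦn : Φ.Normal := ConjAct.normal_of_characteristic_of_normal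
  have hΦP : Φ ≤ P := map_subtype_le _
  set f := QuotientGroup.mk' Φ with hf
  have hEA : Cfsg.IsElementaryAbelian p (P.map f) := by
    constructor
    · constructor
      constructor
      rintro ⟨_, a, ha, rfl⟩ ⟨_, b, hb, rfl⟩
      apply Subtype.ext
      change f a * f b = f b * f a
      rw [← map_mul, ← map_mul]
      change ((a * b : G) : G ⧸ Φ) = ((b * a : G) : G ⧸ Φ)
      rw [QuotientGroup.eq]
      have h1 := H2.commutator_le_frattini hPp
        (commutator_mem_commutator (mem_top (⟨b, hb⟩⁻¹ : P)) (mem_top (⟨a, ha⟩⁻¹ : P)))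
      have h2 := mem_map_of_mem P.subtype h1
      have h3 : (a * b)⁻¹ * (b * a) = P.subtype ⁅(⟨b, hb⟩⁻¹ : P), (⟨a, ha⟩⁻¹ : P)⁆ := by
        simp [commutatorElement_def, mul_assoc]
      rw [h3]
      exact h2
    · rintro _ ⟨a, ha, rfl⟩
      rw [← map_pow]
      change ((a ^ p : G) : G ⧸ Φ) = 1
      rw [QuotientGroup.eq_one_iff]
      exact mem_map_of_mem P.subtype (H2.pow_mem_frattini hPp ⟨a, ha⟩)
  refine ⟨Φ, hΦn, hΦP, hEA, ?_⟩
  apply le_antisymm
  · set C := (centralizer ((P.map f : Subgroup (G ⧸ Φ)) : Set (G ⧸ Φ))).comap f with hC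
    haveI : C.Normal := by
      haveI : (P.map f).Normal := (inferInstance : P.Normal).map f (QuotientGroup.mk'_surjective Φ)
      infer_instance
    have hCp : IsPGroup p C := by
      apply isPGroup_of_coprime_eq_one
      intro g hg hgo
      set A := zpowers g with hA
      have hAP : A ≤ normalizer (P : Set G) := by rw [normalizer_eq_top]; exact le_top
      obtain ⟨e, he⟩ := hPp.exists_card_eq
      have hcop : (Nat.card A).Coprime (Nat.card P) := by
        rw [he, hA, Nat.card_zpowers]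
        exact Nat.Coprime.pow_right _ hgo
      have hcomm : ⁅P, A⁆ ≤ Φ := by
        rw [commutator_le]
        intro a ha b hb
        have hbC : b ∈ C := by
          rw [hA] at hb
          exact (zpowers_le.mpr hg) hb
        have h1 := mem_centralizer_iff.mp (mem_comap.mp hbC) (f a) (mem_map_of_mem f ha)
        rw [← QuotientGroup.eq_one_iff]
        change f ⁅a, b⁆ = 1
        rw [map_commutatorElement, commutatorElement_eq_one_iff_mul_comm, h1]
      have h1 := le_centralizer_of_commutator_le_frattini hAP hcop (Or.inr (isSolvable_of_isPGroup hPp)) hcomm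
      have h2 : A ≤ centralizer (P : Set G) := le_centralizer_iff.mp h1
      have h3 := centralizer_pCore_le hG hO (h2 (mem_zpowers g))
      obtain ⟨j, hj⟩ := hPp ⟨g, h3⟩
      have h4 : g ^ p ^ j = 1 := by
        have := congrArg (fun z : P => (z : G)) hj
        simpa using this
      have h5 := orderOf_dvd_of_pow_eq_one h4
      exact orderOf_eq_one_iff.mp (Nat.Coprime.eq_one_of_dvd (hgo.pow_right j) h5)
    have hCP : C ≤ P := H1.le_pCore inferInstance hCp
    intro x hx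
    obtain ⟨g, rfl⟩ := QuotientGroup.mk'_surjective Φ x
    exact mem_map_of_mem f (hCP hx)
  · intro x hx
    rw [mem_centralizer_iff]
    intro y hy
    have := hEA.1.is_comm.comm ⟨y, hy⟩ ⟨x, hx⟩
    exact congrArg (fun z : P.map f => (z : G ⧸ Φ)) this

theorem exists_pow_ne' {G : Type u} [Group G] [Finite G] {p : ℕ} [hp : Fact p.Prime] {V : Subgroup G} [hVn : V.Normal]
    (hV : Cfsg.IsElementaryAbelian p V) (hG : Cfsg.IsPSolvable p G) (hne : NoExc p G)
    (hCV : centralizer (V : Set G) = V)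
    (hO : Cfsg.pCore p (G ⧸ V) = ⊥) {x : G} {m : ℕ} (hx : orderOf (x : G ⧸ V) = p ^ (m + 1)) :
    ∃ v ∈ V, (v * x) ^ p ^ (m + 1) ≠ x ^ p ^ (m + 1) := by
  have key : ∀ (C : Subgroup G) [C.Normal], centralizer (V : Set G) = C → Cfsg.pCore p (G ⧸ C) = ⊥ →
      orderOf (x : G ⧸ C) = p ^ (m + 1) → ∃ v ∈ V, (v * x) ^ p ^ (m + 1) ≠ x ^ p ^ (m + 1) := by
    intro C _ hC h1 h2
    subst hC
    exact exists_pow_ne hV hG hne h1 h2
  exact key V hCV hO hx

theorem pCore_eq_bot_of_equiv {G G' : Type*} [Group G] [Group G'] [Finite G] {p : ℕ} [hp : Fact p.Prime]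
    (e : G ≃* G') (h : Cfsg.pCore p G = ⊥) : Cfsg.pCore p G' = ⊥ := by
  rw [← H18.pCore_eq_of_equiv e, h, Subgroup.map_bot]

/-- Exponent step: an element of order `p^(m+1)` modulo `O_p(G)` lies below a `p`-element of order at least
`p^(m+2)`. -/
theorem exists_lift_pow_ne_one {G : Type u} [Group G] [Finite G] {p : ℕ} [hp : Fact p.Prime]
    (hG : Cfsg.IsPSolvable p G) (hO : Cfsg.pPrimeCore p G = ⊥) (hne : NoExc p G) {x : G} {m : ℕ}
    (hx : orderOf (x : G ⧸ Cfsg.pCore p G) = p ^ (m + 1)) :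
    ∃ z : G, (z : G ⧸ Cfsg.pCore p G) = (x : G ⧸ Cfsg.pCore p G) ∧ z ^ p ^ (m + 1) ≠ 1 := by
  obtain ⟨Φ, hΦn, hΦP, hEA, hcent⟩ := frat_setup hG hO
  set P := Cfsg.pCore p G with hP
  set f := QuotientGroup.mk' Φ with hf
  set V := P.map f with hV
  haveI hVn : V.Normal := (inferInstance : P.Normal).map f (QuotientGroup.mk'_surjective Φ)
  set e := QuotientGroup.quotientQuotientEquivQuotient Φ P hΦP with he
  have hO' : Cfsg.pCore p ((G ⧸ Φ) ⧸ V) = ⊥ :=
    pCore_eq_bot_of_equiv e.symm (H1.pCore_quotient_eq_bot p)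
  have hx' : orderOf (((x : G ⧸ Φ)) : (G ⧸ Φ) ⧸ V) = p ^ (m + 1) := by
    rw [← hx, ← orderOf_injective e.toMonoidHom e.injective]
    rfl
  obtain ⟨v, hv, hne'⟩ := exists_pow_ne' hEA (isPSolvable_quotient Φ hG)
    (hne.of_surjective f (QuotientGroup.mk'_surjective Φ)) hcent hO' hx'
  obtain ⟨w, hw, rfl⟩ := hv
  by_cases h1 : x ^ p ^ (m + 1) = 1
  · refine ⟨w * x, ?_, ?_⟩
    · rw [QuotientGroup.mk_mul, (QuotientGroup.eq_one_iff w).mpr hw, one_mul]
    · intro h2
      apply hne'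
      have h3 := congrArg f h2
      rw [map_pow, map_mul, map_one] at h3
      have h4 := congrArg f h1
      rw [map_pow, map_one] at h4
      change (f w * f x) ^ p ^ (m + 1) = (f x) ^ p ^ (m + 1)
      rw [h3, h4]
  · exact ⟨x, rfl, h1⟩

/-- all `p`-elements have order dividing `p^e` -/
def ExpLE (p e : ℕ) (G : Type*) [Group G] : Prop := ∀ x : G, (∃ k : ℕ, x ^ p ^ k = 1) → x ^ p ^ e = 1

theorem exists_pElement_lift {G G' : Type*} [Group G] [Finite G] [Group G'] {p : ℕ} [hp : Fact p.Prime]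
    (f : G →* G') (hf : Function.Surjective f) {x' : G'} {k : ℕ} (hx' : x' ^ p ^ k = 1) :
    ∃ x : G, f x = x' ∧ ∃ j : ℕ, x ^ p ^ j = 1 := by
  obtain ⟨x, rfl⟩ := hf x'
  obtain ⟨e, n', hn', hgo⟩ := Nat.exists_eq_pow_mul_and_not_dvd (orderOf_pos x).ne' p hp.out.ne_one
  have hcop : Nat.Coprime n' (p ^ (k + 1)) :=
    Nat.Coprime.pow_right _ ((Nat.Prime.coprime_iff_not_dvd hp.out).mpr hn').symm
  have h1 : 1 < p ^ (k + 1) := Nat.one_lt_pow (Nat.succ_ne_zero k) hp.out.one_lt
  obtain ⟨s, _, hs⟩ := Nat.exists_mul_mod_eq_one_of_coprime hcop h1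
  refine ⟨x ^ (n' * s), ?_, e, ?_⟩
  · rw [map_pow]
    have h2 : (f x) ^ p ^ (k + 1) = 1 := by rw [pow_succ, pow_mul, hx', one_pow]
    rw [← Nat.div_add_mod (n' * s) (p ^ (k + 1)), hs, pow_add, pow_mul, h2, one_pow, one_mul, pow_one]
  · rw [← pow_mul, mul_comm, ← mul_assoc, ← hgo, pow_mul, pow_orderOf_eq_one, one_pow]

theorem ExpLE.of_surjective {p e : ℕ} [hp : Fact p.Prime] {G G' : Type*} [Group G] [Group G'] [Finite G]
    (f : G →* G') (hf : Function.Surjective f) (h : ExpLE p e G) : ExpLE p e G' := by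
  rintro x' ⟨k, hk⟩
  obtain ⟨x, rfl, hj⟩ := exists_pElement_lift f hf hk
  rw [← map_pow, h x hj, map_one]

theorem ExpLE.quotient_pCore {p e : ℕ} [hp : Fact p.Prime] {G : Type u} [Group G] [Finite G]
    (hG : Cfsg.IsPSolvable p G) (hO : Cfsg.pPrimeCore p G = ⊥) (hne : NoExc p G) (h : ExpLE p (e + 1) G) :
    ExpLE p e (G ⧸ Cfsg.pCore p G) := by
  rintro x' ⟨k, hk⟩
  obtain ⟨x, rfl, ⟨j, hj⟩⟩ := exists_pElement_lift (QuotientGroup.mk' (Cfsg.pCore p G))
    (QuotientGroup.mk'_surjective _) hk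
  obtain ⟨i, _, hi⟩ := (Nat.dvd_prime_pow hp.out).mp (orderOf_dvd_of_pow_eq_one hk)
  rcases Nat.eq_zero_or_pos i with h0 | hpos
  · rw [h0, pow_zero, orderOf_eq_one_iff] at hi
    rw [hi, one_pow]
  obtain ⟨m, rfl⟩ : ∃ m, i = m + 1 := ⟨i - 1, by omega⟩
  obtain ⟨z, hz, hzne⟩ := exists_lift_pow_ne_one hG hO hne (x := x) hi
  have hPp : IsPGroup p (Cfsg.pCore p G) := H1.pCore_isPGroup p G
  have hzp : ∃ k : ℕ, z ^ p ^ k = 1 := by
    have h1 : z ^ p ^ k ∈ Cfsg.pCore p G := by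
      rw [← QuotientGroup.eq_one_iff, QuotientGroup.mk_pow, hz]
      exact hk
    obtain ⟨l, hl⟩ := hPp ⟨_, h1⟩
    refine ⟨k + l, ?_⟩
    rw [pow_add, pow_mul]
    have := congrArg (fun z : Cfsg.pCore p G => (z : G)) hl
    simpa using this
  have h1 := h z hzp
  have hme : m + 1 ≤ e := by
    by_contra hcon
    apply hzne
    obtain ⟨d, hd⟩ := Nat.exists_eq_add_of_le (show e + 1 ≤ m + 1 by omega)
    rw [hd, pow_add, pow_mul, h1, one_pow]
  obtain ⟨d, hd⟩ := Nat.exists_eq_add_of_le hme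
  rw [hd, pow_add, pow_mul, ← hi, pow_orderOf_eq_one, one_pow]

theorem plengthLE_zero_of_coprime {p : ℕ} [hp : Fact p.Prime] {G : Type*} [Group G] [Finite G]
    (h : (Nat.card G).Coprime p) : Cfsg.PLengthLE p 0 G := by
  refine plengthLE_of_chain (fun i => if i = 0 then ⊥ else ⊤) ?_ ?_ ?_ ?_ ?_
  · intro i
    show (if i = 0 then (⊥ : Subgroup G) else ⊤).Normal
    split_ifs <;> infer_instance
  · simp
  · intro k
    by_cases hk : k = 0
    · subst hk
      simpa [relIndex_bot_left, Subgroup.card_top] using h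
    · simp [hk]
  · intro k
    exact ⟨0, by simp⟩
  · simp

theorem card_coprime_of_expLE_zero {p : ℕ} [hp : Fact p.Prime] {G : Type*} [Group G] [Finite G]
    (h : ExpLE p 0 G) : (Nat.card G).Coprime p := by
  rw [Nat.coprime_comm, Nat.Prime.coprime_iff_not_dvd hp.out]
  intro hd
  obtain ⟨x, hx⟩ := exists_prime_orderOf_dvd_card' p hd
  have h1 := h x ⟨1, by rw [pow_one, ← hx, pow_orderOf_eq_one]⟩
  rw [pow_zero, pow_one] at h1
  rw [h1, orderOf_one] at hx
  exact hp.out.one_lt.ne hx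

theorem plengthLE_of_expLE {p : ℕ} [hp : Fact p.Prime] (e : ℕ) : ∀ (G : Type u) [Group G] [Finite G],
    Cfsg.IsPSolvable p G → NoExc p G → ExpLE p e G → Cfsg.PLengthLE p e G := by
  induction e with
  | zero =>
    intro G _ _ _ _ h
    exact plengthLE_zero_of_coprime (card_coprime_of_expLE_zero h)
  | succ e ih =>
    intro G _ _ hG hne h
    set N := Cfsg.pPrimeCore p G with hN
    have hO : Cfsg.pPrimeCore p (G ⧸ N) = ⊥ := pPrimeCore_quotient_eq_bot p G
    have hG1 := isPSolvable_quotient N hG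
    have hne1 := hne.of_surjective (QuotientGroup.mk' N) (QuotientGroup.mk'_surjective N)
    have h1 := h.of_surjective (QuotientGroup.mk' N) (QuotientGroup.mk'_surjective N)
    set P := Cfsg.pCore p (G ⧸ N) with hP
    have h2 := h1.quotient_pCore hG1 hO hne1
    have h3 := ih ((G ⧸ N) ⧸ P) (isPSolvable_quotient P hG1)
      (hne1.of_surjective (QuotientGroup.mk' P) (QuotientGroup.mk'_surjective P)) h2
    have h4 : Cfsg.PLengthLE p 1 P := plengthLE_of_isPGroup (H1.pCore_isPGroup p (G ⧸ N))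
    have h5 := plengthLE_extension P h4 h3
    have h6 : Cfsg.PLengthLE p 0 N := plengthLE_zero_of_coprime (H1.pPrimeCore_coprime p G)
    have h7 := plengthLE_extension N h6 h5
    have h8 : 0 + (1 + e) = e + 1 := by omega
    rwa [h8] at h7

end Cfsg.Agent.H23
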