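import Mathlib
import Cfsg.Prelude.Def_HallClasses
import Cfsg.Agent.H19.Sylow2

set_option autoImplicit false
set_option linter.all false

/-!
# Hall subgroups of symmetric groups of prime power degree, seat helper23
-/

namespace Cfsg.Agent.H23

open Equiv Equiv.Perm MulAction Subgroup
open scoped Pointwise

/-- A primitive group with a `p`-cycle moving `p` points is `(n-p+1)`-transitive. -/
theorem multiply_transitive_of_cycle {α : Type*} [Fintype α] [DecidableEq α] {G : Subgroup (Perm α)}
    (hG : IsPreprimitive G α) {p : ℕ} (hp : p.Prime) {m : ℕ} (hm : Nat.card α = p + (m + 1))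
    {g : Perm α} (hgc : g.IsCycle) (hgp : g.support.card = p) (hg : g ∈ G) (hm2 : m + 2 < Nat.card α) :
    IsMultiplyPretransitive G α (m + 2) := by
  classical
  have hs : Set.ncard ((g.support)ᶜ : Set α) = m + 1 := by
    apply Nat.add_left_cancel (n := p)
    nth_rewrite 1 [← hgp]
    rw [← Set.ncard_coe_finset, Set.ncard_add_ncard_compl, hm]
  suffices IsMultiplyPreprimitive G α (m + 2) from IsMultiplyPreprimitive.isMultiplyPretransitive ..
  apply hG.isMultiplyPreprimitive hs hm2
  have := isPretransitive_of_isCycle_mem hgc hg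
  apply IsPreprimitive.of_prime_card
  convert! hp
  rw [Nat.card_eq_fintype_card, Fintype.card_subtype, ← hgp]
  apply congr_arg
  ext x
  simp [SubMulAction.mem_ofFixingSubgroup_iff]

theorem factorial_dvd_of_multiply {α : Type*} [Finite α] {G : Subgroup (Perm α)} {k : ℕ}
    (h : IsMultiplyPretransitive G α k) (hk : k ≤ Nat.card α) : k.factorial ∣ Nat.card G := by
  classical
  haveI := Fintype.ofFinite α
  have h1 : Nat.card (Fin k ↪ α) = (Nat.card α).descFactorial k := by
    rw [Nat.card_eq_fintype_card, Fintype.card_embedding_eq, Fintype.card_fin, Nat.card_eq_fintype_card]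
  have h2 : Nat.card (Fin k ↪ α) ∣ Nat.card G := by
    haveI : Nonempty (Fin k ↪ α) := by
      apply Function.Embedding.nonempty_of_card_le
      rw [Fintype.card_fin, ← Nat.card_eq_fintype_card]; exact hk
    obtain ⟨x⟩ := this
    have h3 := @MulAction.index_stabilizer_of_transitive G (Fin k ↪ α) _ (Function.Embedding.instMulAction) x h
    rw [← h3]
    exact Subgroup.index_dvd_card _
  rw [h1] at h2
  exact (Nat.factorial_dvd_descFactorial _ _).trans h2

/-- `p`-elements have conjugates in a subgroup of index prime to `p`. -/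
theorem exists_conj_mem_of_not_dvd {G : Type*} [Group G] [Finite G] {p : ℕ} [hp : Fact p.Prime] {H : Subgroup G}
    (hH : ¬ p ∣ H.index) {x : G} {k : ℕ} (hx : x ^ p ^ k = 1) : ∃ g : G, g * x * g⁻¹ ∈ H := by
  obtain ⟨P, hP⟩ := exists_isSylowOf p H
  have hP' : IsSylowOf p P ⊤ := by
    apply isSylowOf_of_not_dvd le_top hP.isPGroup
    intro hd
    rw [← Subgroup.relIndex_mul_relIndex P H ⊤ hP.le le_top, relIndex_top_right] at hd
    rcases hp.out.dvd_mul.mp hd with h | h
    · exact hP.not_dvd h
    · exact hH h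
  have hxp : IsPGroup p (zpowers x) := by
    have h1 : orderOf x ∣ p ^ k := orderOf_dvd_of_pow_eq_one hx
    obtain ⟨j, _, hj⟩ := (Nat.dvd_prime_pow hp.out).mp h1
    exact IsPGroup.of_card (n := j) (by rw [Nat.card_zpowers, hj])
  obtain ⟨g, _, hg⟩ := H19.IsSylowOf.exists_conj_le hP' le_top hxp
  exact ⟨g, hP.le (hg ⟨x, mem_zpowers x, rfl⟩)⟩

/-- the key example: symmetric group of degree `p ^ a` -/
theorem prime_mem_of_hall {π : Set ℕ} {p q : ℕ} (hp : p.Prime) (hq : q.Prime) (hpq : p ≠ q) (hpπ : p ∈ π)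
    (hqπ : q ∈ π) (hall : ∀ (G : Type) [Group G] [Finite G], Cfsg.IsEPiGroup π G) {r : ℕ} (hr : r.Prime) : r ∈ π := by
  classical
  haveI := Fact.mk hp
  haveI := Fact.mk hq
  -- choose `M = q ^ b` large
  obtain ⟨b, hb⟩ : ∃ b, p + r + 3 < q ^ b := ⟨p + r + 3, Nat.lt_pow_self hq.one_lt⟩
  set M := q ^ b with hM
  haveI : NeZero M := ⟨by omega⟩
  have hcop : Nat.Coprime p M := Nat.Coprime.pow_right b ((Nat.coprime_primes hp hq).mpr hpq)
  set u : (ZMod M)ˣ := ZMod.unitOfCoprime p hcop with hu
  set a := orderOf u with ha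
  have hapos : 0 < a := orderOf_pos u
  have hdvd : ∀ i, M ∣ p ^ i - 1 ↔ a ∣ i := by
    intro i
    rw [ha, orderOf_dvd_iff_pow_eq_one, ← (Nat.modEq_iff_dvd' (Nat.one_le_pow _ _ hp.pos)), ← ZMod.natCast_eq_natCast_iff,
      ← Units.val_inj]
    push_cast
    rw [hu, ZMod.coe_unitOfCoprime]
    exact eq_comm
  obtain ⟨c, hc⟩ := (hdvd a).mpr dvd_rfl
  have hpa : p ^ a = M * c + 1 := by
    have : 1 ≤ p ^ a := Nat.one_le_pow _ _ hp.pos
    omega
  have hc1 : 1 ≤ c := by
    rcases Nat.eq_zero_or_pos c with h | h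
    · rw [h, mul_zero, zero_add] at hpa
      have := Nat.one_lt_pow hapos.ne' hp.one_lt
      omega
    · exact h
  let X : Type := Option (Fin c × ZMod M)
  haveI : Fintype (ZMod M) := ZMod.fintype M
  have hX : Nat.card X = p ^ a := by
    rw [Nat.card_eq_fintype_card, Fintype.card_option, Fintype.card_prod, Fintype.card_fin, ZMod.card, hpa, mul_comm]
  obtain ⟨H, hH1, hH2⟩ := hall (Perm X)
  have hpH : ¬ p ∣ H.index := hH2 p hp hpπ
  have hqH : ¬ q ∣ H.index := hH2 q hq hqπ
  -- transitivity
  haveI : NeZero (p ^ a) := ⟨(pow_pos hp.pos a).ne'⟩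
  obtain ⟨e⟩ : Nonempty (X ≃ ZMod (p ^ a)) := by
    apply Finite.card_eq.mp
    rw [hX, Nat.card_zmod]
  let τ : Perm X := e.trans ((Equiv.addRight (1 : ZMod (p ^ a))).trans e.symm)
  have hτpow : ∀ (k : ℕ) (x : X), (τ ^ k) x = e.symm (e x + k) := by
    intro k
    induction k with
    | zero => intro x; simp
    | succ k ih =>
      intro x
      rw [pow_succ', Perm.mul_apply, ih]
      show e.symm (e (e.symm (e x + k)) + 1) = _
      rw [Equiv.apply_symm_apply]
      push_cast
      rw [add_assoc]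
  have hτ1 : τ ^ p ^ a = 1 := by
    ext x : 1
    rw [hτpow, ZMod.natCast_self, add_zero, Equiv.symm_apply_apply]; rfl
  obtain ⟨g, hg⟩ := exists_conj_mem_of_not_dvd hpH hτ1
  haveI htrans : IsPretransitive H X := by
    constructor
    intro x y
    obtain ⟨k, hk⟩ : ∃ k : ℕ, (τ ^ k) (g⁻¹ x) = g⁻¹ y := by
      refine ⟨(e (g⁻¹ y) - e (g⁻¹ x)).val, ?_⟩
      rw [hτpow, ZMod.natCast_val, ZMod.cast_id', id_eq, add_sub_cancel, Equiv.symm_apply_apply]
    refine ⟨⟨g * τ * g⁻¹, hg⟩ ^ k, ?_⟩
    show ((g * τ * g⁻¹) ^ k) x = y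
    rw [conj_pow, Perm.mul_apply, Perm.mul_apply, hk]
    simp
  -- the `q`-element with one fixed point
  let σ₀ : Perm (Fin c × ZMod M) := (Equiv.refl (Fin c)).prodCongr (Equiv.addRight (1 : ZMod M))
  let σ : Perm X := σ₀.optionCongr
  have hσ₀pow : ∀ (k : ℕ) (x : Fin c × ZMod M), (σ₀ ^ k) x = (x.1, x.2 + k) := by
    intro k
    induction k with
    | zero => intro x; simp
    | succ k ih =>
      intro x
      rw [pow_succ', Perm.mul_apply, ih]
      show (x.1, x.2 + k + 1) = _
      push_cast
      rw [add_assoc]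
  have hσpow : ∀ (k : ℕ) (x : Fin c × ZMod M), (σ ^ k) (some x) = some (x.1, x.2 + k) := by
    intro k
    induction k with
    | zero => intro x; simp
    | succ k ih =>
      intro x
      rw [pow_succ', Perm.mul_apply, ih]
      show some (x.1, x.2 + k + 1) = _
      push_cast
      rw [add_assoc]
  have hσnone : σ none = none := rfl
  have hσnonek : ∀ k : ℕ, (σ ^ k) none = none := by
    intro k
    induction k with
    | zero => rfl
    | succ k ih => rw [pow_succ', Perm.mul_apply, ih, hσnone]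
  have hσ1 : σ ^ q ^ b = 1 := by
    ext x : 1
    rcases x with _ | x
    · rw [hσnonek]; rfl
    · rw [hσpow, ← hM, ZMod.natCast_self, add_zero]; rfl
  obtain ⟨h, hh⟩ := exists_conj_mem_of_not_dvd hqH hσ1
  -- primitivity
  have hprim : IsPreprimitive H X := by
    apply IsPreprimitive.of_isTrivialBlock_base (h none)
    intro B hB hblock
    -- `σ`-invariance of `h⁻¹ B`
    have hinv : ∀ k : ℕ, ∀ x, h x ∈ B → h ((σ ^ k) x) ∈ B := by
      intro k x hx
      have h1 : (⟨h * σ * h⁻¹, hh⟩ : H) ^ k • B = B := by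
        by_contra hne
        have h2 := hblock (g₁ := (⟨h * σ * h⁻¹, hh⟩ : H) ^ k) (g₂ := 1) (by rwa [one_smul])
        rw [one_smul, Set.disjoint_left] at h2
        apply h2 (a := h none) _ hB
        refine ⟨h none, hB, ?_⟩
        show ((h * σ * h⁻¹) ^ k) (h none) = h none
        rw [conj_pow, Perm.mul_apply, Perm.mul_apply, Perm.inv_def, Equiv.symm_apply_apply, hσnonek]
      rw [← h1]
      refine ⟨h x, hx, ?_⟩
      show ((h * σ * h⁻¹) ^ k) (h x) = h ((σ ^ k) x)
      rw [conj_pow, Perm.mul_apply, Perm.mul_apply, Perm.inv_def, Equiv.symm_apply_apply]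
    let D : Set (Fin c) := {i | h (some (i, 0)) ∈ B}
    have hmem : ∀ i j, h (some (i, j)) ∈ B ↔ i ∈ D := by
      intro i j
      constructor
      · intro hj
        have := hinv (-j).val _ hj
        rw [hσpow, ZMod.natCast_val, ZMod.cast_id', id_eq] at this
        show h (some (i, 0)) ∈ B
        simpa using this
      · intro hi
        have := hinv j.val _ hi
        rw [hσpow, ZMod.natCast_val, ZMod.cast_id', id_eq] at this
        simpa using this
    have hBeq : B = insert (h none) ((fun x : Fin c × ZMod M => h (some x)) '' (D ×ˢ (Set.univ : Set (ZMod M)))) := by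
      ext y
      obtain ⟨x, rfl⟩ := h.surjective y
      rcases x with _ | ⟨i, j⟩
      · simp [hB]
      · rw [hmem]
        constructor
        · intro hi; exact Or.inr ⟨(i, j), ⟨hi, trivial⟩, rfl⟩
        · rintro (h' | ⟨⟨i', j'⟩, ⟨hi, _⟩, hx⟩)
          · have := h.injective h'
            simp at this
          · have h5 := Option.some.inj (h.injective hx)
            have h6 : i' = i := congrArg Prod.fst h5
            rw [← h6]; exact hi
    have hncard : B.ncard = D.ncard * M + 1 := by
      rw [hBeq, Set.ncard_insert_of_notMem, Set.ncard_image_of_injective, Set.ncard_prod, Set.ncard_univ, Nat.card_zmod]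
      · intro x y hxy
        exact Option.some.inj (h.injective hxy)
      · rintro ⟨x, _, hx⟩
        have := h.injective hx
        simp at this
    have hdv := hblock.ncard_dvd_card ⟨_, hB⟩
    rw [hX] at hdv
    obtain ⟨i, hia, hi⟩ := (Nat.dvd_prime_pow hp).mp hdv
    have h3 : M ∣ p ^ i - 1 := by
      rw [← hi, hncard, Nat.add_sub_cancel]
      exact Dvd.intro_left _ rfl
    rw [hdvd] at h3
    rcases Nat.eq_zero_or_pos i with h0 | h0
    · left
      rw [h0, pow_zero, Set.ncard_eq_one] at hi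
      obtain ⟨x, rfl⟩ := hi
      exact Set.subsingleton_singleton
    · right
      have h4 : i = a := le_antisymm hia (Nat.le_of_dvd h0 h3)
      rw [Set.eq_univ_iff_ncard, hi, h4, hX]
  -- a `p`-cycle
  have hcardX : Fintype.card X = p ^ a := by rw [← Nat.card_eq_fintype_card, hX]
  have hbig : p + r + 3 < p ^ a := by
    have : M ≤ M * c := Nat.le_mul_of_pos_right M hc1
    omega
  obtain ⟨ρ, hρ⟩ : ∃ ρ : Perm X, ρ.cycleType = {p} := by
    rw [Equiv.Perm.exists_with_cycleType_iff]
    refine ⟨?_, ?_⟩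
    · rw [Multiset.sum_singleton, hcardX]; omega
    · intro x hx
      rw [Multiset.mem_singleton] at hx
      rw [hx]; exact hp.two_le
  have hρo : orderOf ρ = p := by
    rw [← Equiv.Perm.lcm_cycleType, hρ, Multiset.lcm_singleton, normalize_eq]
  obtain ⟨t, ht⟩ := exists_conj_mem_of_not_dvd hpH (x := ρ) (k := 1) (by
    have := pow_orderOf_eq_one ρ
    rwa [hρo, ← pow_one p] at this)
  have hct : (t * ρ * t⁻¹).cycleType = {p} := by rw [Equiv.Perm.cycleType_conj, hρ]
  have hcyc : (t * ρ * t⁻¹).IsCycle := by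
    rw [← Equiv.Perm.card_cycleType_eq_one, hct, Multiset.card_singleton]
  have hsupp : (t * ρ * t⁻¹).support.card = p := by
    rw [← Equiv.Perm.sum_cycleType, hct, Multiset.sum_singleton]
  obtain ⟨m, hm⟩ : ∃ m, Nat.card X = p + (m + 1) := ⟨Nat.card X - p - 1, by rw [hX]; omega⟩
  have hmult := multiply_transitive_of_cycle hprim hp hm hcyc hsupp ht (by
    rw [hm]
    have := hp.two_le
    omega)
  have hfac := factorial_dvd_of_multiply hmult (by
    rw [hm]
    have := hp.two_le
    omega)
  apply hH1 r hr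
  refine dvd_trans ?_ hfac
  apply (hr.dvd_factorial).mpr
  rw [hX] at hm
  omega

end Cfsg.Agent.H23
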