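import Cfsg.Agent.H23.Coprime4
import Mathlib.FieldTheory.Finite.Basic
import Mathlib.Algebra.CharP.Lemmas

set_option autoImplicit false
set_option linter.all false

/-!
# Irreducible action of a group of prime order, seat helper23
-/

namespace Cfsg.Agent.H23

open Subgroup

theorem card_le_of_pow_eq_field {E : Type*} [Field E] [Finite E] {n : ℕ} (h1 : 1 < n)
    (h : ∀ r : E, r ^ n = r) : Nat.card E ≤ n := by
  classical
  haveI := Fintype.ofFinite E
  have hne : (Polynomial.X ^ n - Polynomial.X : Polynomial E) ≠ 0 := FiniteField.X_pow_card_sub_X_ne_zero _ h1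
  have h2 : (Finset.univ : Finset E) ⊆ (Polynomial.X ^ n - Polynomial.X : Polynomial E).roots.toFinset := by
    intro r _
    rw [Multiset.mem_toFinset, Polynomial.mem_roots hne, Polynomial.IsRoot.def, Polynomial.eval_sub, Polynomial.eval_pow,
      Polynomial.eval_X, sub_eq_zero]
    exact h r
  have h3 := Finset.card_le_card h2
  rw [Finset.card_univ, ← Nat.card_eq_fintype_card] at h3
  have h4 := Polynomial.card_roots' (Polynomial.X ^ n - Polynomial.X : Polynomial E)
  rw [FiniteField.X_pow_card_sub_X_natDegree_eq E h1] at h4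
  exact le_trans h3 (le_trans (Multiset.toFinset_card_le _) h4)

theorem card_le_of_pow_eq {E : Type*} [CommRing E] [IsDomain E] [Finite E] {n : ℕ} (h1 : 1 < n)
    (h : ∀ r : E, r ^ n = r) : Nat.card E ≤ n := by
  classical
  haveI := Fintype.ofFinite E
  letI : Field E := Fintype.fieldOfDomain E
  exact card_le_of_pow_eq_field h1 h

theorem pow_card_domain {E : Type*} [CommRing E] [IsDomain E] [Finite E] (r : E) : r ^ Nat.card E = r := by
  classical
  haveI := Fintype.ofFinite E
  letI : Field E := Fintype.fieldOfDomain E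
  have h2 := FiniteField.pow_card r
  rw [← Nat.card_eq_fintype_card] at h2
  exact h2

/-- In a finite domain of characteristic `q`, the elements fixed by a Frobenius power form a subring. -/
theorem frob_fixed {E : Type*} [CommRing E] [IsDomain E] {q : ℕ} [hq : Fact q.Prime] (hq0 : (q : E) = 0) (e : ℕ) :
    ∃ f : E →+* E, ∀ r, f r = r ^ q ^ e := by
  haveI : CharP E q := by
    obtain ⟨c, hc⟩ := CharP.exists E
    have h1 : c ∣ q := (CharP.cast_eq_zero_iff E c q).mp hq0
    rcases (Nat.dvd_prime hq.out).mp h1 with h2 | h2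
    · subst h2
      exact absurd rfl (CharP.char_ne_one E 1)
    · rw [← h2]; exact hc
  haveI : ExpChar E q := ExpChar.prime hq.out
  exact ⟨iterateFrobenius E q e, fun r => iterateFrobenius_def q e r⟩

section irr
variable {V : Type*} [AddCommGroup V] [Finite V] [Nontrivial V]

theorem card_irreducible_prime {p q : ℕ} [hp : Fact p.Prime] [hq : Fact q.Prime] (hpq : q ≠ p)
    (σ : AddMonoid.End V) (hσ : σ ^ p = 1) (hσ1 : σ ≠ 1) (hqV : ∀ v : V, q • v = 0)
    (hirr : ∀ U : AddSubgroup V, (∀ u ∈ U, σ u ∈ U) → U = ⊥ ∨ U = ⊤) :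
    Nat.card V = q ^ orderOf (q : ZMod p) := by
  classical
  set S : Set (AddMonoid.End V) := {σ} with hS
  have hcomm : ∀ x ∈ S, ∀ y ∈ S, x * y = y * x := by
    intro x hx y hy
    rw [show x = σ from hx, show y = σ from hy]
  letI : CommRing (Subring.closure S) := Subring.closureCommRingOfComm hcomm
  haveI : Finite (AddMonoid.End V) := Finite.of_injective (fun f : AddMonoid.End V => (f : V → V))
    DFunLike.coe_injective
  haveI : Finite (Subring.closure S) := Subtype.finite
  have hσS : σ ∈ Subring.closure S := Subring.subset_closure rfl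
  have hcomm' : ∀ (r : Subring.closure S) (v : V),
      (r : AddMonoid.End V) (σ v) = σ ((r : AddMonoid.End V) v) := by
    intro r v
    have h1 : r * ⟨σ, hσS⟩ = ⟨σ, hσS⟩ * r := mul_comm _ _
    have h2 : (r : AddMonoid.End V) * σ = σ * (r : AddMonoid.End V) := congrArg Subtype.val h1
    exact DFunLike.congr_fun h2 v
  haveI : NoZeroDivisors (Subring.closure S) := by
    refine ⟨fun {r s} hrs => ?_⟩
    by_cases hs : s = 0
    · exact Or.inr hs
    left
    have h1 : AddMonoidHom.range (s : AddMonoid.End V) = ⊤ := by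
      refine (hirr _ ?_).resolve_left ?_
      · rintro _ ⟨v, rfl⟩
        exact ⟨σ v, hcomm' s v⟩
      · intro h
        apply hs
        apply Subtype.ext
        ext v
        have : (s : AddMonoid.End V) v ∈ AddMonoidHom.range (s : AddMonoid.End V) := ⟨v, rfl⟩
        rw [h] at this
        exact this
    apply Subtype.ext
    ext v
    have hv : v ∈ AddMonoidHom.range (s : AddMonoid.End V) := by rw [h1]; trivial
    obtain ⟨w, rfl⟩ := hv
    have h2 : (r : AddMonoid.End V) * (s : AddMonoid.End V) = 0 := congrArg Subtype.val hrs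
    exact DFunLike.congr_fun h2 w
  haveI : Nontrivial (Subring.closure S) := by
    refine ⟨⟨0, 1, fun h => ?_⟩⟩
    obtain ⟨v, hv⟩ := exists_ne (0 : V)
    apply hv
    have h1 : (0 : AddMonoid.End V) = 1 := congrArg Subtype.val h
    exact (DFunLike.congr_fun h1 v).symm
  haveI : IsDomain (Subring.closure S) := NoZeroDivisors.to_isDomain _
  haveI := Fintype.ofFinite (Subring.closure S)
  -- the evaluation map
  obtain ⟨v, hv⟩ := exists_ne (0 : V)
  let ev : Subring.closure S → V := fun r => (r : AddMonoid.End V) v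
  have hev : Function.Bijective ev := by
    constructor
    · intro r s hrs
      have h1 : ((r - s : Subring.closure S) : AddMonoid.End V) v = 0 := by
        show (r : AddMonoid.End V) v - (s : AddMonoid.End V) v = 0
        rw [sub_eq_zero]; exact hrs
      have h2 : AddMonoidHom.ker ((r - s : Subring.closure S) : AddMonoid.End V) = ⊤ := by
        refine (hirr _ ?_).resolve_left ?_
        · intro u hu
          have hu' : ((r - s : Subring.closure S) : AddMonoid.End V) u = 0 := hu
          show ((r - s : Subring.closure S) : AddMonoid.End V) (σ u) = 0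
          rw [hcomm', hu', map_zero]
        · intro h
          have : v ∈ AddMonoidHom.ker ((r - s : Subring.closure S) : AddMonoid.End V) := h1
          rw [h] at this
          exact hv this
      rw [← sub_eq_zero]
      apply Subtype.ext
      ext w
      have : w ∈ AddMonoidHom.ker ((r - s : Subring.closure S) : AddMonoid.End V) := by rw [h2]; trivial
      exact this
    · let W : AddSubgroup V :=
        { carrier := Set.range ev
          zero_mem' := ⟨0, rfl⟩
          add_mem' := by rintro _ _ ⟨r, rfl⟩ ⟨s, rfl⟩; exact ⟨r + s, rfl⟩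
          neg_mem' := by rintro _ ⟨r, rfl⟩; exact ⟨-r, rfl⟩ }
      have h2 : W = ⊤ := by
        refine (hirr W ?_).resolve_left ?_
        · rintro _ ⟨r, rfl⟩
          exact ⟨⟨σ, hσS⟩ * r, rfl⟩
        · intro h
          have : v ∈ W := ⟨1, rfl⟩
          rw [h] at this
          exact hv this
      intro w
      have : w ∈ W := by rw [h2]; trivial
      exact this
  have hcard : Nat.card (Subring.closure S) = Nat.card V := Nat.card_eq_of_bijective ev hev
  -- characteristic
  have hq0 : ((q : ℕ) : Subring.closure S) = 0 := by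
    apply Subtype.ext
    ext w
    have : (((q : ℕ) : Subring.closure S) : AddMonoid.End V) = ((q : ℕ) : AddMonoid.End V) := rfl
    rw [this]
    rw [AddMonoid.End.natCast_apply]
    exact hqV w
  set e := orderOf (q : ZMod p) with he
  have hqu : (q : ZMod p) ≠ 0 := by
    intro h
    rw [ZMod.natCast_eq_zero_iff] at h
    rcases (Nat.dvd_prime hq.out).mp h with h1 | h1
    · exact hp.out.one_lt.ne' h1
    · exact hpq h1.symm
  have he0 : 0 < e := by
    rw [he, orderOf_pos_iff, isOfFinOrder_iff_pow_eq_one]
    refine ⟨p - 1, Nat.sub_pos_of_lt hp.out.one_lt, ZMod.pow_card_sub_one_eq_one hqu⟩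
  have hqe : ∀ k : ℕ, q ^ k ≡ 1 [MOD p] ↔ e ∣ k := by
    intro k
    rw [he, orderOf_dvd_iff_pow_eq_one, ← ZMod.natCast_eq_natCast_iff]
    push_cast
    rfl
  have hσpow : ∀ n m : ℕ, n ≡ m [MOD p] → σ ^ n = σ ^ m := by
    intro n m h
    rw [← Nat.mod_add_div n p, ← Nat.mod_add_div m p, pow_add, pow_add, pow_mul, pow_mul, hσ, one_pow, one_pow, h]
  obtain ⟨F, hF⟩ := frob_fixed hq0 e
  have hfix : ∀ r : Subring.closure S, F r = r := by
    have key : ∀ x (hx : x ∈ Subring.closure S), F ⟨x, hx⟩ = ⟨x, hx⟩ := by
      intro x hx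
      induction hx using Subring.closure_induction with
      | mem x hx =>
        have hx' : x = σ := hx
        subst hx'
        rw [hF]
        apply Subtype.ext
        show x ^ (q ^ e) = x
        rw [hσpow _ 1 ((hqe e).mpr dvd_rfl), pow_one]
      | zero => exact map_zero _
      | one => exact map_one _
      | add x y hx hy ihx ihy =>
        have : (⟨x + y, add_mem hx hy⟩ : Subring.closure S) = ⟨x, hx⟩ + ⟨y, hy⟩ := rfl
        rw [this, map_add, ihx, ihy]
      | neg x hx ihx =>
        have : (⟨-x, neg_mem hx⟩ : Subring.closure S) = -⟨x, hx⟩ := rfl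
        rw [this, map_neg, ihx]
      | mul x y hx hy ihx ihy =>
        have : (⟨x * y, mul_mem hx hy⟩ : Subring.closure S) = ⟨x, hx⟩ * ⟨y, hy⟩ := rfl
        rw [this, map_mul, ihx, ihy]
    intro r
    exact key r r.2
  have hle : Nat.card (Subring.closure S) ≤ q ^ e := by
    apply card_le_of_pow_eq (Nat.one_lt_pow he0.ne' hq.out.one_lt)
    intro r
    rw [← hF, hfix]
  -- lower bound
  obtain ⟨d, hd⟩ : ∃ d, Nat.card V = q ^ d := by
    have h1 : IsPGroup q (Multiplicative V) := by
      intro x
      refine ⟨1, ?_⟩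
      rw [pow_one]
      exact hqV x.toAdd
    obtain ⟨d, hd⟩ := IsPGroup.iff_card.mp h1
    exact ⟨d, hd⟩
  have hdvd : e ∣ d := by
    rw [← hqe]
    have h1 : (⟨σ, hσS⟩ : Subring.closure S) ^ (q ^ d) = ⟨σ, hσS⟩ := by
      have h2 := pow_card_domain (⟨σ, hσS⟩ : Subring.closure S)
      rw [hcard, hd] at h2
      exact h2
    have h2 : σ ^ (q ^ d) = σ := congrArg Subtype.val h1
    -- σ has order p
    have h3 : orderOf σ = p := orderOf_eq_prime hσ hσ1
    have h4 : σ ^ (q ^ d) = σ ^ 1 := by rw [pow_one]; exact h2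
    have hu : IsUnit σ := by
      refine IsUnit.of_pow_eq_one hσ hp.out.ne_zero
    obtain ⟨u, hu⟩ := hu
    rw [← hu, ← Units.val_pow_eq_pow_val, ← Units.val_pow_eq_pow_val] at h4
    have h5 := Units.ext h4
    rw [pow_eq_pow_iff_modEq] at h5
    have h6 : orderOf u = p := by rw [← orderOf_units, hu, h3]
    rwa [h6] at h5
  apply le_antisymm
  · rw [← hcard]; exact hle
  · have h0 : d ≠ 0 := by
      rintro rfl
      rw [pow_zero] at hd
      have : 1 < Nat.card V := Finite.one_lt_card
      omega
    rw [hd]
    exact Nat.pow_le_pow_right hq.out.pos (Nat.le_of_dvd (Nat.pos_of_ne_zero h0) hdvd)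

end irr

end Cfsg.Agent.H23
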