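import Mathlib
import Cfsg.Agent.H2.NComp
import Cfsg.Agent.H2.Residual
import Cfsg.Agent.H20.TwoComp
import Cfsg.Agent.H24.Centric
import Cfsg.Agent.H24.Decomp
import Cfsg.Prelude.Def_OddOrderLocal

set_option autoImplicit false
set_option linter.all false

/-! # H23/KPi: the number of conjugacy classes of π-elements (helper23). -/

namespace Cfsg.Agent.H23

open Subgroup

section counting

theorem mul_card_le_of_fibers {α β : Type*} [Finite α] (f : α → β) (hf : Function.Surjective f)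
    (F : Set α) (m : ℕ) (h : ∀ x, x ∉ F → m + 1 ≤ Nat.card {y // f y = f x}) :
    (m + 1) * Nat.card β ≤ Nat.card α + m * Nat.card F := by
  classical
  haveI : Finite β := Finite.of_surjective f hf
  haveI := Fintype.ofFinite α
  haveI := Fintype.ofFinite β
  have e1 : Fintype.card α = ∑ b : β, (Finset.univ.filter (fun a => f a = b)).card := by
    rw [← Finset.card_univ]
    exact Finset.card_eq_sum_card_fiberwise (fun _ _ => Finset.mem_coe.mpr (Finset.mem_univ _))
  have e2 : Nat.card F = ∑ b : β, ((Finset.univ.filter (fun a => a ∈ F)).filter (fun a => f a = b)).card := by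
    have h0 : Nat.card F = (Finset.univ.filter (fun a => a ∈ F)).card := by
      rw [Nat.card_eq_fintype_card]
      exact Fintype.card_subtype (fun a => a ∈ F)
    rw [h0]
    exact Finset.card_eq_sum_card_fiberwise (fun _ _ => Finset.mem_coe.mpr (Finset.mem_univ _))
  rw [Nat.card_eq_fintype_card, Nat.card_eq_fintype_card (α := α), e1, e2, Finset.mul_sum,
    ← Finset.sum_add_distrib, mul_comm, ← Finset.card_univ, ← smul_eq_mul, ← Finset.sum_const]
  apply Finset.sum_le_sum
  intro b _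
  by_cases hb : ∃ x, f x = b ∧ x ∉ F
  · obtain ⟨x, rfl, hx⟩ := hb
    have := h x hx
    rw [Nat.card_eq_fintype_card, Fintype.card_subtype] at this
    omega
  · push Not at hb
    obtain ⟨x, hx⟩ := hf b
    have h1 : (Finset.univ.filter (fun a => f a = b)) =
        ((Finset.univ.filter (fun a => a ∈ F)).filter (fun a => f a = b)) := by
      ext a
      simp only [Finset.mem_filter, Finset.mem_univ, true_and]
      exact ⟨fun h => ⟨hb a h, h⟩, fun h => h.2⟩
    have h2 : 0 < (Finset.univ.filter (fun a => f a = b)).card :=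
      Finset.card_pos.mpr ⟨x, by simp [hx]⟩
    rw [← h1]
    nlinarith

end counting

variable {G : Type*} [Group G]

abbrev PCl (p : ℕ) (G : Type*) [Group G] : Type _ :=
  {c : ConjClasses G // ∀ x ∈ c.carrier, ∃ k : ℕ, orderOf x = p ^ k}

abbrev KPi (π : Finset ℕ) (G : Type*) [Group G] : Type _ :=
  {c : ConjClasses G // ∀ x ∈ c.carrier, ∀ r : ℕ, r.Prime → r ∣ orderOf x → r ∈ π}

theorem mem_carrier_mk {x y : G} : y ∈ (ConjClasses.mk x).carrier ↔ IsConj x y := by
  rw [ConjClasses.mem_carrier_iff_mk_eq, ConjClasses.mk_eq_mk_iff_isConj]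
  exact isConj_comm

theorem orderOf_eq_of_isConj {x y : G} (h : IsConj x y) : orderOf x = orderOf y := by
  obtain ⟨c, rfl⟩ := isConj_iff.mp h
  have := orderOf_injective (MulAut.conj c).toMonoidHom (MulAut.conj c).injective x
  simpa using this.symm

/-- the map from a Sylow `p`-subgroup to the classes of `p`-elements -/
def toPCl [Finite G] {p : ℕ} [Fact p.Prime] (P : Sylow p G) (x : (P : Subgroup G)) : PCl p G :=
  ⟨ConjClasses.mk (x : G), fun y hy => by
    obtain ⟨k, hk⟩ := (IsPGroup.iff_orderOf.mp P.isPGroup') x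
    refine ⟨k, ?_⟩
    rw [← orderOf_eq_of_isConj (mem_carrier_mk.mp hy), Subgroup.orderOf_coe, hk]⟩

theorem toPCl_eq [Finite G] {p : ℕ} [Fact p.Prime] (P : Sylow p G) {x y : (P : Subgroup G)} :
    toPCl P x = toPCl P y ↔ IsConj (x : G) (y : G) := by
  unfold toPCl
  rw [Subtype.mk.injEq, ConjClasses.mk_eq_mk_iff_isConj]

theorem toPCl_surjective [Finite G] {p : ℕ} [Fact p.Prime] (P : Sylow p G) :
    Function.Surjective (toPCl P) := by
  rintro ⟨c, hc⟩
  obtain ⟨x, rfl⟩ := ConjClasses.exists_rep c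
  obtain ⟨k, hk⟩ := hc x (mem_carrier_mk.mpr (IsConj.refl x))
  have h1 : IsPGroup p (Subgroup.zpowers x) := by
    apply IsPGroup.of_card (n := k)
    rw [Nat.card_zpowers, hk]
  obtain ⟨Q, hQ⟩ := h1.exists_le_sylow
  obtain ⟨c, hc⟩ := MulAction.exists_smul_eq G Q P
  have h2 : c * x * c⁻¹ ∈ (P : Subgroup G) := by
    rw [← hc]
    exact Subgroup.smul_mem_pointwise_smul x (MulAut.conj c) (Q : Subgroup G)
      (hQ (Subgroup.mem_zpowers x))
  refine ⟨⟨_, h2⟩, ?_⟩
  apply Subtype.ext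
  change ConjClasses.mk (c * x * c⁻¹) = ConjClasses.mk x
  rw [ConjClasses.mk_eq_mk_iff_isConj]
  exact (isConj_iff.mpr ⟨c, rfl⟩ : IsConj x _).symm

theorem card_PCl_le [Finite G] {p : ℕ} [hp : Fact p.Prime] (P : Sylow p G) :
    Nat.card (PCl p G) ≤ Nat.card (P : Subgroup G) :=
  Nat.card_le_card_of_surjective _ (toPCl_surjective P)

theorem mul_card_PCl_le [Finite G] {p : ℕ} [Fact p.Prime] (P : Sylow p G)
    (F : Subgroup (P : Subgroup G)) (m : ℕ)
    (h : ∀ x : (P : Subgroup G), x ∉ F → m + 1 ≤ Nat.card {y : (P : Subgroup G) // IsConj (y : G) (x : G)}) :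
    (m + 1) * Nat.card (PCl p G) ≤ Nat.card (P : Subgroup G) + m * Nat.card F := by
  refine mul_card_le_of_fibers (toPCl P) (toPCl_surjective P) (F : Set (P : Subgroup G)) m ?_
  intro x hx
  refine (h x hx).trans (le_of_eq ?_)
  apply Nat.card_congr
  exact Equiv.subtypeEquivRight (fun y => (toPCl_eq P).symm)

theorem two_le_card_of {α : Type*} [Finite α] (a b : α) (h : a ≠ b) : 2 ≤ Nat.card α := by
  haveI : Nontrivial α := ⟨a, b, h⟩
  exact Finite.one_lt_card

theorem mul_card_le_of_ne_top [Finite G] {p : ℕ} [hp : Fact p.Prime] (hG : IsPGroup p G) {F : Subgroup G}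
    (hF : F ≠ ⊤) : p * Nat.card F ≤ Nat.card G := by
  obtain ⟨n, hn⟩ := IsPGroup.iff_card.mp hG
  have h1 : F.index ∣ p ^ n := hn ▸ F.index_dvd_card
  obtain ⟨j, -, hj⟩ := (Nat.dvd_prime_pow hp.out).mp h1
  have h2 : j ≠ 0 := by
    rintro rfl
    exact hF (Subgroup.index_eq_one.mp (by simpa using hj))
  have h3 : p ≤ F.index := by
    rw [hj]
    exact Nat.le_self_pow h2 p
  rw [← F.card_mul_index, mul_comm]
  exact Nat.mul_le_mul_left _ h3

/-- the key dichotomy: if the conclusion fails, at least two elements in many classes. -/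
theorem exists_subgroup_of_not [Finite G] {p : ℕ} [Fact p.Prime] (P : Sylow p G)
    (h : ¬ (Cfsg.HasNormalPComplement p G ∧ IsMulCommutative ↥(P : Subgroup G))) :
    ∃ F : Subgroup (P : Subgroup G), F ≠ ⊤ ∧ ∀ x : (P : Subgroup G), x ∉ F →
      2 ≤ Nat.card {y : (P : Subgroup G) // IsConj (y : G) (x : G)} := by
  by_cases hc : IsMulCommutative ↥(P : Subgroup G)
  · have hn : ¬ Cfsg.HasNormalPComplement p G := fun h' => h ⟨h', hc⟩
    have h1 : ¬ (normalizer ((P : Subgroup G) : Set G) ≤ centralizer ((P : Subgroup G) : Set G)) :=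
      fun h' => hn (H20.hasNormalPComplement_of_normalizer_le P h')
    obtain ⟨n, hnN, hnC⟩ := SetLike.not_le_iff_exists.mp h1
    refine ⟨(centralizer {n}).subgroupOf P, ?_, ?_⟩
    · intro htop
      rw [Subgroup.subgroupOf_eq_top] at htop
      apply hnC
      rw [Subgroup.mem_centralizer_iff]
      intro x hx
      exact (Subgroup.mem_centralizer_singleton_iff.mp (htop hx)).symm ▸ rfl
    · intro x hx
      have h2 : n * (x : G) * n⁻¹ ∈ (P : Subgroup G) := (Subgroup.mem_normalizer_iff.mp hnN x).mp x.2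
      refine two_le_card_of ⟨x, IsConj.refl _⟩ ⟨⟨_, h2⟩, (isConj_iff.mpr ⟨n, rfl⟩ : IsConj (x : G) _).symm⟩ ?_
      intro he
      apply hx
      rw [Subgroup.mem_subgroupOf, Subgroup.mem_centralizer_singleton_iff]
      have he' : (x : G) = n * x * n⁻¹ := congrArg (fun z => ((z.1 : (P : Subgroup G)) : G)) he
      calc (x : G) * n = (n * x * n⁻¹) * n := by rw [← he']
        _ = n * x := by group
  · refine ⟨center (P : Subgroup G), ?_, ?_⟩
    · intro htop
      apply hc
      refine ⟨⟨fun a b => ?_⟩⟩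
      have : b ∈ center (P : Subgroup G) := htop ▸ Subgroup.mem_top b
      exact Subgroup.mem_center_iff.mp this a
    · intro x hx
      rw [Subgroup.mem_center_iff] at hx
      push Not at hx
      obtain ⟨g, hg⟩ := hx
      refine two_le_card_of ⟨x, IsConj.refl _⟩ ⟨g * x * g⁻¹, (isConj_iff.mpr ⟨(g : G), rfl⟩ : IsConj (x : G) _).symm⟩ ?_
      intro he
      apply hg
      have he' : x = g * x * g⁻¹ := congrArg (fun z => z.1) he
      calc g * x = (g * x * g⁻¹) * g := by group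
        _ = x * g := by rw [← he']

theorem npc_of_lt [Finite G] {p : ℕ} [hp : Fact p.Prime] (P : Sylow p G)
    (h : (p + 1) * Nat.card ↥(P : Subgroup G) < 2 * p * Nat.card (PCl p G)) :
    Cfsg.HasNormalPComplement p G ∧ IsMulCommutative ↥(P : Subgroup G) := by
  by_contra hcon
  obtain ⟨F, hF, hF2⟩ := exists_subgroup_of_not P hcon
  have h1 := mul_card_PCl_le P F 1 hF2
  have h2 := mul_card_le_of_ne_top P.isPGroup' hF
  have h3 : p * ((1 + 1) * Nat.card (PCl p G)) ≤ p * (Nat.card (P : Subgroup G) + 1 * Nat.card F) :=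
    Nat.mul_le_mul_left _ h1
  nlinarith

theorem toPCl_injective [Finite G] {p : ℕ} [Fact p.Prime] (P : Sylow p G)
    (h : Cfsg.HasNormalPComplement p G) (hc : IsMulCommutative ↥(P : Subgroup G)) :
    Function.Injective (toPCl P) := by
  obtain ⟨N, hN, hNP⟩ := (H2.hasNormalPComplement_iff_sylow P).mp h
  intro x y hxy
  rw [toPCl_eq] at hxy
  obtain ⟨g, hg⟩ := isConj_iff.mp hxy
  have hg1 : g ∈ N ⊔ (P : Subgroup G) := by
    rw [hNP.sup_eq_top]; exact Subgroup.mem_top g
  obtain ⟨n, hn, u, hu, rfl⟩ := Subgroup.mem_sup_of_normal_left.mp hg1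
  have h1 : u * (x : G) * u⁻¹ = x := by
    have := hc.1.1 (⟨u, hu⟩ : (P : Subgroup G)) x
    have h6 : u * (x : G) = x * u := congrArg (fun z : (P : Subgroup G) => (z : G)) this
    rw [h6]; group
  have h2 : (y : G) * (x : G)⁻¹ = n * ((x : G) * n⁻¹ * (x : G)⁻¹) := by
    rw [← hg]
    calc n * u * (x : G) * (n * u)⁻¹ * (x : G)⁻¹ = n * (u * x * u⁻¹) * n⁻¹ * (x : G)⁻¹ := by group
      _ = n * ((x : G) * n⁻¹ * (x : G)⁻¹) := by rw [h1]; group
  have h3 : (y : G) * (x : G)⁻¹ ∈ N := by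
    rw [h2]; exact N.mul_mem hn (hN.conj_mem _ (N.inv_mem hn) _)
  have h4 : (y : G) * (x : G)⁻¹ ∈ (P : Subgroup G) := Subgroup.mul_mem _ y.2 (Subgroup.inv_mem _ x.2)
  have h5 : (y : G) * (x : G)⁻¹ = 1 := by
    have := (Subgroup.disjoint_def.mp hNP.disjoint) h3 h4
    exact this
  apply Subtype.ext
  exact (mul_inv_eq_one.mp h5).symm

theorem le_card_PCl_of_npc [Finite G] {p : ℕ} [Fact p.Prime] (P : Sylow p G)
    (h : Cfsg.HasNormalPComplement p G) (hc : IsMulCommutative ↥(P : Subgroup G)) :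
    Nat.card (P : Subgroup G) ≤ Nat.card (PCl p G) :=
  Nat.card_le_card_of_injective _ (toPCl_injective P h hc)

/-! ### classes of π-elements -/

theorem card_KPi_insert_le [Finite G] {r : ℕ} (hr : r.Prime) (π : Finset ℕ) (B : ℕ)
    (hB : ∀ x : G, Nat.card (KPi π (centralizer {x} : Subgroup G)) ≤ B) :
    Nat.card (KPi (insert r π) G) ≤ Nat.card (PCl r G) * B := by
  classical
  haveI : Fact r.Prime := ⟨hr⟩
  haveI : Finite (ConjClasses G) := Finite.of_surjective _ ConjClasses.mk_surjective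
  haveI hfc : ∀ x : G, Finite (ConjClasses (centralizer {x} : Subgroup G)) :=
    fun x => Finite.of_surjective _ ConjClasses.mk_surjective
  have hrep : ∀ c : PCl r G, ∃ x : G, ConjClasses.mk x = c.1 := fun c => ConjClasses.exists_rep c.1
  choose rep hrep using hrep
  have hout : ∀ x : G, ∀ d : ConjClasses (centralizer {x} : Subgroup G), ∃ z : (centralizer {x} : Subgroup G),
    ConjClasses.mk z = d := fun x d => ConjClasses.exists_rep d
  choose out hout using hout
  let Φ : (Σ c : PCl r G, KPi π (centralizer {rep c} : Subgroup G)) → KPi (insert r π) G :=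
    fun q => ⟨ConjClasses.mk (rep q.1 * (out _ q.2.1 : (centralizer {rep q.1} : Subgroup G))), by
      intro y hy s hs hsy
      rw [← orderOf_eq_of_isConj (mem_carrier_mk.mp hy)] at hsy
      have hcomm : Commute (rep q.1) ((out _ q.2.1 : (centralizer {rep q.1} : Subgroup G)) : G) :=
        (Subgroup.mem_centralizer_singleton_iff.mp (out _ q.2.1).2).symm
      have h1 : s ∣ orderOf (rep q.1) * orderOf ((out _ q.2.1 : (centralizer {rep q.1} : Subgroup G)) : G) :=
        hsy.trans (hcomm.orderOf_mul_dvd_mul_orderOf)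
      rcases hs.dvd_mul.mp h1 with h2 | h2
      · obtain ⟨k, hk⟩ := q.1.2 (rep q.1) (by
          rw [ConjClasses.mem_carrier_iff_mk_eq]; exact hrep q.1)
        rw [hk] at h2
        have := (Nat.prime_dvd_prime_iff_eq hs hr).mp (hs.dvd_of_dvd_pow h2)
        rw [this]; exact Finset.mem_insert_self _ _
      · rw [Subgroup.orderOf_coe] at h2
        exact Finset.mem_insert_of_mem (q.2.2 _ (by
          rw [ConjClasses.mem_carrier_iff_mk_eq]; exact hout _ _) s hs h2)⟩
  have hΦ : Function.Surjective Φ := by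
    rintro ⟨c, hc⟩
    obtain ⟨x, rfl⟩ := ConjClasses.exists_rep c
    obtain ⟨i, j, hij, ⟨k, hk⟩, hj⟩ := H24.exists_pPart_decomp r x
    have hcl : ∀ y ∈ (ConjClasses.mk (x ^ i)).carrier, ∃ k : ℕ, orderOf y = r ^ k := fun y hy =>
      ⟨k, by rw [← orderOf_eq_of_isConj (mem_carrier_mk.mp hy), hk]⟩
    let c : PCl r G := ⟨ConjClasses.mk (x ^ i), hcl⟩
    have h1 : IsConj (x ^ i) (rep c) := by
      rw [← ConjClasses.mk_eq_mk_iff_isConj]; exact (hrep c).symm
    obtain ⟨g, hg⟩ := isConj_iff.mp h1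
    have h2 : g * x ^ j * g⁻¹ ∈ centralizer {rep c} := by
      rw [Subgroup.mem_centralizer_singleton_iff, ← hg]
      calc g * x ^ j * g⁻¹ * (g * x ^ i * g⁻¹) = g * (x ^ j * x ^ i) * g⁻¹ := by group
        _ = g * (x ^ i * x ^ j) * g⁻¹ := by rw [← pow_add, ← pow_add, add_comm]
        _ = g * x ^ i * g⁻¹ * (g * x ^ j * g⁻¹) := by group
    have h3 : ∀ y ∈ (ConjClasses.mk (⟨_, h2⟩ : (centralizer {rep c} : Subgroup G))).carrier,
        ∀ s : ℕ, s.Prime → s ∣ orderOf y → s ∈ π := by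
      intro y hy s hs hsy
      rw [← orderOf_eq_of_isConj (mem_carrier_mk.mp hy), Subgroup.orderOf_mk,
        ← orderOf_eq_of_isConj (isConj_iff.mpr ⟨g, rfl⟩ : IsConj (x ^ j) (g * x ^ j * g⁻¹))] at hsy
      have h4 := hc x (mem_carrier_mk.mpr (IsConj.refl x)) s hs (hsy.trans (orderOf_pow_dvd j))
      rcases Finset.mem_insert.mp h4 with rfl | h5
      · exact absurd (Nat.Coprime.eq_one_of_dvd hj.symm hsy) hs.ne_one
      · exact h5
    refine ⟨⟨c, ⟨ConjClasses.mk ⟨_, h2⟩, h3⟩⟩, ?_⟩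
    apply Subtype.ext
    change ConjClasses.mk (rep c * (out _ (ConjClasses.mk (⟨_, h2⟩ : (centralizer {rep c} : Subgroup G))) : (centralizer {rep c} : Subgroup G))) = ConjClasses.mk x
    obtain ⟨w, hw⟩ := isConj_iff.mp (ConjClasses.mk_eq_mk_iff_isConj.mp
      (hout _ (ConjClasses.mk (⟨_, h2⟩ : (centralizer {rep c} : Subgroup G)))).symm)
    rw [ConjClasses.mk_eq_mk_iff_isConj, ← hw]
    apply IsConj.symm
    rw [isConj_iff]
    refine ⟨w * g, ?_⟩
    have hw2 : (w : G) * rep c = rep c * w := Subgroup.mem_centralizer_singleton_iff.mp w.2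
    push_cast
    calc (w : G) * g * x * (w * g)⁻¹ = w * (g * x ^ i * g⁻¹) * (g * x ^ j * g⁻¹) * (w : G)⁻¹ := by
          conv_lhs => rw [hij]
          group
      _ = (w * rep c) * (g * x ^ j * g⁻¹) * (w : G)⁻¹ := by rw [hg]
      _ = rep c * (w * (g * x ^ j * g⁻¹) * (w : G)⁻¹) := by rw [hw2]; group
  haveI : Finite (Σ c : PCl r G, KPi π (centralizer {rep c} : Subgroup G)) := inferInstance
  refine (Nat.card_le_card_of_surjective Φ hΦ).trans ?_
  haveI := Fintype.ofFinite (PCl r G)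
  rw [Nat.card_sigma, Nat.card_eq_fintype_card, ← smul_eq_mul, ← Finset.card_univ, ← Finset.sum_const]
  exact Finset.sum_le_sum (fun c _ => hB _)

theorem card_KPi_empty_le [Finite G] : Nat.card (KPi ∅ G) ≤ 1 := by
  haveI : Finite (ConjClasses G) := Finite.of_surjective _ ConjClasses.mk_surjective
  have : Subsingleton (KPi ∅ G) := by
    constructor
    rintro ⟨a, ha⟩ ⟨b, hb⟩
    obtain ⟨x, rfl⟩ := ConjClasses.exists_rep a
    obtain ⟨y, rfl⟩ := ConjClasses.exists_rep b
    have key : ∀ z : G, (∀ u ∈ (ConjClasses.mk z).carrier, ∀ r : ℕ, r.Prime → r ∣ orderOf u → r ∈ (∅ : Finset ℕ)) → z = 1 := by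
      intro z hz
      by_contra hne
      have h1 : orderOf z ≠ 1 := fun h => hne (orderOf_eq_one_iff.mp h)
      obtain ⟨s, hs, hsz⟩ := Nat.exists_prime_and_dvd h1
      exact absurd (hz z (mem_carrier_mk.mpr (IsConj.refl z)) s hs hsz) (Finset.notMem_empty s)
    apply Subtype.ext
    change ConjClasses.mk x = ConjClasses.mk y
    rw [key x ha, key y hb]
  exact Finite.card_le_one_iff_subsingleton.mpr this

theorem factorization_le_of_dvd {a b : ℕ} (hb : b ≠ 0) (h : a ∣ b) (r : ℕ) :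
    a.factorization r ≤ b.factorization r :=
  (Nat.factorization_le_iff_dvd (fun h0 => hb (by rw [h0] at h; exact zero_dvd_iff.mp h)) hb).mpr h r

theorem card_PCl_le' [Finite G] {r : ℕ} (hr : r.Prime) :
    Nat.card (PCl r G) ≤ r ^ (Nat.card G).factorization r := by
  haveI : Fact r.Prime := ⟨hr⟩
  obtain ⟨P⟩ := (inferInstance : Nonempty (Sylow r G))
  rw [← P.card_eq_multiplicity]
  exact card_PCl_le P

theorem card_KPi_le (π : Finset ℕ) (hπ : ∀ r ∈ π, r.Prime) :
    ∀ (G : Type*) [Group G] [Finite G], Nat.card (KPi π G) ≤ π.prod (fun r => r ^ (Nat.card G).factorization r) := by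
  classical
  induction π using Finset.induction_on with
  | empty => intro G _ _; simpa using card_KPi_empty_le (G := G)
  | insert r π hr ih =>
    intro G _ _
    have h1 := ih (fun s hs => hπ s (Finset.mem_insert_of_mem hs))
    rw [Finset.prod_insert hr]
    refine (card_KPi_insert_le (hπ r (Finset.mem_insert_self _ _)) π
      (π.prod (fun r => r ^ (Nat.card G).factorization r)) ?_).trans ?_
    · intro x
      refine (h1 _).trans (Finset.prod_le_prod' fun s hs => ?_)
      exact Nat.pow_le_pow_right (hπ s (Finset.mem_insert_of_mem hs)).pos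
        (factorization_le_of_dvd Nat.card_pos.ne' (Subgroup.card_subgroup_dvd_card _) s)
    · exact Nat.mul_le_mul_right _ (card_PCl_le' (hπ r (Finset.mem_insert_self _ _)))

theorem card_KPi_le_mul [Finite G] (π : Finset ℕ) (hπ : ∀ r ∈ π, r.Prime) {r : ℕ} (hr : r ∈ π) :
    Nat.card (KPi π G) ≤ Nat.card (PCl r G) *
      (π.erase r).prod (fun r => r ^ (Nat.card G).factorization r) := by
  classical
  have h0 : ∀ s ∈ π.erase r, s.Prime := fun s hs => hπ s (Finset.mem_of_mem_erase hs)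
  have h1 := card_KPi_insert_le (G := G) (hπ r hr) (π.erase r)
    ((π.erase r).prod (fun r => r ^ (Nat.card G).factorization r)) (by
      intro x
      refine (card_KPi_le _ h0 _).trans (Finset.prod_le_prod' fun s hs => ?_)
      exact Nat.pow_le_pow_right (h0 s hs).pos
        (factorization_le_of_dvd Nat.card_pos.ne' (Subgroup.card_subgroup_dvd_card _) s))
  rwa [Finset.insert_erase hr] at h1

/-- if `G` has, for each `r ∈ π`, a normal `r`-complement and an abelian Sylow `r`-subgroup -/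
theorem exists_pi_complement [Finite G] (π : Finset ℕ) (hπ : ∀ r ∈ π, r.Prime)
    (h : ∀ r ∈ π, ∀ hr : r.Prime, ∃ N : Subgroup G, N.Normal ∧ ¬ r ∣ Nat.card N ∧
      (∃ k : ℕ, N.index = r ^ k) ∧ ∀ a b : G, a * b * a⁻¹ * b⁻¹ ∈ N) :
    ∃ N : Subgroup G, N.Normal ∧ (∀ r : ℕ, r.Prime → r ∣ Nat.card N → r ∉ π) ∧
      (∀ r : ℕ, r.Prime → r ∣ N.index → r ∈ π) ∧ ∀ a b : G, a * b * a⁻¹ * b⁻¹ ∈ N := by
  classical
  choose! M hM using fun r (hr : r ∈ π) => h r hr (hπ r hr)
  refine ⟨⨅ r ∈ π, M r, ?_, ?_, ?_, ?_⟩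
  · refine ⟨fun n hn g => ?_⟩
    simp only [Subgroup.mem_iInf] at hn ⊢
    exact fun r hr => (hM r hr).1.conj_mem n (hn r hr) g
  · intro r hr hd hrπ
    exact (hM r hrπ).2.1 (hd.trans (Subgroup.card_dvd_of_le (iInf₂_le r hrπ)))
  · intro s hs hd
    by_contra hsπ
    haveI : Fact s.Prime := ⟨hs⟩
    haveI hn : (⨅ r ∈ π, M r).Normal := by
      refine ⟨fun n hn g => ?_⟩
      simp only [Subgroup.mem_iInf] at hn ⊢
      exact fun r hr => (hM r hr).1.conj_mem n (hn r hr) g
    obtain ⟨x, hx⟩ := exists_prime_orderOf_dvd_card' (G := G ⧸ (⨅ r ∈ π, M r)) s (by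
      rw [← Subgroup.index_eq_card]; exact hd)
    obtain ⟨g, rfl⟩ := QuotientGroup.mk_surjective x
    have h1 : g ^ s ∈ ⨅ r ∈ π, M r := by
      rw [← QuotientGroup.eq_one_iff, QuotientGroup.mk_pow, ← hx, pow_orderOf_eq_one]
    have h2 : g ∈ ⨅ r ∈ π, M r := by
      simp only [Subgroup.mem_iInf] at h1 ⊢
      intro r hr
      haveI := (hM r hr).1
      obtain ⟨k, hk⟩ := (hM r hr).2.2.1
      have h3 := h1 r hr
      have h4 : g ^ (r ^ k) ∈ M r := by
        rw [← hk]; exact Subgroup.pow_index_mem (M r) g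
      have hcop : Nat.Coprime s (r ^ k) :=
        Nat.Coprime.pow_right _ ((Nat.coprime_primes hs (hπ r hr)).mpr (fun e => hsπ (e ▸ hr)))
      rw [← QuotientGroup.eq_one_iff] at h3 h4 ⊢
      rw [QuotientGroup.mk_pow] at h3 h4
      have h5 : orderOf (g : G ⧸ M r) ∣ 1 := by
        have := Nat.dvd_gcd (orderOf_dvd_of_pow_eq_one h3) (orderOf_dvd_of_pow_eq_one h4)
        rwa [hcop] at this
      exact orderOf_eq_one_iff.mp (Nat.dvd_one.mp h5)
    rw [← QuotientGroup.eq_one_iff] at h2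
    rw [h2, orderOf_one] at hx
    exact hs.ne_one hx.symm
  · intro a b
    simp only [Subgroup.mem_iInf]
    exact fun r hr => (hM r hr).2.2.2 a b

theorem npc_data [Finite G] {r : ℕ} [Fact r.Prime] (P : Sylow r G)
    (h : Cfsg.HasNormalPComplement r G) (hc : IsMulCommutative ↥(P : Subgroup G)) :
    ∃ N : Subgroup G, N.Normal ∧ ¬ r ∣ Nat.card N ∧
      (∃ k : ℕ, N.index = r ^ k) ∧ ∀ a b : G, a * b * a⁻¹ * b⁻¹ ∈ N := by
  obtain ⟨N, hN, hNP⟩ := (H2.hasNormalPComplement_iff_sylow P).mp h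
  refine ⟨N, hN, ?_, ?_, ?_⟩
  · rw [← hNP.index_eq_card]; exact P.not_dvd_index
  · obtain ⟨k, hk⟩ := IsPGroup.iff_card.mp P.2
    exact ⟨k, by rw [hNP.symm.index_eq_card]; exact hk⟩
  · intro a b
    have key : ∀ a : G, ∃ u : G, u ∈ (P : Subgroup G) ∧ (a : G ⧸ N) = (u : G ⧸ N) := by
      intro a
      have ha : a ∈ N ⊔ (P : Subgroup G) := by
        rw [hNP.sup_eq_top]; exact Subgroup.mem_top a
      obtain ⟨n, hn, u, hu, rfl⟩ := Subgroup.mem_sup_of_normal_left.mp ha
      refine ⟨u, hu, ?_⟩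
      rw [QuotientGroup.mk_mul, (QuotientGroup.eq_one_iff n).mpr hn, one_mul]
    obtain ⟨u, hu, hau⟩ := key a
    obtain ⟨v, hv, hbv⟩ := key b
    rw [← QuotientGroup.eq_one_iff, QuotientGroup.mk_mul, QuotientGroup.mk_mul, QuotientGroup.mk_mul,
      QuotientGroup.mk_inv, QuotientGroup.mk_inv]
    rw [hau, hbv, ← QuotientGroup.mk_inv, ← QuotientGroup.mk_inv, ← QuotientGroup.mk_mul,
      ← QuotientGroup.mk_mul, ← QuotientGroup.mk_mul]
    have := hc.1.1 (⟨u, hu⟩ : (P : Subgroup G)) ⟨v, hv⟩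
    have h6 : u * v = v * u := congrArg (fun z : (P : Subgroup G) => (z : G)) this
    rw [h6]
    have : v * u * u⁻¹ * v⁻¹ = 1 := by group
    rw [this, QuotientGroup.mk_one]

theorem exists_hall_of_complement [Finite G] (π : Finset ℕ) {N : Subgroup G} (hN : N.Normal)
    (h1 : ∀ r : ℕ, r.Prime → r ∣ Nat.card N → r ∉ π)
    (h2 : ∀ r : ℕ, r.Prime → r ∣ N.index → r ∈ π) (h3 : ∀ a b : G, a * b * a⁻¹ * b⁻¹ ∈ N) :
    ∃ H : Subgroup G, Cfsg.IsPiHall (↑π : Set ℕ) H ∧ IsMulCommutative ↥H := by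
  have hcop : Nat.Coprime (Nat.card N) N.index :=
    Nat.Coprime.symm (Nat.coprime_of_dvd fun r hr hri hrc => h1 r hr hrc (h2 r hr hri))
  obtain ⟨H, hH⟩ := Subgroup.exists_right_complement'_of_coprime hcop
  refine ⟨H, ⟨fun r hr hd => ?_, fun r hr hrπ hd => ?_⟩, ⟨⟨fun a b => ?_⟩⟩⟩
  · apply h2 r hr
    rwa [hH.symm.index_eq_card]
  · rw [hH.index_eq_card] at hd
    exact h1 r hr hd hrπ
  · have h4 : (a : G) * b * (a : G)⁻¹ * (b : G)⁻¹ ∈ H := by
      exact H.mul_mem (H.mul_mem (H.mul_mem a.2 b.2) (H.inv_mem a.2)) (H.inv_mem b.2)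
    have h5 := (Subgroup.disjoint_def.mp hH.disjoint) (h3 a b) h4
    apply Subtype.ext
    change (a : G) * b = b * a
    calc (a : G) * b = ((a : G) * b * (a : G)⁻¹ * (b : G)⁻¹) * (b * a) := by group
      _ = b * a := by rw [h5, one_mul]

end Cfsg.Agent.H23
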