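import Mathlib
import Cfsg.Agent.H1.Chief
import Cfsg.Agent.H1.Cores
import Cfsg.Agent.H19.Sylow
import Cfsg.Agent.H23.Nilp
import Cfsg.Agent.H25.Primary
import Cfsg.Agent.H2.Hall
import Cfsg.Agent.H2.OddSolv
import Cfsg.Agent.H10.OE7
import Cfsg.Agent.S0117

/-!
Kegel's theorem: groups with a splitting automorphism of prime order are nilpotent.
-/

set_option linter.style.haveILetI false

namespace Cfsg.Agent.H23

open Subgroup

theorem eq_of_pow_eq_of_coprime {G : Type*} [Group G] {a b : G} {i p : ℕ} (hip : i.Coprime p)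
    (h1 : a ^ i = b ^ i) (h2 : a ^ p = 1) (h3 : b ^ p = 1) : a = b := by
  have h4 := Nat.gcd_eq_gcd_ab i p
  rw [hip.gcd_eq_one] at h4
  have key : ∀ c : G, c ^ p = 1 → c = (c ^ i) ^ (i.gcdA p) := by
    intro c hc
    calc c = c ^ (1 : ℤ) := (zpow_one c).symm
      _ = c ^ ((i : ℤ) * i.gcdA p + p * i.gcdB p) := by rw [← h4]; norm_num
      _ = (c ^ i) ^ (i.gcdA p) := by
        rw [zpow_add, zpow_mul, zpow_mul, zpow_natCast, zpow_natCast, hc, one_zpow, mul_one]
  rw [key a h2, key b h3, h1]

theorem mul_pow_conj_prod {Γ : Type*} [Group Γ] (N : Subgroup Γ) [N.Normal]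
    (hNc : ∀ x y : N, x * y = y * x) (n : N) (g : Γ) (k : ℕ) :
    letI : CommGroup N := { (inferInstance : Group N) with mul_comm := hNc }
    ((n : Γ) * g) ^ k = ((∏ i ∈ Finset.range k, MulAut.conjNormal (H := N) (g ^ i) n : N) : Γ) * g ^ k := by
  letI : CommGroup N := { (inferInstance : Group N) with mul_comm := hNc }
  show ((n : Γ) * g) ^ k = ((∏ i ∈ Finset.range k, MulAut.conjNormal (H := N) (g ^ i) n : N) : Γ) * g ^ k
  induction k with
  | zero => simp
  | succ k ih =>
    rw [pow_succ, ih, Finset.prod_range_succ, Subgroup.coe_mul, MulAut.conjNormal_apply]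
    rw [pow_succ g k]
    group

theorem eq_bot_of_trace {Γ : Type*} [Group Γ] [Finite Γ] {p : ℕ} [hp : Fact p.Prime]
    (G N Q : Subgroup Γ) [N.Normal] (hNc : ∀ x y : N, x * y = y * x) {β : Γ} (hβ : β ∉ G)
    (hβQ : β ∈ normalizer (Q : Set Γ)) (hNG : N ≤ G) (hQG : Q ≤ G) (hord : ∀ x, x ∉ G → x ^ p = 1)
    (hfix : N ⊓ centralizer (Q : Set Γ) = ⊥) (hcop : (Nat.card N).Coprime (Nat.card Q)) : N = ⊥ := by
  classical
  letI icg : CommGroup N := { (inferInstance : Group N) with mul_comm := hNc }
  haveI : Fintype Q := Fintype.ofFinite Q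
  have hdvd : ∀ i : ℕ, ¬ p ∣ i → β ^ i ∉ G := by
    intro i hi h
    apply hβ
    have h1 : (β ^ i) ∈ G := h
    have h2 : β ^ p = 1 := hord β hβ
    have hcop' : i.Coprime p := Nat.Coprime.symm ((Nat.Prime.coprime_iff_not_dvd hp.out).mpr hi)
    have h4 := Nat.gcd_eq_gcd_ab i p
    rw [hcop'.gcd_eq_one] at h4
    have : β = (β ^ i) ^ (i.gcdA p) := by
      calc β = β ^ (1 : ℤ) := (zpow_one β).symm
        _ = β ^ ((i : ℤ) * i.gcdA p + p * i.gcdB p) := by rw [← h4]; norm_num
        _ = (β ^ i) ^ (i.gcdA p) := by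
          rw [zpow_add, zpow_mul, zpow_mul, zpow_natCast, zpow_natCast, h2, one_zpow, mul_one]
    rw [this]
    exact G.zpow_mem h1 _
  have hxβ : ∀ x ∈ Q, x * β ∉ G := by
    intro x hx h
    apply hβ
    have := G.mul_mem (G.inv_mem (hQG hx)) h
    rwa [inv_mul_cancel_left] at this
  -- total trace
  have htr : ∀ (n : N) (x : Γ), x ∈ Q →
      ∏ i ∈ Finset.range p, MulAut.conjNormal (H := N) ((x * β) ^ i) n = 1 := by
    intro n x hx
    have h1 := mul_pow_conj_prod N hNc n (x * β) p
    have h2 : (n : Γ) * (x * β) ∉ G := by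
      intro h
      apply hxβ x hx
      have := G.mul_mem (G.inv_mem (hNG n.2)) h
      rwa [inv_mul_cancel_left] at this
    rw [hord _ h2, hord _ (hxβ x hx), mul_one] at h1
    exact Subtype.ext h1.symm
  have hσ : ∀ (i : ℕ) (x : Γ), x ∈ Q → (x * β) ^ i * (β ^ i)⁻¹ ∈ Q := by
    intro i
    induction i with
    | zero => intro x hx; simp [Q.one_mem]
    | succ i ih =>
      intro x hx
      have h1 : (x * β) ^ (i + 1) * (β ^ (i + 1))⁻¹ = ((x * β) ^ i * (β ^ i)⁻¹) * (β ^ i * x * (β ^ i)⁻¹) := by
        rw [pow_succ, pow_succ β i]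
        group
      rw [h1]
      refine Q.mul_mem (ih x hx) ?_
      have h2 := (normalizer (Q : Set Γ)).pow_mem hβQ i
      exact (mem_normalizer_iff.mp h2 x).mp hx
  have hfixT : ∀ m : N, ∏ y : Q, MulAut.conjNormal (H := N) (y : Γ) m = 1 := by
    intro m
    have h1 : ((∏ y : Q, MulAut.conjNormal (H := N) (y : Γ) m : N) : Γ) ∈
        N ⊓ centralizer (Q : Set Γ) := by
      refine ⟨SetLike.coe_mem _, ?_⟩
      apply mem_centralizer_iff.mpr
      intro q hq
      have h2 : MulAut.conjNormal (H := N) q (∏ y : Q, MulAut.conjNormal (H := N) (y : Γ) m) =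
          ∏ y : Q, MulAut.conjNormal (H := N) (y : Γ) m := by
        rw [map_prod]
        refine Fintype.prod_equiv (Equiv.mulLeft (⟨q, hq⟩ : Q)) _ _ ?_
        intro y
        rw [← MulAut.mul_apply, ← map_mul]
        rfl
      have h3 := congrArg (fun (a : N) => (a : Γ)) h2
      simp only [MulAut.conjNormal_apply] at h3
      rw [mul_inv_eq_iff_eq_mul] at h3
      exact h3
    rw [hfix, mem_bot] at h1
    exact Subtype.ext h1
  rw [eq_bot_iff]
  intro n hn
  rw [mem_bot]
  set n' : N := ⟨n, hn⟩ with hn'
  have htotal : ∏ x : Q, ∏ i ∈ Finset.range p, MulAut.conjNormal (H := N) (((x : Γ) * β) ^ i) n' = 1 := by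
    apply Finset.prod_eq_one
    intro x _
    exact htr n' x x.2
  rw [Finset.prod_comm] at htotal
  have hp0 : p = (p - 1) + 1 := (Nat.succ_pred_eq_of_pos hp.out.pos).symm
  rw [hp0, Finset.prod_range_succ'] at htotal
  have hrest : ∏ i ∈ Finset.range (p - 1), ∏ x : Q,
      MulAut.conjNormal (H := N) (((x : Γ) * β) ^ (i + 1)) n' = 1 := by
    apply Finset.prod_eq_one
    intro i hi
    rw [Finset.mem_range] at hi
    have hic : (i + 1).Coprime p := by
      apply Nat.Coprime.symm
      rw [Nat.Prime.coprime_iff_not_dvd hp.out]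
      intro hd
      have := Nat.le_of_dvd (Nat.succ_pos i) hd
      omega
    set f : Q → Q := fun x => ⟨((x : Γ) * β) ^ (i + 1) * (β ^ (i + 1))⁻¹, hσ (i + 1) x x.2⟩ with hf
    have hfinj : Function.Injective f := by
      intro x y hxy
      have h1 : ((x : Γ) * β) ^ (i + 1) * (β ^ (i + 1))⁻¹ = ((y : Γ) * β) ^ (i + 1) * (β ^ (i + 1))⁻¹ :=
        congrArg Subtype.val hxy
      have h2 := mul_right_cancel h1
      have h3 := eq_of_pow_eq_of_coprime hic h2 (hord _ (hxβ x x.2)) (hord _ (hxβ y y.2))
      exact Subtype.ext (mul_right_cancel h3)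
    have hfbij : Function.Bijective f := Finite.injective_iff_bijective.mp hfinj
    have h4 := hfixT (MulAut.conjNormal (H := N) (β ^ (i + 1)) n')
    rw [← h4]
    refine Fintype.prod_equiv (Equiv.ofBijective f hfbij) _ _ ?_
    intro x
    rw [← MulAut.mul_apply, ← map_mul]
    congr 2
    simp [hf]
  rw [hrest, one_mul] at htotal
  simp only [pow_zero, map_one, MulAut.one_apply, Finset.prod_const, Finset.card_univ] at htotal
  rw [← Nat.card_eq_fintype_card] at htotal
  have h5 : orderOf n' ∣ Nat.card Q := orderOf_dvd_of_pow_eq_one htotal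
  have h6 : orderOf n' ∣ Nat.card N := orderOf_dvd_natCard n'
  have h7 := Nat.eq_one_of_dvd_coprimes hcop h6 h5
  have h8 := orderOf_eq_one_iff.mp h7
  exact congrArg Subtype.val h8

/-- A Sylow subgroup of a nilpotent normal subgroup is normal. -/
theorem isSylowOf_normal_of_nilpotent {Γ : Type*} [Group Γ] [Finite Γ] {q : ℕ} [hq : Fact q.Prime]
    {N P : Subgroup Γ} (hN : N.Normal) (hnil : Group.IsNilpotent N) (hP : IsSylowOf q P N) : P.Normal := by
  obtain ⟨S, hS⟩ := hP
  have hSn : (S : Subgroup N).Normal := H1.isNilpotent_iff_sylow_normal.mp hnil q inferInstance S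
  have hNP : N ≤ normalizer (P : Set Γ) := by
    have h1 := le_normalizer_map (H := (S : Subgroup N)) N.subtype
    rw [hS, normalizer_eq_top, ← MonoidHom.range_eq_map, range_subtype] at h1
    exact h1
  rw [← normalizer_eq_top_iff, eq_top_iff]
  intro g _
  obtain ⟨n, hn, h2⟩ := H19.frattini_elem (N := N) (R := P) ⟨S, hS⟩ (g := g) (by
    rw [normalizer_eq_top]; exact mem_top g)
  have h3 := (normalizer (P : Set Γ)).mul_mem (hNP hn) h2
  rwa [mul_inv_cancel_left] at h3

universe u in
theorem kegel_main (p : ℕ) [hp : Fact p.Prime] (n : ℕ) : ∀ (Γ : Type u) [Group Γ] [Finite Γ] (G : Subgroup Γ),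
    G.Normal → Nat.card Γ ≤ n → G.index = p → (∀ x, x ∉ G → x ^ p = 1) → Group.IsNilpotent G := by
  classical
  induction n with
  | zero =>
    intro Γ _ _ G _ hcard
    have : 0 < Nat.card Γ := Nat.card_pos
    omega
  | succ n ih =>
    intro Γ _ _ G hGn hcard hidx hord
    by_contra hnil
    have hGtop : G ≠ ⊤ := by
      rintro rfl
      rw [index_top] at hidx
      exact hp.out.one_lt.ne hidx
    have hGbot : G ≠ ⊥ := by
      rintro rfl
      exact hnil inferInstance
    obtain ⟨β₀, hβ₀⟩ : ∃ β, β ∉ G := by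
      by_contra h
      push Not at h
      exact hGtop (eq_top_iff.mpr (fun x _ => h x))
    -- F1
    have F1 : ∀ Δ : Subgroup Γ, ¬ Δ ≤ G → Δ ≠ ⊤ → Group.IsNilpotent (Δ ⊓ G : Subgroup Γ) := by
      intro Δ h1 h2
      have h3 : Nat.card Δ < Nat.card Γ := by
        refine lt_of_le_of_ne (card_le_card_group Δ) ?_
        intro h
        exact h2 ((card_eq_iff_eq_top Δ).mp h)
      have h4 : (G.subgroupOf Δ).index = p := by
        have h5 : G.relIndex Δ ∣ G.index := relIndex_dvd_index_of_normal G Δ
        rw [hidx] at h5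
        rcases (Nat.dvd_prime hp.out).mp h5 with h | h
        · exact absurd (relIndex_eq_one.mp h) h1
        · exact h
      have h5 := ih Δ (G.subgroupOf Δ) inferInstance (by omega) h4
        (fun x hx => Subtype.ext (hord x hx))
      have h6 := H1.isNilpotent_of_equiv (H10.subgroupOfEquivInf G Δ) h5
      rw [inf_comm]
      exact h6
    -- F4
    have F4 : ∀ M : Subgroup Γ, M.Normal → M ≤ G → M ≠ G → Group.IsNilpotent M := by
      intro M hM hMG hne
      have h1 : (M ⊔ zpowers β₀) ⊓ G = M := by
        apply le_antisymm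
        · rintro x ⟨hx1, hx2⟩
          have hx1' : x ∈ M ⊔ zpowers β₀ := hx1
          obtain ⟨m, hm, k, hk, rfl⟩ := mem_sup_of_normal_left.mp hx1'
          have h3 : k ∈ G := by
            have := G.mul_mem (G.inv_mem (hMG hm)) hx2
            rwa [inv_mul_cancel_left] at this
          have h4 : k = 1 := by
            by_contra hk1
            have h5 : zpowers β₀ ⊓ G = ⊥ := by
              have hord : orderOf β₀ = p := orderOf_eq_prime (hord β₀ hβ₀) (by
                rintro rfl; exact hβ₀ G.one_mem)
              rcases (Nat.dvd_prime hp.out).mp (show Nat.card (zpowers β₀ ⊓ G : Subgroup Γ) ∣ p by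
                rw [← hord, ← Nat.card_zpowers]
                exact card_dvd_of_le inf_le_left) with h | h
              · exact card_eq_one.mp h
              · exfalso
                have h6 : zpowers β₀ ⊓ G = zpowers β₀ := by
                  apply eq_of_le_of_card_ge inf_le_left
                  rw [h, Nat.card_zpowers, hord]
                exact hβ₀ ((inf_eq_left.mp h6) (mem_zpowers β₀))
            have h6 : k ∈ zpowers β₀ ⊓ G := ⟨hk, h3⟩
            rw [h5, mem_bot] at h6
            exact hk1 h6
          rw [h4, mul_one]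
          exact hm
        · exact le_inf le_sup_left hMG
      have h2 := F1 (M ⊔ zpowers β₀) (fun h => hβ₀ (h ((le_sup_right : zpowers β₀ ≤ M ⊔ zpowers β₀)
        (mem_zpowers β₀)))) (by
          intro h
          rw [h, top_inf_eq] at h1
          exact hne h1.symm)
      rwa [h1] at h2
    obtain ⟨M, hMn, hMbot, hMG, hMmin⟩ := H1.exists_minimal_normal_le hGn hGbot
    have hMne : M ≠ G := by
      intro hMeq
      subst hMeq
      -- an odd prime
      obtain ⟨r, hr, hr2, hrd⟩ : ∃ r : ℕ, r.Prime ∧ r ≠ 2 ∧ r ∣ Nat.card M := by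
        by_contra hcon
        push Not at hcon
        apply hnil
        have h2 : Nat.card M = 2 ^ (Nat.card M).primeFactorsList.length := by
          apply Nat.eq_prime_pow_of_unique_prime_dvd Nat.card_pos.ne'
          intro s hs hsd
          by_contra hne
          exact hcon s hs hne hsd
        exact (IsPGroup.of_card h2).isNilpotent
      haveI : Fact r.Prime := ⟨hr⟩
      obtain ⟨P⟩ : Nonempty (Sylow r M) := inferInstance
      set R : Subgroup Γ := (P : Subgroup M).map M.subtype with hR
      have hRS : IsSylowOf r R M := ⟨P, rfl⟩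
      have hRbot : R ≠ ⊥ := H19.IsSylowOf.ne_bot hRS hrd
      set D := centerThompsonOf r R with hD
      have hDR : D ≤ R := H2.centerThompsonOf_le r R
      have hDbot : D ≠ ⊥ := H10.zj_ne_bot hRS.isPGroup hRbot
      have hDmap : D = (centerThompsonOf r (P : Subgroup M)).map M.subtype := by
        rw [hD, hR]
        exact H2.centerThompsonOf_map_of_injOn (p := r) (M.subtype_injective.comp
          (Subgroup.subtype_injective _))
      have hDnt : normalizer (D : Set Γ) ≠ ⊤ := by
        intro h
        have hDn : D.Normal := normalizer_eq_top_iff.mp h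
        rcases hMmin D hDn (hDR.trans hRS.le) with h1 | h1
        · exact hDbot h1
        · apply hnil
          have h2 : R = M := le_antisymm hRS.le (h1 ▸ hDR)
          have h3 := hRS.isPGroup
          rw [h2] at h3
          exact h3.isNilpotent
      have hDnG : ¬ normalizer (D : Set Γ) ≤ M := by
        intro h
        obtain ⟨m, hm, h2⟩ := H19.frattini_elem (N := M) (R := R) hRS (g := β₀) (by
          rw [normalizer_eq_top]; exact mem_top _)
        have h3 : m⁻¹ * β₀ ∈ M := h (H2.normalizer_le_normalizer_centerThompsonOf R h2)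
        have h4 := M.mul_mem hm h3
        rw [mul_inv_cancel_left] at h4
        exact hβ₀ h4
      have h5 := F1 _ hDnG hDnt
      have h6 : ((normalizer ((centerThompsonOf r (P : Subgroup M) : Subgroup M) : Set M))).map M.subtype ≤
          normalizer (D : Set Γ) ⊓ M := by
        apply le_inf
        · rw [hDmap]
          exact le_normalizer_map _
        · exact map_subtype_le _
      have h7 := H25.nilpotent_mono h6 h5
      have h8 : Group.IsNilpotent (normalizer ((centerThompsonOf r (P : Subgroup M) : Subgroup M) : Set M)) :=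
        H1.isNilpotent_of_equiv (equivMapOfInjective _ M.subtype M.subtype_injective).symm h7
      have h9 := (S0117.result hr2 P).mpr (H2.HasNormalPComplement.of_isNilpotent h8)
      obtain ⟨K, hKn, hKr, k, hk⟩ := H2.hasNormalPComplement_iff.mp h9
      have hKmap : (K.map M.subtype).Normal := by
        constructor
        rintro _ ⟨x, hx, rfl⟩ g
        have h10 := (H2.mem_normal_complement_iff hKr hk x).mp hx
        refine ⟨⟨g * x * g⁻¹, hMn.conj_mem x x.2 g⟩, ?_, rfl⟩
        apply (H2.mem_normal_complement_iff hKr hk _).mpr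
        have h11 : orderOf (⟨g * x * g⁻¹, hMn.conj_mem x x.2 g⟩ : M) = orderOf x := by
          rw [← orderOf_coe, ← orderOf_coe]
          exact orderOf_injective (MulAut.conj g).toMonoidHom (MulAut.conj g).injective (x : Γ)
        rw [h11]
        exact h10
      rcases hMmin _ hKmap (map_subtype_le _) with h10 | h10
      · rw [map_eq_bot_iff_of_injective _ M.subtype_injective] at h10
        rw [h10, index_bot] at hk
        exact hnil (IsPGroup.of_card hk).isNilpotent
      · apply hKr
        have h11 : Nat.card K = Nat.card M := by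
          rw [← card_map_of_injective M.subtype_injective, h10]
        rw [h11]
        exact hrd
    have hMnil := F4 M hMn hMG hMne
    obtain ⟨hMab, r, hr, hMr, hMexp⟩ := H1.minimal_normal_solvable hMn hMbot hMmin
      (by haveI := hMnil; infer_instance)
    haveI : Fact r.Prime := ⟨hr⟩
    -- quotient
    have F2 : Group.IsNilpotent (G.map (QuotientGroup.mk' M)) := by
      refine ih (Γ ⧸ M) (G.map (QuotientGroup.mk' M)) (hGn.map _ (QuotientGroup.mk'_surjective M)) ?_ ?_ ?_
      · have h1 := M.card_eq_card_quotient_mul_card_subgroup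
        have h2 : 1 < Nat.card M := (one_lt_card_iff_ne_bot M).mpr hMbot
        have h3 : 0 < Nat.card (Γ ⧸ M) := Nat.card_pos
        nlinarith
      · rw [index_map_eq G (QuotientGroup.mk'_surjective M) (by rw [QuotientGroup.ker_mk']; exact hMG), hidx]
      · intro x hx
        obtain ⟨x, rfl⟩ := QuotientGroup.mk'_surjective M x
        rw [← map_pow, hord x, map_one]
        intro h
        exact hx ⟨x, h, rfl⟩
    -- find q
    obtain ⟨q, hq, hqr, Q, hQ, hMQ⟩ : ∃ (q : ℕ) (_ : Fact q.Prime) (_ : q ≠ r) (Q : Subgroup Γ),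
        IsSylowOf q Q G ∧ M ⊔ Q = G := by
      by_contra hcon
      push Not at hcon
      apply hnil
      rw [H1.isNilpotent_iff_sylow_normal]
      intro q hq S
      set Q : Subgroup Γ := (S : Subgroup G).map G.subtype with hQ
      have hQS : IsSylowOf q Q G := ⟨S, rfl⟩
      have hMQn : (M ⊔ Q).Normal := by
        have h1 : IsSylowOf q (Q.map (QuotientGroup.mk' M)) (G.map (QuotientGroup.mk' M)) := by
          apply isSylowOf_of_not_dvd (map_mono hQS.le) (hQS.isPGroup.map _)
          intro h
          apply hQS.not_dvd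
          rw [relIndex_map_map, QuotientGroup.ker_mk', sup_eq_left.mpr hMG] at h
          exact h.trans (relIndex_dvd_of_le_left _ le_sup_left)
        have h2 := isSylowOf_normal_of_nilpotent (hGn.map _ (QuotientGroup.mk'_surjective M)) F2 h1
        have h3 := h2.comap (QuotientGroup.mk' M)
        rwa [comap_map_eq, QuotientGroup.ker_mk', sup_comm] at h3
      have hQn : Q.Normal := by
        by_cases hqr : q = r
        · subst hqr
          have h1 : IsPGroup q (M ⊔ Q : Subgroup Γ) := hMr.to_sup_of_normal_left hQS.isPGroup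
          have h2 := H19.IsSylowOf.eq_of_le hQS le_sup_right (sup_le hMG hQS.le) h1
          rwa [h2] at hMQn
        · have h1 := hcon q hq hqr Q hQS
          have h2 := F4 (M ⊔ Q) hMQn (sup_le hMG hQS.le) h1
          have h3 : IsSylowOf q Q (M ⊔ Q) := H19.IsSylowOf.mono hQS le_sup_right (sup_le hMG hQS.le)
          exact isSylowOf_normal_of_nilpotent hMQn h2 h3
      have h1 : (Q.subgroupOf G).Normal := inferInstance
      have h2 : Q.subgroupOf G = S := by
        rw [hQ, subgroupOf, comap_map_eq_self_of_injective G.subtype_injective]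
      rwa [h2] at h1
    have hQp := hQ.isPGroup
    obtain ⟨m, hm, hβ⟩ := H19.frattini_elem (N := G) (R := Q) hQ (g := β₀) (by
      rw [normalizer_eq_top]; exact mem_top _)
    have hβG : m⁻¹ * β₀ ∉ G := by
      intro h
      have h4 := G.mul_mem hm h
      rw [mul_inv_cancel_left] at h4
      exact hβ₀ h4
    have hMc : ∀ x ∈ M, ∀ y ∈ M, x * y = y * x := by
      intro x hx y hy
      have := hMab.is_comm.comm (⟨x, hx⟩ : M) ⟨y, hy⟩
      exact congrArg Subtype.val this
    have hgen : ∀ K : Subgroup Γ, M ≤ normalizer (K : Set Γ) → normalizer (Q : Set Γ) ≤ normalizer (K : Set Γ) →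
        K.Normal := by
      intro K h1 h2
      rw [← normalizer_eq_top_iff, eq_top_iff]
      intro g _
      obtain ⟨n, hn, h3⟩ := H19.frattini_elem (N := G) (R := Q) hQ (g := g) (by
        rw [normalizer_eq_top]; exact mem_top _)
      have h4 : G ≤ normalizer (K : Set Γ) := by
        rw [← hMQ]
        exact sup_le h1 (le_normalizer.trans h2)
      have h5 := (normalizer (K : Set Γ)).mul_mem (h4 hn) (h2 h3)
      rwa [mul_inv_cancel_left] at h5
    have hCn : (M ⊓ centralizer (Q : Set Γ)).Normal := by
      apply hgen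
      · refine le_trans ?_ (centralizer_le_normalizer _)
        intro x hx
        apply mem_centralizer_iff.mpr
        intro y hy
        exact hMc y hy.1 x hx
      · intro g hg
        have h1 : g ∈ normalizer ((centralizer (Q : Set Γ) : Subgroup Γ) : Set Γ) :=
          H18.le_normalizer_centralizer le_rfl hg
        have h2 : g ∈ normalizer (M : Set Γ) := by
          rw [normalizer_eq_top]; exact mem_top _
        rw [mem_normalizer_iff] at h1 h2 ⊢
        intro x
        rw [mem_inf, mem_inf, h1, h2]
    rcases hMmin _ hCn inf_le_left with h1 | h1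
    · have hcop : (Nat.card M).Coprime (Nat.card Q) := by
        obtain ⟨a, ha⟩ := IsPGroup.iff_card.mp hMr
        obtain ⟨b, hb⟩ := IsPGroup.iff_card.mp hQp
        rw [ha, hb]
        exact Nat.Coprime.pow _ _ ((Nat.coprime_primes hr hq.out).mpr (Ne.symm hqr))
      exact hMbot (eq_bot_of_trace (p := p) G M Q (fun x y => Subtype.ext (hMc x x.2 y y.2)) hβG hβ hMG
        hQ.le hord h1 hcop)
    · have h2 : M ≤ centralizer (Q : Set Γ) := by rw [← h1]; exact inf_le_right
      have hQn : Q.Normal := hgen Q (h2.trans (centralizer_le_normalizer _)) le_rfl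
      apply hnil
      rw [← hMQ]
      exact H1.isNilpotent_sup_of_normal hMn hQn hMnil hQp.isNilpotent

end Cfsg.Agent.H23
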