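import Mathlib
import Cfsg.Agent.H14.S4Off
import Cfsg.Agent.H2.StabOdd
import Cfsg.Agent.H23.HHApp2

set_option autoImplicit false
set_option linter.all false

/-! # A `p`-element acting as a transvection and containing its commutator -/

namespace Cfsg.Agent.H23

open Subgroup

universe u

section

variable {G : Type u} [Group G]

theorem zpow_three {x : G} (h : x ^ 3 = 1) (k : ℤ) : x ^ k = 1 ∨ x ^ k = x ∨ x ^ k = x⁻¹ := by
  have h1 : x ^ k = x ^ (k % 3) := by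
    conv_lhs => rw [← Int.emod_add_mul_ediv k 3]
    rw [zpow_add, zpow_mul]
    have : x ^ (3 : ℤ) = 1 := by exact_mod_cast h
    rw [this, one_zpow, mul_one]
  have h2 : k % 3 = 0 ∨ k % 3 = 1 ∨ k % 3 = 2 := by omega
  rcases h2 with h2 | h2 | h2 <;> rw [h1, h2]
  · left; simp
  · right; left; simp
  · right; right
    have : x ^ (2 : ℤ) * x = 1 := by
      rw [← zpow_add_one]; exact_mod_cast h
    exact eq_inv_of_mul_eq_one_left this

theorem eq_one_of_sq_cube {x : G} (h2 : x * x = 1) (h3 : x ^ 3 = 1) : x = 1 := by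
  have : x ^ 3 = x * x * x := by rw [pow_succ, pow_two]
  rw [this, h2, one_mul] at h3
  exact h3

theorem transv_three_aux {V : Subgroup G} [hVn : V.Normal] (hc : ∀ x ∈ V, ∀ y ∈ V, x * y = y * x)
    (h3 : ∀ v ∈ V, v ^ 3 = 1) (hC : ∀ x : G, (∀ v ∈ V, MulAut.conj x v = v) → x ∈ V) {a a' e f : G}
    (he : e ∈ V) (hf : f ∈ V) (ha : ∀ v ∈ V, ∃ k : ℤ, MulAut.conj a v = v * e ^ k)
    (ha' : ∀ v ∈ V, ∃ k : ℤ, MulAut.conj a' v = v * f ^ k) (hae : MulAut.conj a e = e)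
    (ha'f : MulAut.conj a' f = f) (haf : MulAut.conj a f = f * e) (he1 : e ≠ 1)
    (ha'e : MulAut.conj a' e ≠ e)
    (hea : e ∈ zpowers a) (haV : a ∉ V) : False := by
  have hef : ∀ m n : ℤ, e ^ m * f ^ n = f ^ n * e ^ m := fun m n => hc _ (zpow_mem he m) _ (zpow_mem hf n)
  have hef1 : e * f = f * e := hc _ he _ hf
  -- the exponent ε
  obtain ⟨ε, hε, hε1⟩ : ∃ ε : ℤ, MulAut.conj a' e = e * f ^ ε ∧ (ε = 1 ∨ ε = -1) := by
    obtain ⟨k, hk⟩ := ha' e he
    rcases zpow_three (h3 f hf) k with h | h | h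
    · rw [h, mul_one] at hk; exact absurd hk ha'e
    · exact ⟨1, by rw [hk, h, zpow_one], Or.inl rfl⟩
    · exact ⟨-1, by rw [hk, h, zpow_neg_one], Or.inr rfl⟩
  have haif : MulAut.conj a⁻¹ f = f * e⁻¹ := by
    have h1 : MulAut.conj a (f * e⁻¹) = f := by
      rw [map_mul, map_inv, haf, hae, mul_inv_cancel_right]
    rw [map_inv]
    conv_lhs => rw [← h1]
    exact MulAut.inv_apply_self G (MulAut.conj a) _
  have haie : MulAut.conj a⁻¹ e = e := by
    rw [map_inv]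
    conv_lhs => rw [← hae]
    exact MulAut.inv_apply_self G (MulAut.conj a) _
  -- z
  obtain ⟨z, hze, hzf, hzw⟩ : ∃ z : G, MulAut.conj z e = e⁻¹ ∧ MulAut.conj z f = f⁻¹ ∧
      ∀ w, MulAut.conj a w = w → MulAut.conj a' w = w → MulAut.conj z w = w := by
    rcases hε1 with h | h
    · subst h
      rw [zpow_one] at hε
      have te : MulAut.conj (a⁻¹ * a' * a⁻¹) e = f := by
        rw [map_mul, map_mul, MulAut.mul_apply, MulAut.mul_apply, haie, hε, map_mul, haie, haif, ← mul_assoc, hef1,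
          mul_inv_cancel_right]
      have tf : MulAut.conj (a⁻¹ * a' * a⁻¹) f = e⁻¹ := by
        have h1 : MulAut.conj a' e⁻¹ = (e * f)⁻¹ := by rw [map_inv (MulAut.conj a'), hε]
        have h2 : MulAut.conj a⁻¹ e⁻¹ = e⁻¹ := by rw [map_inv (MulAut.conj a⁻¹), haie]
        rw [map_mul, map_mul, MulAut.mul_apply, MulAut.mul_apply, haif, map_mul (MulAut.conj a'), ha'f, h1, mul_inv_rev,
          ← mul_assoc, mul_inv_cancel, one_mul, h2]
      refine ⟨(a⁻¹ * a' * a⁻¹) * (a⁻¹ * a' * a⁻¹), ?_, ?_, ?_⟩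
      · rw [map_mul, MulAut.mul_apply, te, tf]
      · rw [map_mul, MulAut.mul_apply, tf, map_inv, te]
      · intro w hw hw'
        have hwi : MulAut.conj a⁻¹ w = w := by
          rw [map_inv]
          conv_lhs => rw [← hw]
          exact MulAut.inv_apply_self G (MulAut.conj a) _
        have : MulAut.conj (a⁻¹ * a' * a⁻¹) w = w := by
          rw [map_mul, map_mul, MulAut.mul_apply, MulAut.mul_apply, hwi, hw', hwi]
        rw [map_mul, MulAut.mul_apply, this, this]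
    · subst h
      rw [zpow_neg_one] at hε
      have te : MulAut.conj (a * a' * a) e = f⁻¹ := by
        rw [map_mul, map_mul, MulAut.mul_apply, MulAut.mul_apply, hae, hε, map_mul, hae, map_inv, haf, mul_inv_rev,
          ← mul_assoc, mul_inv_cancel, one_mul]
      have tf : MulAut.conj (a * a' * a) f = e := by
        rw [map_mul, map_mul, MulAut.mul_apply, MulAut.mul_apply, haf, map_mul, ha'f, hε]
        have : f * (e * f⁻¹) = e := by rw [← mul_assoc, ← hef1, mul_inv_cancel_right]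
        rw [this, hae]
      refine ⟨(a * a' * a) * (a * a' * a), ?_, ?_, ?_⟩
      · rw [map_mul, MulAut.mul_apply, te, map_inv, tf]
      · rw [map_mul, MulAut.mul_apply, tf, te]
      · intro w hw hw'
        have : MulAut.conj (a * a' * a) w = w := by
          rw [map_mul, map_mul, MulAut.mul_apply, MulAut.mul_apply, hw, hw', hw]
        rw [map_mul, MulAut.mul_apply, this, this]
  -- decomposition
  have hdec : ∀ v ∈ V, ∃ w ∈ V, ∃ m n : ℤ, v = w * (e ^ m * f ^ n) ∧ MulAut.conj a w = w ∧ MulAut.conj a' w = w := by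
    intro v hv
    obtain ⟨k, hk⟩ := ha v hv
    obtain ⟨l, hl⟩ := ha' v hv
    have hεε : ε * ε = 1 := by rcases hε1 with h | h <;> rw [h] <;> norm_num
    have hu : e ^ (-(ε * l)) * f ^ (-k) ∈ V := mul_mem (zpow_mem he _) (zpow_mem hf _)
    refine ⟨v * (e ^ (-(ε * l)) * f ^ (-k)), mul_mem hv hu, ε * l, k, ?_, ?_, ?_⟩
    · rw [mul_assoc, mul_assoc, hef (ε * l) k, ← mul_assoc (f ^ (-k)), ← zpow_add, neg_add_cancel, zpow_zero, one_mul,
        ← zpow_add, neg_add_cancel, zpow_zero, mul_one]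
    · rw [map_mul, map_mul, map_zpow, map_zpow, hk, hae, haf]
      have h1 : (f * e) ^ (-k) = e ^ (-k) * f ^ (-k) := by
        rw [← hef1]; exact (show Commute e f from hef1).mul_zpow _
      rw [h1]
      have h2 : v * e ^ k * (e ^ (-(ε * l)) * (e ^ (-k) * f ^ (-k))) =
          v * (e ^ (k + (-(ε * l)) + (-k)) * f ^ (-k)) := by
        rw [zpow_add, zpow_add]; simp only [mul_assoc]
      rw [h2]; congr 3; ring
    · rw [map_mul, map_mul, map_zpow, map_zpow, hl, hε, ha'f]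
      have h1 : (e * f ^ ε) ^ (-(ε * l)) = e ^ (-(ε * l)) * f ^ (ε * (-(ε * l))) := by
        rw [(show Commute e (f ^ ε) from hc _ he _ (zpow_mem hf _)).mul_zpow, ← zpow_mul]
      rw [h1]
      have h2 : v * f ^ l * (e ^ (-(ε * l)) * f ^ (ε * (-(ε * l))) * f ^ (-k)) =
          v * (e ^ (-(ε * l)) * f ^ (l + ε * (-(ε * l)) + (-k))) := by
        rw [zpow_add, zpow_add]
        have := hef (-(ε * l)) l
        simp only [mul_assoc]
        rw [← mul_assoc (f ^ l) (e ^ (-(ε * l))), ← this]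
        simp only [mul_assoc]
      rw [h2]
      have h4 : l + ε * (-(ε * l)) + (-k) = -k := by
        have : ε * (-(ε * l)) = -(ε * ε) * l := by ring
        rw [this, hεε]; ring
      rw [h4]
  have hzu : ∀ m n : ℤ, MulAut.conj z (e ^ m * f ^ n) = (e ^ m * f ^ n)⁻¹ := by
    intro m n
    rw [map_mul, map_zpow, map_zpow, hze, hzf, mul_inv_rev, inv_zpow, inv_zpow, ← zpow_neg, ← zpow_neg, hef]
  have hzz : z * z ∈ V := by
    apply hC
    intro v hv
    obtain ⟨w, hw, m, n, rfl, hw1, hw2⟩ := hdec v hv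
    rw [map_mul (MulAut.conj), MulAut.mul_apply, map_mul, hzw w hw1 hw2, hzu, map_mul, hzw w hw1 hw2, map_inv, hzu,
      inv_inv]
  set z1 := z ^ 3 with hz1
  have hz1z1 : z1 * z1 = 1 := by
    have h1 := h3 _ hzz
    rw [hz1, ← pow_add]
    rw [← pow_two, ← pow_mul] at h1
    exact h1
  have hz1inv : z1⁻¹ = z1 := inv_eq_of_mul_eq_one_left hz1z1
  have hz1w : ∀ w, MulAut.conj a w = w → MulAut.conj a' w = w → MulAut.conj z1 w = w := by
    intro w h1 h2
    rw [hz1, pow_succ, pow_two, map_mul, map_mul, MulAut.mul_apply, MulAut.mul_apply, hzw w h1 h2, hzw w h1 h2,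
      hzw w h1 h2]
  have hz1u : ∀ m n : ℤ, MulAut.conj z1 (e ^ m * f ^ n) = (e ^ m * f ^ n)⁻¹ := by
    intro m n
    rw [hz1, pow_succ, pow_two, map_mul MulAut.conj, map_mul MulAut.conj, MulAut.mul_apply, MulAut.mul_apply, hzu,
      map_inv, hzu, inv_inv, hzu]
  have hau : ∀ m n : ℤ, MulAut.conj a (e ^ m * f ^ n) = e ^ (m + n) * f ^ n := by
    intro m n
    rw [map_mul, map_zpow, map_zpow, hae, haf, ← hef1, (show Commute e f from hef1).mul_zpow, ← mul_assoc, zpow_add]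
  have hcomm : ∀ v ∈ V, MulAut.conj (a * z1) v = MulAut.conj (z1 * a) v := by
    intro v hv
    obtain ⟨w, hw, m, n, rfl, hw1, hw2⟩ := hdec v hv
    rw [map_mul MulAut.conj, map_mul MulAut.conj, MulAut.mul_apply, MulAut.mul_apply, map_mul, map_mul,
      hz1w w hw1 hw2, hz1u, map_mul, hw1, map_inv, hau, map_mul, hz1w w hw1 hw2, hz1u]
  obtain ⟨y, hy⟩ : ∃ y, y = a * z1 * (z1 * a)⁻¹ := ⟨_, rfl⟩
  have hyV : y ∈ V := by
    apply hC
    intro v hv
    have h1 : MulAut.conj (z1 * a)⁻¹ v ∈ V := by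
      rw [MulAut.conj_apply]; exact hVn.conj_mem v hv _
    rw [hy, map_mul MulAut.conj, MulAut.mul_apply, hcomm _ h1, ← MulAut.mul_apply, ← map_mul, mul_inv_cancel,
      map_one, MulAut.one_apply]
  have hay : a * z1 = y * (z1 * a) := by rw [hy, inv_mul_cancel_right]
  have hyz : MulAut.conj z1 y = y⁻¹ := by
    -- (y z1)^2 = 1
    have h1 : y * MulAut.conj z1 y = 1 := by
      have h2 : a * z1 * a⁻¹ = y * z1 := by rw [hay, mul_assoc, mul_assoc, mul_inv_cancel, mul_one]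
      have h4 : (y * z1) * (y * z1) = 1 := by
        rw [← h2]
        have : a * z1 * a⁻¹ * (a * z1 * a⁻¹) = a * (z1 * z1) * a⁻¹ := by group
        rw [this, hz1z1, mul_one, mul_inv_cancel]
      rw [MulAut.conj_apply, hz1inv]
      simpa only [mul_assoc] using h4
    exact eq_inv_of_mul_eq_one_right h1
  obtain ⟨w, hw, m, n, hyw, hw1, hw2⟩ := hdec y hyV
  have hw1' : w = 1 := by
    apply eq_one_of_sq_cube _ (h3 w hw)
    have h1 : MulAut.conj z1 y = w * (e ^ m * f ^ n)⁻¹ := by rw [hyw, map_mul, hz1w w hw1 hw2, hz1u]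
    rw [hyz, hyw] at h1
    have hu : e ^ m * f ^ n ∈ V := mul_mem (zpow_mem he _) (zpow_mem hf _)
    rw [mul_inv_rev, hc _ (inv_mem hu) _ (inv_mem hw)] at h1
    have h2 := mul_right_cancel h1
    rw [← inv_mul_cancel w, h2]
  rw [hw1', one_mul] at hyw
  have hy3 : y ^ 3 = 1 := h3 y hyV
  have hyy : y * y = y⁻¹ := by
    apply eq_inv_of_mul_eq_one_left
    rw [← pow_two, ← pow_succ]; exact hy3
  -- a0 commutes with z1
  have hz1y : z1 * y = y⁻¹ * z1 := by
    have h1 := hyz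
    rw [MulAut.conj_apply] at h1
    rw [← h1, inv_mul_cancel_right]
  have ha0 : (y * a) * z1 = z1 * (y * a) := by
    rw [mul_assoc, hay, ← mul_assoc, hyy, ← mul_assoc z1, hz1y, mul_assoc]
  have ha03 : (y * a) ^ 3 = a ^ 3 := by
    have h1 : (y * a) ^ 3 = y * MulAut.conj a y * MulAut.conj a (MulAut.conj a y) * a ^ 3 := by
      simp only [MulAut.conj_apply, pow_succ, pow_zero, one_mul]
      group
    rw [h1, hyw, hau, hau]
    have hu : ∀ i : ℤ, e ^ i * f ^ n ∈ V := fun i => mul_mem (zpow_mem he _) (zpow_mem hf _)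
    have h2 : e ^ m * f ^ n * (e ^ (m + n) * f ^ n) * (e ^ (m + n + n) * f ^ n) = (e ^ (m + n) * f ^ n) ^ 3 := by
      have e1 : e ^ m * f ^ n = e ^ (-n) * (e ^ (m + n) * f ^ n) := by
        rw [← mul_assoc, ← zpow_add]; congr 2; ring
      have e2 : e ^ (m + n + n) * f ^ n = e ^ n * (e ^ (m + n) * f ^ n) := by
        rw [← mul_assoc, ← zpow_add]; congr 2; ring
      rw [e1, e2]
      have hxe : ∀ i : ℤ, (e ^ (m + n) * f ^ n) * e ^ i = e ^ i * (e ^ (m + n) * f ^ n) :=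
        fun i => hc _ (hu _) _ (zpow_mem he _)
      generalize e ^ (m + n) * f ^ n = x at hxe ⊢
      have : e ^ (-n) * x * x * (e ^ n * x) = e ^ (-n) * (x * x * e ^ n) * x := by simp only [mul_assoc]
      rw [this, mul_assoc x x, hxe n, ← mul_assoc x, hxe n, mul_assoc (e ^ n) x x, ← mul_assoc, ← zpow_add,
        neg_add_cancel, zpow_zero, one_mul, pow_succ, pow_two]
    rw [h2, h3 _ (hu _), one_mul]
  have ha3z : a ^ 3 * z1 = z1 * a ^ 3 := by
    rw [← ha03]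
    exact ((show Commute (y * a) z1 from ha0).pow_left 3)
  have ha3V : a ^ 3 ∈ V := by
    apply hC
    intro v hv
    obtain ⟨k, hk⟩ := ha v hv
    have h1 : MulAut.conj a (e ^ k) = e ^ k := by rw [map_zpow, hae]
    rw [pow_succ, pow_two, map_mul, map_mul, MulAut.mul_apply, MulAut.mul_apply, hk, map_mul, hk, h1, map_mul,
      map_mul, hk, h1, mul_assoc, mul_assoc, ← pow_two, ← pow_succ', h3 _ (zpow_mem he k), mul_one]
  obtain ⟨k, hk⟩ := mem_zpowers_iff.1 hea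
  have h3k : (3 : ℤ) ∣ k := by
    by_contra hnd
    apply haV
    have hcop : IsCoprime (3 : ℤ) k :=
      (Int.prime_three).coprime_iff_not_dvd.2 hnd
    obtain ⟨s, t, hst⟩ := hcop
    have : a = (a ^ 3) ^ s * (a ^ k) ^ t := by
      rw [← zpow_natCast a 3, ← zpow_mul, ← zpow_mul, ← zpow_add]
      push_cast
      rw [mul_comm 3 s, mul_comm k t, hst, zpow_one]
    rw [this]
    exact mul_mem (zpow_mem ha3V _) (zpow_mem (by rw [hk]; exact he) _)
  obtain ⟨k', rfl⟩ := h3k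
  have hez : e * z1 = z1 * e := by
    rw [← hk, zpow_mul]
    have : a ^ (3 : ℤ) = a ^ 3 := by exact_mod_cast rfl
    rw [this]
    exact (show Commute (a ^ 3) z1 from ha3z).zpow_left k'
  apply he1
  apply eq_one_of_sq_cube _ (h3 e he)
  have h1 := hz1u 1 0
  rw [zpow_one, zpow_zero, mul_one, MulAut.conj_apply, ← hez, mul_inv_cancel_right] at h1
  rw [← mul_inv_cancel e, ← h1]

theorem transv_three {V : Subgroup G} [hVn : V.Normal] (hc : ∀ x ∈ V, ∀ y ∈ V, x * y = y * x)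
    (h3 : ∀ v ∈ V, v ^ 3 = 1) (hC : ∀ x : G, (∀ v ∈ V, MulAut.conj x v = v) → x ∈ V) {a a' e f : G}
    (he : e ∈ V) (hf : f ∈ V) (ha : ∀ v ∈ V, ∃ k : ℤ, MulAut.conj a v = v * e ^ k)
    (ha' : ∀ v ∈ V, ∃ k : ℤ, MulAut.conj a' v = v * f ^ k) (hae : MulAut.conj a e = e)
    (ha'f : MulAut.conj a' f = f) (haf : MulAut.conj a f ≠ f) (he1 : e ≠ 1)
    (ha'e : MulAut.conj a' e ≠ e)
    (hea : e ∈ zpowers a) (haV : a ∉ V) : False := by
  obtain ⟨k, hk⟩ := ha f hf
  rcases zpow_three (h3 e he) k with h | h | h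
  · rw [h, mul_one] at hk; exact haf hk
  · rw [h] at hk
    exact transv_three_aux hc h3 hC he hf ha ha' hae ha'f hk he1 ha'e hea haV
  · rw [h] at hk
    refine transv_three_aux hc h3 hC he (inv_mem hf) ha (fun v hv => ?_) hae ?_ ?_ he1 ha'e hea haV
    · obtain ⟨l, hl⟩ := ha' v hv
      exact ⟨-l, by rw [hl, inv_zpow, zpow_neg, inv_inv]⟩
    · rw [map_inv, ha'f]
    · rw [map_inv, hk, mul_inv_rev, inv_inv, hc e he _ (inv_mem hf)]

theorem zpow_two' {x : G} (h : x * x = 1) (k : ℤ) : x ^ k = 1 ∨ x ^ k = x := by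
  have h0 : x ^ (2 : ℤ) = 1 := by rw [zpow_two]; exact h
  have h1 : x ^ k = x ^ (k % 2) := by
    conv_lhs => rw [← Int.emod_add_mul_ediv k 2]
    rw [zpow_add, zpow_mul, h0, one_zpow, mul_one]
  have h2 : k % 2 = 0 ∨ k % 2 = 1 := by omega
  rcases h2 with h2 | h2 <;> rw [h1, h2]
  · left; simp
  · right; simp

theorem transv_two [Finite G] {V : Subgroup G} (hc : ∀ x ∈ V, ∀ y ∈ V, x * y = y * x)
    (h2 : ∀ v ∈ V, v * v = 1) {a a' e f : G}
    (he : e ∈ V) (hf : f ∈ V) (ha : ∀ v ∈ V, ∃ k : ℤ, MulAut.conj a v = v * e ^ k)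
    (ha' : ∀ v ∈ V, ∃ k : ℤ, MulAut.conj a' v = v * f ^ k) (hae : MulAut.conj a e = e)
    (ha'f : MulAut.conj a' f = f) (haf : MulAut.conj a f ≠ f) (ha'e : MulAut.conj a' e ≠ e) :
    Cfsg.Involves (Equiv.Perm (Fin 4)) G := by
  have hef : e * f = f * e := hc e he f hf
  have h1 : MulAut.conj a f = e * f := by
    obtain ⟨k, hk⟩ := ha f hf
    rcases zpow_two' (h2 e he) k with h | h
    · rw [h, mul_one] at hk; exact absurd hk haf
    · rw [hk, h, hef]
  have h3 : MulAut.conj a' e = e * f := by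
    obtain ⟨k, hk⟩ := ha' e he
    rcases zpow_two' (h2 f hf) k with h | h
    · rw [h, mul_one] at hk; exact absurd hk ha'e
    · rw [hk, h]
  have hd1 : MulAut.conj (a * a') e = f := by
    rw [map_mul, MulAut.mul_apply, h3, map_mul, hae, h1, ← mul_assoc, h2 e he, one_mul]
  have hd2 : MulAut.conj (a * a') f = e * f := by
    rw [map_mul, MulAut.mul_apply, ha'f, h1]
  refine Cfsg.Agent.H14.SF.involves_of_four (w := e) (x := f) (a := a) (d := a * a') (h2 e he) (h2 f hf) hef ?_ ?_ ?_ hae h1 hd1 hd2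
  · rintro rfl; exact ha'e (map_one _)
  · rintro rfl; exact haf (map_one _)
  · rintro rfl; exact haf hae

end

section

variable {G : Type u} [Group G]

theorem powp_step {p : ℕ} {V Y Z : Subgroup G} (hc : ∀ x ∈ V, ∀ y ∈ V, x * y = y * x) (hpw : ∀ v ∈ V, v ^ p = 1)
    (hZY : Z ≤ Y) (hYV : Y ≤ V) {x : G} (h1 : ∀ v ∈ V, MulAut.conj x v * v⁻¹ ∈ Y)
    (h2 : ∀ y ∈ Y, MulAut.conj x y * y⁻¹ ∈ Z) : ∀ v ∈ V, MulAut.conj (x ^ p) v * v⁻¹ ∈ Z := by
  intro v hv
  obtain ⟨y, hy⟩ : ∃ y, y = MulAut.conj x v * v⁻¹ := ⟨_, rfl⟩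
  have hyY : y ∈ Y := by rw [hy]; exact h1 v hv
  have hv1 : MulAut.conj x v = v * y := by
    rw [hc v hv y (hYV hyY), hy, inv_mul_cancel_right]
  obtain ⟨z', hz'⟩ : ∃ z', z' = MulAut.conj x y * y⁻¹ := ⟨_, rfl⟩
  have hz'Z : z' ∈ Z := by rw [hz']; exact h2 y hyY
  have hy1 : MulAut.conj x y = y * z' := by
    rw [hc y (hYV hyY) z' (hYV (hZY hz'Z)), hz', inv_mul_cancel_right]
  have key : ∀ i : ℕ, ∃ z ∈ Z, MulAut.conj (x ^ i) v = v * y ^ i * z := by
    intro i
    induction i with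
    | zero => exact ⟨1, one_mem _, by simp⟩
    | succ i ih =>
      obtain ⟨z, hz, h⟩ := ih
      have hz2 : MulAut.conj x z ∈ Z := by
        have := mul_mem (h2 z (hZY hz)) hz
        rwa [inv_mul_cancel_right] at this
      refine ⟨z' ^ i * MulAut.conj x z, mul_mem (pow_mem hz'Z i) hz2, ?_⟩
      have hcm : Commute y z' := hc y (hYV hyY) z' (hYV (hZY hz'Z))
      rw [pow_succ', map_mul, MulAut.mul_apply, h, map_mul, map_mul, map_pow, hv1, hy1, hcm.mul_pow, pow_succ']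
      simp only [mul_assoc]
  obtain ⟨z, hz, h⟩ := key p
  rw [h, hpw y (hYV hyY), mul_one, hc v hv z (hYV (hZY hz)), mul_inv_cancel_right]
  exact hz

theorem mem_of_coprime_pow {V : Subgroup G} {k p : ℕ} (hc : k.Coprime p) {n : G} (h1 : n ^ k ∈ V) (h2 : n ^ p ∈ V) :
    n ∈ V := by
  have h := Nat.gcd_eq_gcd_ab k p
  rw [hc.gcd_eq_one] at h
  have e : n = (n ^ k) ^ (Nat.gcdA k p) * (n ^ p) ^ (Nat.gcdB k p) := by
    rw [← zpow_natCast, ← zpow_natCast, ← zpow_mul, ← zpow_mul, ← zpow_add, ← h]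
    simp
  rw [e]
  exact mul_mem (zpow_mem h1 _) (zpow_mem h2 _)

theorem chain_mem {p : ℕ} {V Y Z : Subgroup G} (hc : ∀ x ∈ V, ∀ y ∈ V, x * y = y * x) (hpw : ∀ v ∈ V, v ^ p = 1)
    (hC : ∀ x : G, (∀ v ∈ V, MulAut.conj x v = v) → x ∈ V)
    (hZY : Z ≤ Y) (hYV : Y ≤ V) {x : G} {m : ℕ} (hm : m.Coprime p) (hxm : x ^ m ∈ V)
    (h1 : ∀ v ∈ V, MulAut.conj x v * v⁻¹ ∈ Y)
    (h2 : ∀ y ∈ Y, MulAut.conj x y * y⁻¹ ∈ Z) (h3 : ∀ z ∈ Z, MulAut.conj x z = z) : x ∈ V := by
  have h4 := powp_step hc hpw hZY hYV h1 h2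
  have h5 : ∀ i : ℕ, ∀ z ∈ Z, MulAut.conj (x ^ i) z = z := by
    intro i z hz
    induction i with
    | zero => simp
    | succ i ih => rw [pow_succ, map_mul, MulAut.mul_apply, h3 z hz, ih]
  have h6 := powp_step (Z := ⊥) (x := x ^ p) hc hpw bot_le (hZY.trans hYV) h4 (fun z hz => by
    rw [h5 p z hz, mul_inv_cancel]; exact one_mem _)
  have h7 : (x ^ p) ^ p ∈ V := by
    apply hC
    intro v hv
    have := Subgroup.mem_bot.1 (h6 v hv)
    rwa [mul_inv_eq_one] at this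
  have h8 : (x ^ p) ∈ V := by
    refine mem_of_coprime_pow hm ?_ h7
    rw [← pow_mul, mul_comm, pow_mul]
    exact pow_mem hxm _
  exact mem_of_coprime_pow hm hxm h8

end

section

variable {G : Type u} [Group G] [Finite G]

theorem transv_core {p : ℕ} [hpf : Fact p.Prime] {V : Subgroup G} [hVn : V.Normal] (hV : Cfsg.IsElementaryAbelian p V)
    (hCV : centralizer (V : Set G) = V) (hO : Cfsg.pCore p (G ⧸ V) = ⊥) (hG : Cfsg.IsPSolvable p G) {a : G}
    (hap : ∃ k : ℕ, a ^ p ^ k = 1) (haV : ∀ v ∈ V, a * v * a⁻¹ * v⁻¹ ∈ zpowers a)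
    (h : p ≠ 2 ∨ ¬ Cfsg.Involves (Equiv.Perm (Fin 4)) G) : a ∈ V := by
  classical
  have hp := hpf.out
  by_contra hna
  have hc : ∀ x ∈ V, ∀ y ∈ V, x * y = y * x := fun x hx y hy =>
    congrArg Subtype.val (hV.1.is_comm.comm ⟨x, hx⟩ ⟨y, hy⟩)
  have hpw : ∀ v ∈ V, v ^ p = 1 := hV.2
  have hC : ∀ x : G, (∀ v ∈ V, MulAut.conj x v = v) → x ∈ V := by
    intro x hx
    rw [← hCV, mem_centralizer_iff]
    intro v hv
    have := hx v hv
    rw [MulAut.conj_apply, mul_inv_eq_iff_eq_mul] at this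
    exact this.symm
  by_cases hp5 : 5 ≤ p
  · have hn : V ≤ normalizer ((zpowers a : Subgroup G) : Set G) := by
      apply le_normalizer_of_conj_mem
      intro v hv x hx
      obtain ⟨k, rfl⟩ := mem_zpowers_iff.1 hx
      have h1 : v * a * v⁻¹ ∈ zpowers a := by
        have h2 := haV v hv
        have h3 : v * a * v⁻¹ = (a⁻¹ * (a * v * a⁻¹ * v⁻¹))⁻¹ := by group
        rw [h3]
        exact inv_mem (mul_mem (inv_mem (mem_zpowers a)) h2)
      have h4 : v * a ^ k * v⁻¹ = (v * a * v⁻¹) ^ k := by rw [conj_zpow]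
      rw [h4]
      exact zpow_mem h1 k
    have h1 : ⁅V, zpowers a⁆ ≤ zpowers a := by
      rw [commutator_comm]
      exact commutator_le_of_le_normalizer hn
    have h2 : ⁅⁅V, zpowers a⁆, zpowers a⁆ = ⊥ := by
      rw [eq_bot_iff]
      refine (commutator_mono h1 le_rfl).trans ?_
      rw [commutator_le]
      rintro x hx y hy
      obtain ⟨k, rfl⟩ := mem_zpowers_iff.1 hx
      obtain ⟨l, rfl⟩ := mem_zpowers_iff.1 hy
      rw [mem_bot, commutatorElement_eq_one_iff_mul_comm, ← zpow_add, ← zpow_add, add_comm]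
    have hVp : IsPGroup p V := by
      rintro ⟨v, hv⟩
      exact ⟨1, Subtype.ext (by simpa using hpw v hv)⟩
    refine H2.not_SLConcl_of_pSolvable hp5 hG (H2.not_stable_normal (G := G) (by omega) _ G V rfl hVp a h2 ?_)
    intro h3
    rw [hCV] at h3
    rw [← H2.mk_mem_pCore_iff, hO, mem_bot] at h3
    exact hna ((QuotientGroup.eq_one_iff a).1 h3)
  -- e
  obtain ⟨v1, hv1, hav1⟩ : ∃ v ∈ V, MulAut.conj a v ≠ v := by
    by_contra hcon
    push Not at hcon
    exact hna (hC a hcon)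
  obtain ⟨e, he⟩ : ∃ e, e = a * v1 * a⁻¹ * v1⁻¹ := ⟨_, rfl⟩
  have hea : e ∈ zpowers a := by rw [he]; exact haV v1 hv1
  have heV : e ∈ V := by rw [he]; exact mul_mem (hVn.conj_mem v1 hv1 a) (inv_mem hv1)
  have he1 : e ≠ 1 := by
    intro h1
    rw [he, mul_inv_eq_one] at h1
    exact hav1 h1
  have hgen : ∀ z ∈ V, z ∈ zpowers a → ∃ k : ℤ, z = e ^ k := by
    obtain ⟨h0, hh0⟩ : ∃ h0 : G, V ⊓ zpowers a = zpowers h0 := by
      haveI : IsCyclic (zpowers a) := inferInstance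
      obtain ⟨⟨g, hg⟩, hg'⟩ := (isCyclic_of_injective (Subgroup.inclusion (inf_le_right : V ⊓ zpowers a ≤ zpowers a))
        (Subgroup.inclusion_injective _)).exists_generator
      refine ⟨g, le_antisymm ?_ (by rwa [zpowers_le])⟩
      intro x hx
      obtain ⟨k, hk⟩ := mem_zpowers_iff.1 (hg' ⟨x, hx⟩)
      exact mem_zpowers_iff.2 ⟨k, congrArg Subtype.val hk⟩
    have h1 : e ∈ zpowers h0 := by rw [← hh0]; exact ⟨heV, hea⟩
    have h0V : h0 ∈ V := by
      have : h0 ∈ V ⊓ zpowers a := by rw [hh0]; exact mem_zpowers h0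
      exact this.1
    have h0p : h0 ^ (p : ℤ) = 1 := by rw [zpow_natCast]; exact hpw h0 h0V
    obtain ⟨m, hm⟩ := mem_zpowers_iff.1 h1
    have hpm : ¬ (p : ℤ) ∣ m := by
      rintro ⟨j, rfl⟩
      rw [zpow_mul, h0p, one_zpow] at hm
      exact he1 hm.symm
    obtain ⟨s, t, hst⟩ := ((Nat.prime_iff_prime_int.1 hp).coprime_iff_not_dvd.2 hpm)
    have h2 : h0 = e ^ t := by
      rw [← hm, ← zpow_mul]
      have : h0 ^ (m * t) = h0 ^ ((p : ℤ) * s + m * t) := by rw [zpow_add, zpow_mul h0 (p : ℤ), h0p, one_zpow, one_mul]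
      rw [this]
      have h3 : (p : ℤ) * s + m * t = 1 := by rw [← hst]; ring
      rw [h3, zpow_one]
    intro z hz hz'
    have h3 : z ∈ zpowers h0 := by rw [← hh0]; exact ⟨hz, hz'⟩
    obtain ⟨l, hl⟩ := mem_zpowers_iff.1 h3
    exact ⟨t * l, by rw [zpow_mul, ← h2, hl]⟩
  have ha : ∀ v ∈ V, ∃ k : ℤ, MulAut.conj a v = v * e ^ k := by
    intro v hv
    obtain ⟨k, hk⟩ := hgen _ (mul_mem (hVn.conj_mem v hv a) (inv_mem hv)) (haV v hv)
    refine ⟨k, ?_⟩
    rw [← hk, MulAut.conj_apply, hc v hv _ (mul_mem (hVn.conj_mem v hv a) (inv_mem hv)), inv_mul_cancel_right]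
  have hae : MulAut.conj a e = e := by
    obtain ⟨k, hk⟩ := mem_zpowers_iff.1 hea
    rw [← hk, MulAut.conj_apply, mul_inv_eq_iff_eq_mul]
    exact (Commute.refl a).zpow_right k
  -- the p'-element
  obtain ⟨g, hgQ, hga⟩ : ∃ g : G, (QuotientGroup.mk' V g) ∈ Cfsg.pPrimeCore p (G ⧸ V) ∧
      QuotientGroup.mk' V g * QuotientGroup.mk' V a ≠ QuotientGroup.mk' V a * QuotientGroup.mk' V g := by
    by_contra hcon
    push Not at hcon
    have h1 : QuotientGroup.mk' V a ∈ Cfsg.pPrimeCore p (G ⧸ V) := by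
      apply centralizer_pPrimeCore_le (isPSolvable_quotient V hG) hO
      rw [mem_centralizer_iff]
      intro x hx
      obtain ⟨g, rfl⟩ := QuotientGroup.mk'_surjective V x
      exact hcon g hx
    have h2 : orderOf (QuotientGroup.mk' V a) ∣ Nat.card (Cfsg.pPrimeCore p (G ⧸ V)) :=
      Subgroup.orderOf_dvd_natCard _ h1
    obtain ⟨k, hk⟩ := hap
    have h3 : orderOf (QuotientGroup.mk' V a) ∣ p ^ k := orderOf_dvd_of_pow_eq_one (by rw [← map_pow, hk, map_one])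
    have h4 : (Nat.card (Cfsg.pPrimeCore p (G ⧸ V))).Coprime (p ^ k) := (H1.pPrimeCore_coprime p _).pow_right k
    have h5 := Nat.eq_one_of_dvd_coprimes h4 h2 h3
    rw [orderOf_eq_one_iff] at h5
    exact hna ((QuotientGroup.eq_one_iff a).1 h5)
  obtain ⟨a', ha'def⟩ : ∃ a', a' = g * a * g⁻¹ := ⟨_, rfl⟩
  obtain ⟨f, hfdef⟩ : ∃ f, f = g * e * g⁻¹ := ⟨_, rfl⟩
  have hfV : f ∈ V := by rw [hfdef]; exact hVn.conj_mem e heV g
  have ha'f : MulAut.conj a' f = f := by
    rw [MulAut.conj_apply] at hae ⊢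
    rw [ha'def, hfdef]
    have : g * a * g⁻¹ * (g * e * g⁻¹) * (g * a * g⁻¹)⁻¹ = g * (a * e * a⁻¹) * g⁻¹ := by group
    rw [this, hae]
  have ha' : ∀ v ∈ V, ∃ k : ℤ, MulAut.conj a' v = v * f ^ k := by
    intro v hv
    obtain ⟨k, hk⟩ := ha (g⁻¹ * v * g) (by simpa using hVn.conj_mem v hv g⁻¹)
    refine ⟨k, ?_⟩
    rw [MulAut.conj_apply] at hk ⊢
    rw [ha'def, hfdef, conj_zpow]
    have : g * a * g⁻¹ * v * (g * a * g⁻¹)⁻¹ = g * (a * (g⁻¹ * v * g) * a⁻¹) * g⁻¹ := by group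
    rw [this, hk]
    group
  obtain ⟨c, hcdef⟩ : ∃ c, c = a' * a⁻¹ := ⟨_, rfl⟩
  have hcV : c ∉ V := by
    intro h1
    apply hga
    have h2 : QuotientGroup.mk' V c = 1 := (QuotientGroup.eq_one_iff c).2 h1
    rw [hcdef, ha'def, map_mul, map_mul, map_mul, map_inv, map_inv, mul_inv_eq_one, mul_inv_eq_iff_eq_mul] at h2
    exact h2
  obtain ⟨m, hm, hcm⟩ : ∃ m : ℕ, m.Coprime p ∧ c ^ m ∈ V := by
    refine ⟨Nat.card (Cfsg.pPrimeCore p (G ⧸ V)), H1.pPrimeCore_coprime p _, ?_⟩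
    have h1 : QuotientGroup.mk' V c ∈ Cfsg.pPrimeCore p (G ⧸ V) := by
      rw [hcdef, ha'def]
      have h2 : g * a * g⁻¹ * a⁻¹ = g * (a * g⁻¹ * a⁻¹) := by group
      rw [h2, map_mul]
      refine mul_mem hgQ ?_
      rw [map_mul, map_mul, map_inv, map_inv]
      exact (inferInstance : (Cfsg.pPrimeCore p (G ⧸ V)).Normal).conj_mem _ (inv_mem hgQ) _
    have h2 : (QuotientGroup.mk' V c) ^ Nat.card (Cfsg.pPrimeCore p (G ⧸ V)) = 1 := by
      have := pow_card_eq_one' (x := (⟨_, h1⟩ : Cfsg.pPrimeCore p (G ⧸ V)))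
      exact congrArg Subtype.val this
    rw [← map_pow] at h2
    exact (QuotientGroup.eq_one_iff _).1 h2
  -- action of a⁻¹
  have hai : ∀ v ∈ V, ∃ k : ℤ, MulAut.conj a⁻¹ v = v * e ^ k := by
    intro v hv
    have h1 : MulAut.conj a⁻¹ v ∈ V := hVn.conj_mem v hv a⁻¹
    obtain ⟨k, hk⟩ := ha _ h1
    have h2 : MulAut.conj a (MulAut.conj a⁻¹ v) = v := by
      rw [← MulAut.mul_apply, ← map_mul, mul_inv_cancel, map_one, MulAut.one_apply]
    rw [h2] at hk
    exact ⟨-k, by rw [hk, zpow_neg, mul_inv_cancel_right]; rw [← hk]⟩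
  have haie : MulAut.conj a⁻¹ e = e := by
    conv_lhs => rw [← hae]
    rw [← MulAut.mul_apply, ← map_mul, inv_mul_cancel, map_one, MulAut.one_apply]
  have hef : e * f = f * e := hc e heV f hfV
  have hYV : zpowers e ⊔ zpowers f ≤ V := sup_le (by rwa [zpowers_le]) (by rwa [zpowers_le])
  have hmemY : ∀ y ∈ zpowers e ⊔ zpowers f, ∃ i j : ℤ, y = e ^ i * f ^ j := by
    intro y hy
    have hn : zpowers f ≤ normalizer ((zpowers e : Subgroup G) : Set G) := by
      refine le_trans ?_ (centralizer_le_normalizer _)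
      intro x hx
      rw [mem_centralizer_iff]
      intro z hz
      exact hc z (hYV (mem_sup_left hz)) x (hYV (mem_sup_right hx))
    obtain ⟨x, hx, z, hz, rfl⟩ := (mem_sup_iff_of_le_normalizer hn).1 hy
    obtain ⟨i, rfl⟩ := mem_zpowers_iff.1 hx
    obtain ⟨j, rfl⟩ := mem_zpowers_iff.1 hz
    exact ⟨i, j, rfl⟩
  have hcapp : ∀ v, MulAut.conj c v = MulAut.conj a' (MulAut.conj a⁻¹ v) := by
    intro v; rw [hcdef, map_mul, MulAut.mul_apply]
  have hcv : ∀ v ∈ V, MulAut.conj c v * v⁻¹ ∈ zpowers e ⊔ zpowers f := by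
    intro v hv
    obtain ⟨k, hk⟩ := hai v hv
    have hkV : v * e ^ k ∈ V := mul_mem hv (zpow_mem heV k)
    obtain ⟨l, hl⟩ := ha' _ hkV
    rw [hcapp, hk, hl]
    have : v * e ^ k * f ^ l * v⁻¹ = e ^ k * f ^ l := by
      rw [mul_assoc v, hc v hv _ (mul_mem (zpow_mem heV k) (zpow_mem hfV l)), mul_inv_cancel_right]
    rw [this]
    exact mul_mem (mem_sup_left (zpow_mem (mem_zpowers e) k)) (mem_sup_right (zpow_mem (mem_zpowers f) l))
  have haf : MulAut.conj a f ≠ f := by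
    intro haf
    have haif : MulAut.conj a⁻¹ f = f := by
      conv_lhs => rw [← haf]
      rw [← MulAut.mul_apply, ← map_mul, inv_mul_cancel, map_one, MulAut.one_apply]
    apply hcV
    refine chain_mem hc hpw hC (Y := zpowers e ⊔ zpowers f) (Z := zpowers f) le_sup_right hYV hm hcm hcv ?_ ?_
    · intro y hy
      obtain ⟨i, j, rfl⟩ := hmemY y hy
      obtain ⟨l, hl⟩ := ha' e heV
      have h1 : MulAut.conj c (e ^ i * f ^ j) = (e * f ^ l) ^ i * f ^ j := by
        rw [hcapp, map_mul, map_zpow, map_zpow, haie, haif, map_mul, map_zpow, map_zpow, hl, ha'f]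
      rw [h1, (show Commute e (f ^ l) from hc e heV _ (zpow_mem hfV l)).mul_zpow]
      have h2 : e ^ i * (f ^ l) ^ i * f ^ j * (e ^ i * f ^ j)⁻¹ = (f ^ l) ^ i := by
        rw [mul_inv_rev]
        have h4 : e ^ i * (f ^ l) ^ i * f ^ j * ((f ^ j)⁻¹ * (e ^ i)⁻¹) = e ^ i * (f ^ l) ^ i * (e ^ i)⁻¹ := by group
        rw [h4, hc _ (zpow_mem heV i) _ (zpow_mem (zpow_mem hfV l) i), mul_inv_cancel_right]
      rw [h2]
      exact zpow_mem (zpow_mem (mem_zpowers f) l) i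
    · intro z hz
      obtain ⟨j, rfl⟩ := mem_zpowers_iff.1 hz
      rw [hcapp, map_zpow, haif, map_zpow, ha'f]
  have ha'e : MulAut.conj a' e ≠ e := by
    intro ha'e
    apply hcV
    refine chain_mem hc hpw hC (Y := zpowers e ⊔ zpowers f) (Z := zpowers e) le_sup_left hYV hm hcm hcv ?_ ?_
    · intro y hy
      obtain ⟨i, j, rfl⟩ := hmemY y hy
      obtain ⟨k, hk⟩ := hai f hfV
      have h1 : MulAut.conj c (e ^ i * f ^ j) = e ^ i * (f * e ^ k) ^ j := by
        rw [hcapp, map_mul, map_zpow, map_zpow, haie, hk, map_mul, map_zpow, map_zpow, ha'e, map_mul, ha'f, map_zpow,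
          ha'e]
      rw [h1, (show Commute f (e ^ k) from hc f hfV _ (zpow_mem heV k)).mul_zpow]
      have h2 : e ^ i * (f ^ j * (e ^ k) ^ j) * (e ^ i * f ^ j)⁻¹ = (e ^ k) ^ j := by
        have h5 := hc _ (zpow_mem hfV j) _ (zpow_mem (zpow_mem heV k) j)
        rw [h5, mul_inv_rev]
        have h4 : e ^ i * ((e ^ k) ^ j * f ^ j) * ((f ^ j)⁻¹ * (e ^ i)⁻¹) = e ^ i * (e ^ k) ^ j * (e ^ i)⁻¹ := by group
        rw [h4, hc _ (zpow_mem heV i) _ (zpow_mem (zpow_mem heV k) j), mul_inv_cancel_right]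
      rw [h2]
      exact zpow_mem (zpow_mem (mem_zpowers e) k) j
    · intro z hz
      obtain ⟨j, rfl⟩ := mem_zpowers_iff.1 hz
      rw [hcapp, map_zpow, haie, map_zpow, ha'e]
  have hp23 : p = 2 ∨ p = 3 := by
    have h2 := hp.two_le
    interval_cases p
    · left; rfl
    · right; rfl
    · exfalso; revert hp; decide
  rcases hp23 with rfl | rfl
  · rcases h with h | h
    · exact h rfl
    · exact h (transv_two hc (fun v hv => by rw [← pow_two]; exact hpw v hv) heV hfV ha ha' hae ha'f haf ha'e)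
  · exact transv_three hc hpw hC heV hfV ha ha' hae ha'f haf he1 ha'e hea hna

end

end Cfsg.Agent.H23
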