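import Mathlib
import Cfsg.Prelude.Def_Transfer
import Cfsg.Agent.H23.Transv3
import Cfsg.Agent.H25.FrobKernel
import Cfsg.Agent.H21.Frob
import Cfsg.Agent.H1.FrobComp

set_option autoImplicit false
set_option linter.all false

/-! # Groups in which the centralizers of all noncentral elements are maximal -/

namespace Cfsg.Agent.H23.MaxCent

open Subgroup Cfsg.Agent.H23
open scoped Pointwise commutatorElement

universe u

section

variable {G : Type u} [Group G]

theorem mem_C {x g : G} : g ∈ centralizer ({x} : Set G) ↔ g * x = x * g := by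
  rw [mem_centralizer_iff]
  constructor
  · intro h; exact (h x (Set.mem_singleton x)).symm
  · intro h y hy; rw [Set.mem_singleton_iff] at hy; rw [hy]; exact h.symm

theorem C_le_of_mem_zpowers {x z : G} (h : x ∈ zpowers z) : centralizer ({z} : Set G) ≤ centralizer ({x} : Set G) := by
  intro g hg
  rw [mem_C] at hg ⊢
  obtain ⟨k, rfl⟩ := mem_zpowers_iff.1 h
  exact (show Commute g z from hg).zpow_right k

theorem exists_primary [Finite G] {K : Subgroup G} : ∀ (n : ℕ) (x : G), orderOf x = n → x ∉ K →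
    ∃ (p : ℕ) (j : ℕ), p.Prime ∧ x ^ j ∉ K ∧ ∃ k : ℕ, (x ^ j) ^ p ^ k = 1 := by
  intro n
  induction n using Nat.strong_induction_on with
  | _ n ih =>
  intro x hx hxK
  have hn1 : n ≠ 1 := by
    rintro rfl
    rw [orderOf_eq_one_iff] at hx
    exact hxK (hx ▸ one_mem K)
  obtain ⟨p, hp, hpn⟩ := Nat.exists_prime_and_dvd hn1
  have hn0 : n ≠ 0 := by rw [← hx]; exact (orderOf_pos x).ne'
  obtain ⟨e, m, hm, hne⟩ := Nat.exists_eq_pow_mul_and_not_dvd hn0 p hp.ne_one
  have he : e ≠ 0 := by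
    rintro rfl
    rw [pow_zero, one_mul] at hne
    exact hm (hne ▸ hpn)
  by_cases h1 : x ^ m ∈ K
  · have h2 : x ^ p ^ e ∉ K := by
      intro h2
      exact hxK (mem_of_coprime_pow (((Nat.Prime.coprime_iff_not_dvd hp).2 hm).symm.pow_right e) h1 h2)
    have h3 : orderOf (x ^ p ^ e) = m := by
      rw [orderOf_pow' x (pow_ne_zero _ hp.ne_zero), hx, hne, Nat.gcd_mul_right_left]
      exact Nat.mul_div_cancel_left _ (pow_pos hp.pos e)
    have hm0 : 0 < m := by
      rcases Nat.eq_zero_or_pos m with h | h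
      · rw [h, mul_zero] at hne; exact absurd hne hn0
      · exact h
    have h4 : m < n := by
      rw [hne]
      exact lt_mul_of_one_lt_left hm0 (Nat.one_lt_pow he hp.one_lt)
    obtain ⟨q, j, hq, hj, k, hk⟩ := ih m h4 _ h3 h2
    refine ⟨q, p ^ e * j, hq, ?_, k, ?_⟩
    · rwa [pow_mul]
    · rwa [pow_mul x]
  · refine ⟨p, m, hp, h1, e, ?_⟩
    rw [← pow_mul, mul_comm, ← hne, ← hx, pow_orderOf_eq_one]

theorem coatom_eq {A B : Subgroup G} (hA : IsCoatom A) (hB : B ≠ ⊤) (hAB : A ≤ B) : A = B := by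
  by_contra hne
  exact hB (hA.2 B (lt_of_le_of_ne hAB hne))

theorem C_ne_top {x : G} (hx : x ∉ center G) : centralizer ({x} : Set G) ≠ ⊤ := by
  intro h
  apply hx
  rw [mem_center_iff]
  intro g
  have : g ∈ centralizer ({x} : Set G) := by rw [h]; exact mem_top g
  exact mem_C.1 this

variable [Finite G]

theorem mem_zpowers_mul {x y : G} (hxy : x * y = y * x) (hcop : (orderOf x).Coprime (orderOf y)) :
    x ∈ zpowers (x * y) := by
  apply mem_of_coprime_pow hcop
  · rw [pow_orderOf_eq_one]; exact one_mem _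
  · have : x ^ orderOf y = (x * y) ^ orderOf y := by
      rw [(show Commute x y from hxy).mul_pow, pow_orderOf_eq_one y, mul_one]
    rw [this]
    exact pow_mem (mem_zpowers _) _

theorem key1 (h : ∀ x : G, x ∉ center G → IsCoatom (centralizer ({x} : Set G))) {x y : G} (hxy : x * y = y * x)
    (hcop : (orderOf x).Coprime (orderOf y)) (hx : x ∉ center G) (hy : y ∉ center G) :
    centralizer ({x} : Set G) = centralizer ({y} : Set G) := by
  have h1 := mem_zpowers_mul hxy hcop
  have h2 : y ∈ zpowers (x * y) := by rw [hxy]; exact mem_zpowers_mul hxy.symm hcop.symm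
  have h3 : x * y ∉ center G := by
    intro h4
    obtain ⟨k, hk⟩ := mem_zpowers_iff.1 h1
    apply hx
    rw [← hk]; exact zpow_mem h4 k
  rw [← coatom_eq (h _ h3) (C_ne_top hx) (C_le_of_mem_zpowers h1),
    ← coatom_eq (h _ h3) (C_ne_top hy) (C_le_of_mem_zpowers h2)]

theorem comm_of (h : ∀ x : G, x ∉ center G → IsCoatom (centralizer ({x} : Set G))) {p : ℕ} (hp : p.Prime) {x y : G}
    (hxy : x * y = y * x) (hxp : ∃ k : ℕ, x ^ p ^ k = 1) (hyp : (orderOf y).Coprime p) (hx : x ∉ center G)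
    (hy : y ∉ center G) : ∀ a ∈ centralizer ({x} : Set G), ∀ b ∈ centralizer ({x} : Set G), a * b = b * a := by
  have copr : ∀ {u : G} {r : ℕ} (w : G), r.Prime → (∃ k : ℕ, u ^ r ^ k = 1) → (orderOf w).Coprime r →
      (orderOf u).Coprime (orderOf w) := by
    rintro u r w hr ⟨k, hk⟩ hw
    exact Nat.Coprime.coprime_dvd_left (orderOf_dvd_of_pow_eq_one hk) (hw.pow_right k).symm
  have hCxy : centralizer ({x} : Set G) = centralizer ({y} : Set G) := key1 h hxy (copr y hp hxp hyp) hx hy
  have key : ∀ (r : ℕ) (u : G), r.Prime → (∃ k : ℕ, u ^ r ^ k = 1) → u ∈ centralizer ({x} : Set G) → u ∉ center G →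
      centralizer ({u} : Set G) = centralizer ({x} : Set G) := by
    intro r u hr hur hux hu
    by_cases hrp : r = p
    · subst hrp
      rw [hCxy] at hux ⊢
      exact key1 h (mem_C.1 hux) (copr y hr hur hyp) hu hy
    · refine key1 h (mem_C.1 hux) (copr x hr hur ?_) hu hx
      obtain ⟨k, hk⟩ := hxp
      exact Nat.Coprime.coprime_dvd_left (orderOf_dvd_of_pow_eq_one hk)
        (Nat.Coprime.pow_left k ((Nat.coprime_primes hp hr).2 (Ne.symm hrp)))
  intro a ha b hb
  by_contra hab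
  have h1 : a ∉ centralizer ({b} : Set G) := fun h1 => hab (mem_C.1 h1)
  obtain ⟨r, j, hr, hj, hk⟩ := exists_primary _ a rfl h1
  have h2 : a ^ j ∉ center G := by
    intro h3
    apply hj
    rw [mem_C]
    exact (mem_center_iff.1 h3 b).symm
  have h3 := key r _ hr hk (pow_mem ha j) h2
  apply hj
  rw [← h3] at hb
  rw [mem_C] at hb ⊢
  exact hb.symm

omit [Finite G] in
theorem nil_of (K : Subgroup G) (p : ℕ) [Fact p.Prime] [Finite G] (hK : ∀ g ∈ K, ∃ k : ℕ, g ^ p ^ k ∈ center G) :
    Group.IsNilpotent K := by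
  let f : K →* G ⧸ center G := (QuotientGroup.mk' (center G)).comp K.subtype
  have h1 : IsPGroup p f.range := by
    rintro ⟨_, ⟨⟨g, hg⟩, rfl⟩⟩
    obtain ⟨k, hk⟩ := hK g hg
    refine ⟨k, Subtype.ext ?_⟩
    show (QuotientGroup.mk' (center G) g) ^ p ^ k = 1
    rw [← map_pow]
    exact (QuotientGroup.eq_one_iff _).2 hk
  haveI : Group.IsNilpotent f.range := h1.isNilpotent
  refine Subgroup.isNilpotent_of_ker_le_center f.rangeRestrict ?_
  intro g hg
  rw [MonoidHom.ker_rangeRestrict, MonoidHom.mem_ker] at hg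
  have h2 : (g : G) ∈ center G := (QuotientGroup.eq_one_iff _).1 hg
  rw [mem_center_iff]
  intro a
  exact Subtype.ext (mem_center_iff.1 h2 a)

omit [Finite G] in
theorem exists_second {M : Type u} [Group M] (hn : Group.IsNilpotent M) (hna : ∃ a b : M, a * b ≠ b * a) :
    ∃ y : M, y ∉ center M ∧ ∀ m : M, ⁅y, m⁆ ∈ center M := by
  by_contra hcon
  push Not at hcon
  obtain ⟨n, hn⟩ := hn.nilpotent'
  have key : ∀ n, Subgroup.upperCentralSeries M n ≤ center M := by
    intro n
    induction n with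
    | zero => rw [Subgroup.upperCentralSeries_zero]; exact bot_le
    | succ n ih =>
      intro y hy
      by_contra hyc
      obtain ⟨m, hm⟩ := hcon y hyc
      exact hm (ih (Subgroup.mem_upperCentralSeries_succ_iff.1 hy m))
  obtain ⟨a, b, hab⟩ := hna
  apply hab
  have h1 := key n
  rw [hn] at h1
  exact (mem_center_iff.1 (h1 (mem_top a)) b).symm

omit [Finite G] in
theorem exists_normalizing {L T : Subgroup G} (hL : Group.IsNilpotent L) (hTL : T < L) :
    ∃ g ∈ L, g ∉ T ∧ g ∈ normalizer (T : Set G) := by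
  haveI := hL
  have h1 : T.subgroupOf L < ⊤ := by
    rw [lt_top_iff_ne_top]
    intro h
    rw [subgroupOf_eq_top] at h
    exact absurd h (not_le_of_gt hTL)
  have h2 := Group.normalizerCondition_of_isNilpotent (G := L) _ h1
  obtain ⟨⟨g, hg⟩, hg1, hg2⟩ := SetLike.exists_of_lt h2
  refine ⟨g, hg, fun h => hg2 h, ?_⟩
  rw [mem_normalizer_iff] at hg1 ⊢
  intro t
  constructor
  · intro ht
    exact (hg1 ⟨t, hTL.le ht⟩).1 ht
  · intro ht
    have htL : t ∈ L := by
      have := L.mul_mem (L.mul_mem (L.inv_mem hg) (hTL.le ht)) hg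
      have e : g⁻¹ * (g * t * g⁻¹) * g = t := by group
      rwa [e] at this
    exact (hg1 ⟨t, htL⟩).2 ht

theorem comm_of_not_normal (h : ∀ x : G, x ∉ center G → IsCoatom (centralizer ({x} : Set G))) {p : ℕ} (hp : p.Prime)
    {x : G} (hxp : ∃ k : ℕ, x ^ p ^ k = 1) (hx : x ∉ center G) (hn : ¬ (centralizer ({x} : Set G)).Normal) :
    ∀ a ∈ centralizer ({x} : Set G), ∀ b ∈ centralizer ({x} : Set G), a * b = b * a := by
  haveI : Fact p.Prime := ⟨hp⟩
  by_cases hA : ∃ y ∈ centralizer ({x} : Set G), (orderOf y).Coprime p ∧ y ∉ center G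
  · obtain ⟨y, hy, hyp, hyc⟩ := hA
    exact comm_of h hp (mem_C.1 hy).symm hxp hyp hx hyc
  push Not at hA
  by_contra hcon
  push Not at hcon
  obtain ⟨a0, ha0, b0, hb0, hab0⟩ := hcon
  set M := centralizer ({x} : Set G) with hM
  have hMc := h x hx
  have hppart : ∀ (K : Subgroup G), (∀ y ∈ K, (orderOf y).Coprime p → y ∈ center G) →
      ∀ g ∈ K, ∃ k : ℕ, g ^ p ^ k ∈ center G := by
    intro K hK g hg
    obtain ⟨e, m, hm, hne⟩ := Nat.exists_eq_pow_mul_and_not_dvd (orderOf_pos g).ne' p hp.ne_one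
    refine ⟨e, hK _ (pow_mem hg _) ?_⟩
    have : orderOf (g ^ p ^ e) ∣ m := orderOf_dvd_of_pow_eq_one (by rw [← pow_mul, ← hne, pow_orderOf_eq_one])
    exact Nat.Coprime.coprime_dvd_left this ((Nat.Prime.coprime_iff_not_dvd hp).2 hm).symm
  have hMnil : Group.IsNilpotent M := nil_of M p (hppart M hA)
  obtain ⟨⟨y, hyM⟩, hy1, hy2⟩ := exists_second hMnil ⟨⟨a0, ha0⟩, ⟨b0, hb0⟩, fun h => hab0 (congrArg Subtype.val h)⟩
  -- a p-element
  have hyK : y ∉ centralizer (M : Set G) := by
    intro h1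
    apply hy1
    rw [mem_center_iff]
    rintro ⟨m, hm⟩
    exact Subtype.ext (mem_centralizer_iff.1 h1 m hm)
  obtain ⟨r, j, hr, hj, k, hk⟩ := exists_primary _ y rfl hyK
  have hcenK : center G ≤ centralizer (M : Set G) := by
    intro z hz
    rw [mem_centralizer_iff]
    intro m _
    exact mem_center_iff.1 hz m
  have hrp : r = p := by
    by_contra hrp
    apply hj
    apply hcenK
    apply hA _ (pow_mem hyM j)
    exact Nat.Coprime.coprime_dvd_left (orderOf_dvd_of_pow_eq_one hk)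
      (Nat.Coprime.pow_left k ((Nat.coprime_primes hr hp).2 hrp))
  subst hrp
  obtain ⟨y1, hy1def⟩ : ∃ y1, y1 = y ^ j := ⟨_, rfl⟩
  rw [← hy1def] at hj hk
  have hy1M : y1 ∈ M := by rw [hy1def]; exact pow_mem hyM j
  have hy1c : y1 ∉ center G := fun h1 => hj (hcenK h1)
  -- [m, y1] commutes with M
  have hcommM : ∀ m ∈ M, ∀ t ∈ M, t * (m * y1 * m⁻¹ * y1⁻¹) = (m * y1 * m⁻¹ * y1⁻¹) * t := by
    intro m hm t ht
    have h1 := hy2 ⟨m, hm⟩
    have h2 : ∀ s ∈ M, s * (y * m * y⁻¹ * m⁻¹) = (y * m * y⁻¹ * m⁻¹) * s := by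
      intro s hs
      have := mem_center_iff.1 h1 ⟨s, hs⟩
      exact congrArg Subtype.val this
    obtain ⟨z, hz⟩ : ∃ z, z = m * y * m⁻¹ * y⁻¹ := ⟨_, rfl⟩
    have hzc : ∀ s ∈ M, s * z = z * s := by
      intro s hs
      have h3 : z = (y * m * y⁻¹ * m⁻¹)⁻¹ := by rw [hz]; group
      rw [h3]
      exact ((show Commute s _ from h2 s hs).inv_right)
    have h4 : m * y * m⁻¹ = z * y := by rw [hz]; group
    have h5 : m * y1 * m⁻¹ * y1⁻¹ = z ^ j := by
      rw [hy1def, mul_inv_eq_iff_eq_mul, ← conj_pow, h4]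
      exact (show Commute z y from (hzc y hyM).symm).mul_pow j
    rw [h5]
    exact (show Commute t z from hzc t ht).pow_right j
  set L := centralizer ({y1} : Set G) with hL
  have hLc := h y1 hy1c
  have hLM : ¬ M ≤ L := by
    intro h1
    apply hj
    rw [mem_centralizer_iff]
    intro m hm
    exact mem_C.1 (h1 hm)
  have hLM' : ¬ L ≤ M := by
    intro h1
    exact hLM (coatom_eq hLc hMc.1 h1).ge
  have hxM : x ∈ M := mem_C.2 rfl
  have hxL : x ∈ L := by
    rw [hL, mem_C]; exact (mem_C.1 hy1M).symm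
  have hAL : ∀ u ∈ L, (orderOf u).Coprime r → u ∈ center G := by
    intro u hu hur
    by_contra huc
    have h1 := comm_of h hr (mem_C.1 hu).symm ⟨k, hk⟩ hur hy1c huc
    exact hLM' (fun g hg => mem_C.2 (h1 g hg x hxL))
  have hLnil : Group.IsNilpotent L := nil_of L r (hppart L hAL)
  set T := M ⊓ L with hT
  have hTL : T < L := lt_of_le_of_ne inf_le_right (fun h1 => hLM' (by rw [← h1]; exact inf_le_left))
  have hMT : M ≤ normalizer (T : Set G) := by
    apply le_normalizer_of_conj_mem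
    intro m hm t ht
    obtain ⟨ht1, ht2⟩ := mem_inf.1 ht
    refine mem_inf.2 ⟨M.mul_mem (M.mul_mem hm ht1) (M.inv_mem hm), ?_⟩
    rw [hL, mem_C] at ht2 ⊢
    -- t commutes with m⁻¹ y1 m
    have h1 : t * (m⁻¹ * y1 * m) = (m⁻¹ * y1 * m) * t := by
      have h2 := hcommM m⁻¹ (inv_mem hm) t ht1
      rw [inv_inv] at h2
      have h3 : m⁻¹ * y1 * m = (m⁻¹ * y1 * m * y1⁻¹) * y1 := by rw [inv_mul_cancel_right]
      rw [h3]
      exact (show Commute t _ from h2).mul_right ht2
    have h2 : m * t * m⁻¹ * y1 = m * (t * (m⁻¹ * y1 * m)) * m⁻¹ := by group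
    rw [h2, h1]
    group
  obtain ⟨g, hgL, hgT, hgN⟩ := exists_normalizing hLnil hTL
  have hTn : T.Normal := by
    rw [← normalizer_eq_top_iff]
    by_contra hne
    have h1 := coatom_eq hMc hne hMT
    refine hgT (mem_inf.2 ⟨?_, hgL⟩)
    rw [hM, h1]; exact hgN
  haveI := hTn
  have hAn : (T ⊓ centralizer (T : Set G)).Normal := inferInstance
  set A := T ⊓ centralizer (T : Set G) with hAdef
  have hxA : x ∈ A := by
    refine mem_inf.2 ⟨mem_inf.2 ⟨hxM, hxL⟩, ?_⟩
    rw [mem_centralizer_iff]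
    intro t ht
    exact mem_C.1 ht.1
  -- a noncentral p'-element
  obtain ⟨w, hwp, hwc⟩ : ∃ w : G, (orderOf w).Coprime r ∧ w ∉ center G := by
    by_contra hcon
    push Not at hcon
    have h1 : Group.IsNilpotent (⊤ : Subgroup G) := nil_of ⊤ r (hppart ⊤ fun y _ hy => hcon y hy)
    have h2 : Group.IsNilpotent G := Group.nilpotent_of_mulEquiv Subgroup.topEquiv
    exact hn (NormalizerCondition.normal_of_coatom M (Group.normalizerCondition_of_isNilpotent (h := h2)) hMc)
  have hxw : x ∉ centralizer ({w} : Set G) := by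
    intro h1
    exact hwc (hA w (mem_C.2 (mem_C.1 h1).symm) hwp)
  have hAw : A ⊔ centralizer ({w} : Set G) = ⊤ := by
    apply (h w hwc).2
    refine lt_of_le_of_ne le_sup_right fun h1 => hxw ?_
    rw [h1]
    exact mem_sup_left hxA
  have hwM : ∀ m ∈ M, m ∈ centralizer ({w} : Set G) → m ∈ center G := by
    intro m hm hmw
    by_contra hmc
    obtain ⟨s, i, hs, hi, l, hl⟩ := exists_primary _ m rfl hmc
    have h1 : s = r := by
      by_contra hsr
      apply hi
      apply hA _ (pow_mem hm i)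
      exact Nat.Coprime.coprime_dvd_left (orderOf_dvd_of_pow_eq_one hl)
        (Nat.Coprime.pow_left l ((Nat.coprime_primes hs hr).2 hsr))
    subst h1
    have h2 : (orderOf (m ^ i)).Coprime (orderOf w) :=
      Nat.Coprime.coprime_dvd_left (orderOf_dvd_of_pow_eq_one hl) (hwp.pow_right l).symm
    have h3 := key1 h (mem_C.1 (pow_mem hmw i)) h2 hi hwc
    apply hxw
    rw [← h3, mem_C]
    exact (mem_C.1 (pow_mem hm i)).symm
  have hdec : ∀ m ∈ M, ∃ a ∈ A, ∃ c ∈ center G, a * c = m := by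
    intro m hm
    have h1 : m ∈ A ⊔ centralizer ({w} : Set G) := by rw [hAw]; exact mem_top m
    obtain ⟨a, ha, c, hc, rfl⟩ := (mem_sup_iff_of_le_normalizer (by rw [normalizer_eq_top]; exact le_top)).1 h1
    refine ⟨a, ha, c, ?_, rfl⟩
    apply hwM c _ hc
    have := M.mul_mem (M.inv_mem (ha.1.1 : a ∈ M)) hm
    rwa [inv_mul_cancel_left] at this
  obtain ⟨a, ha, c, hc, h1⟩ := hdec a0 ha0
  obtain ⟨a', ha', c', hc', h2⟩ := hdec b0 hb0
  apply hab0
  rw [← h1, ← h2]
  have h3 : a * a' = a' * a := mem_centralizer_iff.1 ha'.2 a ha.1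
  have h4 := mem_center_iff.1 hc
  have h5 := mem_center_iff.1 hc'
  calc a * c * (a' * c') = a * (c * a') * c' := by simp only [mul_assoc]
    _ = a * (a' * c) * c' := by rw [h4 a']
    _ = (a * a') * (c * c') := by simp only [mul_assoc]
    _ = (a' * a) * (c' * c) := by rw [h3, h4 c']
    _ = a' * (a * c') * c := by simp only [mul_assoc]
    _ = a' * (c' * a) * c := by rw [h5 a]
    _ = a' * c' * (a * c) := by simp only [mul_assoc]

theorem normal_case (h : ∀ x : G, x ∉ center G → IsCoatom (centralizer ({x} : Set G)))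
    (hn : ∀ x : G, x ∉ center G → (centralizer ({x} : Set G)).Normal) (hna : ∃ x : G, x ∉ center G) :
    ∃ p : ℕ, p.Prime ∧ Cfsg.IsElementaryAbelian p (⊤ : Subgroup (G ⧸ center G)) := by
  -- each noncentral x has a prime power in the center
  have hab : ∀ x : G, x ∉ center G → ∃ r : ℕ, r.Prime ∧ (∀ n : G, n ^ r ∈ centralizer ({x} : Set G)) ∧
      ∀ a b : G, ⁅a, b⁆ ∈ centralizer ({x} : Set G) := by
    intro x hx
    haveI := hn x hx
    set C := centralizer ({x} : Set G) with hC
    have hc := h x hx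
    obtain ⟨g, -, hg⟩ := SetLike.exists_of_lt (lt_top_iff_ne_top.2 hc.1)
    obtain ⟨r, j, hr, hj, k, hk⟩ := exists_primary _ g rfl hg
    -- choose the last power outside C
    obtain ⟨g1, hg1, hg1r⟩ : ∃ g1 : G, g1 ∉ C ∧ g1 ^ r ∈ C := by
      have hex : ∃ l : ℕ, (g ^ j) ^ r ^ l ∈ C := ⟨k, by rw [hk]; exact one_mem _⟩
      classical
      have h0 : Nat.find hex ≠ 0 := by
        intro h0
        have := Nat.find_spec hex
        rw [h0, pow_zero, pow_one] at this
        exact hj this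
      obtain ⟨l, hl⟩ := Nat.exists_eq_succ_of_ne_zero h0
      refine ⟨(g ^ j) ^ r ^ l, Nat.find_min hex (m := l) (by omega), ?_⟩
      have := Nat.find_spec hex
      rw [hl] at this
      rw [← pow_mul, ← pow_succ]
      exact this
    have hsup : C ⊔ zpowers g1 = ⊤ := by
      apply hc.2
      refine lt_of_le_of_ne le_sup_left fun h1 => hg1 ?_
      exact h1.ge (mem_sup_right (mem_zpowers g1))
    have hdec : ∀ n : G, ∃ c ∈ C, ∃ i : ℤ, c * g1 ^ i = n := by
      intro n
      have h1 : n ∈ C ⊔ zpowers g1 := by rw [hsup]; exact mem_top n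
      obtain ⟨c, hc, z, hz, rfl⟩ := (mem_sup_iff_of_le_normalizer (by rw [normalizer_eq_top]; exact le_top)).1 h1
      obtain ⟨i, rfl⟩ := mem_zpowers_iff.1 hz
      exact ⟨c, hc, i, rfl⟩
    let f := QuotientGroup.mk' C
    have hf : ∀ n : G, ∃ i : ℤ, f n = f g1 ^ i := by
      intro n
      obtain ⟨c, hc, i, rfl⟩ := hdec n
      refine ⟨i, ?_⟩
      rw [map_mul, map_zpow]
      have : f c = 1 := (QuotientGroup.eq_one_iff c).2 hc
      rw [this, one_mul]
    refine ⟨r, hr, ?_, ?_⟩
    · intro n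
      obtain ⟨i, hi⟩ := hf n
      have h1 : f (n ^ r) = 1 := by
        rw [map_pow, hi, ← zpow_natCast, ← zpow_mul, mul_comm, zpow_mul, zpow_natCast, ← map_pow]
        have : f (g1 ^ r) = 1 := (QuotientGroup.eq_one_iff _).2 hg1r
        rw [this, one_zpow]
      exact (QuotientGroup.eq_one_iff _).1 h1
    · intro a b
      obtain ⟨i, hi⟩ := hf a
      obtain ⟨l, hl⟩ := hf b
      have h1 : f ⁅a, b⁆ = 1 := by
        rw [map_commutatorElement, commutatorElement_eq_one_iff_mul_comm, hi, hl, ← zpow_add, ← zpow_add, add_comm]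
      exact (QuotientGroup.eq_one_iff _).1 h1
  have hcc : ∀ a b : G, ⁅a, b⁆ ∈ center G := by
    intro a b
    rw [mem_center_iff]
    intro g
    by_cases hg : g ∈ center G
    · exact (mem_center_iff.1 hg _).symm
    · obtain ⟨r, hr, h1, h2⟩ := hab g hg
      exact (mem_C.1 (h2 a b)).symm
  have hpow : ∀ x : G, x ∉ center G → ∃ r : ℕ, r.Prime ∧ x ^ r ∈ center G := by
    intro x hx
    obtain ⟨r, hr, h1, -⟩ := hab x hx
    refine ⟨r, hr, ?_⟩
    rw [mem_center_iff]
    intro n
    have h2 := mem_C.1 (h1 n)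
    -- [x, n] central
    obtain ⟨z, hz⟩ : ∃ z, z = ⁅x, n⁆ := ⟨_, rfl⟩
    have hzc : ∀ g : G, g * z = z * g := by rw [hz]; exact mem_center_iff.1 (hcc x n)
    have h3 : x * n * x⁻¹ = z * n := by rw [hz, commutatorElement_def]; group
    have h4 : n * x * n⁻¹ = z⁻¹ * x := by
      have : n * x = z⁻¹ * x * n := by
        have h5 : x * n = z * n * x := by rw [← h3]; group
        rw [mul_assoc z⁻¹, h5]; group
      rw [this, mul_inv_cancel_right]
    have h5 : x * n ^ r * x⁻¹ = z ^ r * n ^ r := by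
      rw [← conj_pow, h3]
      exact (show Commute z n from (hzc n).symm).mul_pow r
    have h6 : z ^ r = 1 := by
      have : x * n ^ r * x⁻¹ = n ^ r := by rw [← h2, mul_inv_cancel_right]
      rw [this] at h5
      exact (mul_eq_right.1 h5.symm)
    have h7 : n * x ^ r * n⁻¹ = x ^ r := by
      rw [← conj_pow, h4, (show Commute z⁻¹ x from ((show Commute z x from (hzc x).symm).inv_left)).mul_pow, inv_pow, h6,
        inv_one, one_mul]
    rw [mul_inv_eq_iff_eq_mul] at h7
    exact h7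
  obtain ⟨x0, hx0⟩ := hna
  obtain ⟨p, hp, hx0p⟩ := hpow x0 hx0
  let f := QuotientGroup.mk' (center G)
  have hf1 : ∀ {x : G}, f x = 1 ↔ x ∈ center G := fun {x} => QuotientGroup.eq_one_iff x
  have hcomm : ∀ a b : G, f a * f b = f b * f a := by
    intro a b
    have h1 : f ⁅a, b⁆ = 1 := hf1.2 (hcc a b)
    rwa [map_commutatorElement, commutatorElement_eq_one_iff_mul_comm] at h1
  -- prime orders in the quotient
  have key : ∀ {x : G} {r s : ℕ}, r.Prime → x ∉ center G → x ^ r ∈ center G → x ^ s ∈ center G → r ∣ s := by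
    intro x r s hr hx h1 h2
    by_contra hnd
    exact hx (mem_of_coprime_pow (((Nat.Prime.coprime_iff_not_dvd hr).2 hnd)) h1 h2)
  refine ⟨p, hp, ?_, ?_⟩
  · constructor
    constructor
    rintro ⟨a, _⟩ ⟨b, _⟩
    obtain ⟨a, rfl⟩ := QuotientGroup.mk'_surjective (center G) a
    obtain ⟨b, rfl⟩ := QuotientGroup.mk'_surjective (center G) b
    exact Subtype.ext (hcomm a b)
  · intro a _
    obtain ⟨y, rfl⟩ := QuotientGroup.mk'_surjective (center G) a
    show (f y) ^ p = 1
    rw [← map_pow]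
    rw [hf1]
    by_contra hyp
    have hy : y ∉ center G := fun h1 => hyp (pow_mem h1 p)
    obtain ⟨r, hr, hyr⟩ := hpow y hy
    have hrp : r ≠ p := by rintro rfl; exact hyp hyr
    have hxy : x0 * y ∉ center G := by
      intro h1
      -- y ≡ x0⁻¹
      apply hyp
      rw [← hf1, map_mul] at h1
      rw [← hf1, map_pow, eq_inv_of_mul_eq_one_right h1, inv_pow, ← map_pow, hf1.2 hx0p, inv_one]
    obtain ⟨s, hs, hs1⟩ := hpow _ hxy
    have e1 : ∀ m : ℕ, f ((x0 * y) ^ m) = f x0 ^ m * f y ^ m := by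
      intro m
      rw [map_pow, map_mul]
      exact (show Commute (f x0) (f y) from hcomm _ _).mul_pow m
    have hps : p ∣ s := by
      have h1 : x0 ^ (s * r) ∈ center G := by
        rw [← hf1, map_pow, pow_mul]
        have h2 := e1 s
        rw [hf1.2 hs1] at h2
        have h3 : (f x0 ^ s) ^ r * (f y ^ s) ^ r = 1 := by
          rw [← (show Commute (f x0 ^ s) (f y ^ s) from ((show Commute (f x0) (f y) from hcomm _ _).pow_pow s s)).mul_pow,
            ← h2, one_pow]
        have h4 : (f y ^ s) ^ r = 1 := by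
          rw [← pow_mul, mul_comm, pow_mul, ← map_pow, hf1.2 hyr, one_pow]
        rwa [h4, mul_one] at h3
      have h2 := key hp hx0 hx0p h1
      rcases (Nat.Prime.dvd_mul hp).1 h2 with h3 | h3
      · exact h3
      · exact absurd ((Nat.prime_dvd_prime_iff_eq hp hr).1 h3).symm hrp
    have hrs : r ∣ s := by
      have h1 : y ^ (s * p) ∈ center G := by
        rw [← hf1, map_pow, pow_mul]
        have h2 := e1 s
        rw [hf1.2 hs1] at h2
        have h3 : (f x0 ^ s) ^ p * (f y ^ s) ^ p = 1 := by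
          rw [← (show Commute (f x0 ^ s) (f y ^ s) from ((show Commute (f x0) (f y) from hcomm _ _).pow_pow s s)).mul_pow,
            ← h2, one_pow]
        have h4 : (f x0 ^ s) ^ p = 1 := by
          rw [← pow_mul, mul_comm, pow_mul, ← map_pow, hf1.2 hx0p, one_pow]
        rwa [h4, one_mul] at h3
      have h2 := key hr hy hyr h1
      rcases (Nat.Prime.dvd_mul hr).1 h2 with h3 | h3
      · exact h3
      · exact absurd ((Nat.prime_dvd_prime_iff_eq hr hp).1 h3) hrp
    have h1 := (Nat.prime_dvd_prime_iff_eq hp hs).1 hps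
    have h2 := (Nat.prime_dvd_prime_iff_eq hr hs).1 hrs
    exact hrp (h2.trans h1.symm)

theorem frob_case (h : ∀ x : G, x ∉ center G → IsCoatom (centralizer ({x} : Set G)))
    (hn : ∃ x : G, x ∉ center G ∧ ¬ (centralizer ({x} : Set G)).Normal) :
    ∃ (M K : Subgroup (G ⧸ center G)) (r q : ℕ), r.Prime ∧ q.Prime ∧ r ≠ q ∧ Cfsg.IsFrobeniusComplement M ∧
      IsCoatom M ∧ K.Normal ∧ (K : Set (G ⧸ center G)) = Cfsg.frobeniusKernel M ∧ IsComplement' K M ∧
      Nat.card M = q ∧ IsPGroup r K ∧ Cfsg.IsElementaryAbelian r K := by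
  classical
  -- a noncentral primary element with nonnormal centralizer
  obtain ⟨x, p, hp, hxp, hx, hxn⟩ : ∃ (x : G) (p : ℕ), p.Prime ∧ (∃ k : ℕ, x ^ p ^ k = 1) ∧ x ∉ center G ∧
      ¬ (centralizer ({x} : Set G)).Normal := by
    obtain ⟨x, hx, hxn⟩ := hn
    obtain ⟨p, j, hp, hj, k, hk⟩ := exists_primary _ x rfl hx
    refine ⟨x ^ j, p, hp, ⟨k, hk⟩, hj, ?_⟩
    rw [← coatom_eq (h x hx) (C_ne_top hj) (C_le_of_mem_zpowers (pow_mem (mem_zpowers x) j))]
    exact hxn
  have hMcomm := comm_of_not_normal h hp hxp hx hxn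
  set M0 := centralizer ({x} : Set G) with hM0
  have hM0c := h x hx
  have hCw : ∀ w ∈ M0, w ∉ center G → centralizer ({w} : Set G) = M0 := by
    intro w hw hwc
    exact (coatom_eq hM0c (C_ne_top hwc) (fun g hg => mem_C.2 (hMcomm g hg w hw))).symm
  have hZM : center G ≤ M0 := by
    intro z hz
    rw [hM0, mem_C]
    exact (mem_center_iff.1 hz x).symm
  have hM0n : normalizer (M0 : Set G) = M0 := by
    by_contra hne
    apply hxn
    rw [← normalizer_eq_top_iff]
    by_contra h1
    exact hne (coatom_eq hM0c h1 le_normalizer).symm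
  set f := QuotientGroup.mk' (center G) with hf
  have hfs : Function.Surjective f := QuotientGroup.mk'_surjective _
  have hf1 : ∀ {x : G}, f x = 1 ↔ x ∈ center G := fun {x} => QuotientGroup.eq_one_iff x
  set M := M0.map f with hM
  have hmemM : ∀ {g : G}, f g ∈ M ↔ g ∈ M0 := by
    intro g
    constructor
    · rintro ⟨m, hm, hmg⟩
      have h1 : m⁻¹ * g ∈ center G := by rw [← hf1, map_mul, map_inv, hmg, inv_mul_cancel]
      have := mul_mem hm (hZM h1)
      rwa [mul_inv_cancel_left] at this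
    · exact fun hg => mem_map_of_mem f hg
  have hMtop : M ≠ ⊤ := by
    intro h1
    apply hM0c.1
    rw [eq_top_iff]
    intro g _
    rw [← hmemM, h1]; exact mem_top _
  have hFC : Cfsg.IsFrobeniusComplement M := by
    refine ⟨?_, hMtop, ?_⟩
    · intro h1
      have h2 : f x ∈ M := hmemM.2 (mem_C.2 rfl)
      rw [h1, mem_bot, hf1] at h2
      exact hx h2
    · intro g' hg'
      obtain ⟨g, rfl⟩ := hfs g'
      rw [hmemM] at hg'
      rw [eq_bot_iff]
      rintro w' ⟨hw1, hw2⟩
      obtain ⟨w, rfl⟩ := hfs w'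
      rw [mem_bot, hf1]
      by_contra hwc
      have hw1 : w ∈ M0 := hmemM.1 hw1
      obtain ⟨v', hv', hv2⟩ := hw2
      obtain ⟨v, rfl⟩ := hfs v'
      have hv : v ∈ M0 := hmemM.1 hv'
      have hv2 : f (g * v * g⁻¹) = f w := by
        rw [← hv2]
        simp [MulAut.conj_apply]
      obtain ⟨z, hz, hzw⟩ : ∃ z ∈ center G, w = g * v * g⁻¹ * z := by
        refine ⟨(g * v * g⁻¹)⁻¹ * w, ?_, by rw [mul_inv_cancel_left]⟩
        rw [← hf1, map_mul, map_inv, hv2, inv_mul_cancel]
      have hzc := mem_center_iff.1 hz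
      have hvc : v ∉ center G := by
        intro h1
        apply hwc
        rw [hzw]
        exact mul_mem ((inferInstance : (center G).Normal).conj_mem v h1 g) hz
      apply hg'
      rw [← hM0n]
      rw [mem_normalizer_iff]
      have e1 := hCw w hw1 hwc
      have e2 := hCw v hv hvc
      intro m
      constructor
      · intro hm
        have hm : m ∈ M0 := hm
        show g * m * g⁻¹ ∈ M0
        rw [← e1, mem_C, hzw]
        have h3 : m * v = v * m := hMcomm m hm v hv
        calc g * m * g⁻¹ * (g * v * g⁻¹ * z) = g * (m * v) * g⁻¹ * z := by group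
          _ = g * (v * m) * g⁻¹ * z := by rw [h3]
          _ = g * v * g⁻¹ * (g * m * g⁻¹ * z) := by group
          _ = g * v * g⁻¹ * (z * (g * m * g⁻¹)) := by rw [hzc]
          _ = g * v * g⁻¹ * z * (g * m * g⁻¹) := by group
      · intro hm
        have hm : g * m * g⁻¹ ∈ M0 := hm
        show m ∈ M0
        rw [← e2, mem_C]
        have h3 : (g * m * g⁻¹) * w = w * (g * m * g⁻¹) := hMcomm _ hm w hw1
        rw [hzw] at h3
        have h4 : g * (m * v) * g⁻¹ * z = g * (v * m) * g⁻¹ * z := by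
          calc g * (m * v) * g⁻¹ * z = g * m * g⁻¹ * (g * v * g⁻¹ * z) := by group
            _ = g * v * g⁻¹ * z * (g * m * g⁻¹) := h3
            _ = g * v * g⁻¹ * (z * (g * m * g⁻¹)) := by group
            _ = g * v * g⁻¹ * (g * m * g⁻¹ * z) := by rw [hzc]
            _ = _ := by group
        have h5 := mul_right_cancel (mul_right_cancel h4)
        exact mul_left_cancel h5
  have hMcoatom : IsCoatom M := by
    refine ⟨hMtop, fun S hS => ?_⟩
    have h1 : M0 < S.comap f := by
      refine lt_of_le_of_ne (fun m hm => hS.le (hmemM.2 hm)) fun h1 => ?_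
      obtain ⟨s, hs, hsM⟩ := SetLike.exists_of_lt hS
      obtain ⟨s, rfl⟩ := hfs s
      apply hsM
      rw [hmemM, h1]
      exact hs
    have h2 := hM0c.2 _ h1
    rw [eq_top_iff]
    intro s _
    obtain ⟨s, rfl⟩ := hfs s
    have : s ∈ S.comap f := by rw [h2]; exact mem_top s
    exact this
  obtain ⟨K, hKset, hKn, hKcomp⟩ := Cfsg.Agent.H25.frobenius_kernel hFC
  have hKM : K ⊓ M = ⊥ := hKcomp.disjoint.eq_bot
  have hKne : K ≠ ⊥ := by
    intro h1
    have h2 := hKcomp.sup_eq_top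
    rw [h1, bot_sup_eq] at h2
    exact hMtop h2
  have hcardcop : (Nat.card M).Coprime (Nat.card K) := by
    have h1 := H1.frob_coprime hFC
    rwa [hKcomp.index_eq_card] at h1
  have hMabel : ∀ a ∈ M, ∀ b ∈ M, a * b = b * a := by
    rintro _ ⟨a, ha, rfl⟩ _ ⟨b, hb, rfl⟩
    rw [← map_mul, ← map_mul, hMcomm a ha b hb]
  have hMsol : Group.IsSolvable M := by
    haveI : IsMulCommutative M := ⟨⟨fun a b => Subtype.ext (hMabel _ a.2 _ b.2)⟩⟩
    exact isSolvable_of_comm (fun a b => Subtype.ext (hMabel _ a.2 _ b.2))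
  -- M-invariant subgroups of K
  have hinv : ∀ R : Subgroup (G ⧸ center G), R ≤ K → R ≠ ⊥ → M ≤ normalizer (R : Set (G ⧸ center G)) → R = K := by
    intro R hRK hR1 hRM
    have h1 : R ⊔ M = ⊤ := by
      apply hMcoatom.2
      refine lt_of_le_of_ne le_sup_right fun h2 => hR1 ?_
      rw [eq_bot_iff, ← hKM]
      exact le_inf hRK (by rw [h2]; exact le_sup_left)
    apply le_antisymm hRK
    intro k hk
    have h2 : k ∈ R ⊔ M := by rw [h1]; exact mem_top k
    obtain ⟨r, hr, m, hm, rfl⟩ := (mem_sup_iff_of_le_normalizer hRM).1 h2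
    have h3 : m ∈ K ⊓ M := by
      refine mem_inf.2 ⟨?_, hm⟩
      have := K.mul_mem (K.inv_mem (hRK hr)) hk
      rwa [inv_mul_cancel_left] at this
    rw [hKM, mem_bot] at h3
    rw [h3, mul_one]; exact hr
  obtain ⟨r, hr, hrK⟩ := Nat.exists_prime_and_dvd (fun h1 => hKne (Subgroup.card_eq_one.1 h1) : Nat.card K ≠ 1)
  haveI : Fact r.Prime := ⟨hr⟩
  have hKr : IsPGroup r K := by
    obtain ⟨R, hR, hRM⟩ := exists_invariant_sylow (A := M) (G := K) (by rw [normalizer_eq_top]; exact le_top) hcardcop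
      (Or.inl hMsol) r
    have h1 : R ≠ ⊥ := by
      rintro rfl
      have h2 := hR.not_dvd
      rw [relIndex_bot_left] at h2
      exact h2 hrK
    rw [← hinv R hR.le h1 hRM]
    exact hR.isPGroup
  have hKsol : Group.IsSolvable K := by
    haveI := hKr.isNilpotent
    infer_instance
  obtain ⟨hKcomm, r', hr', hKr', hKexp⟩ := H1.minimal_normal_solvable hKn hKne (fun N hN hNK => by
    by_cases h1 : N = ⊥
    · exact Or.inl h1
    · exact Or.inr (hinv N hNK h1 (by haveI := hN; rw [normalizer_eq_top]; exact le_top))) hKsol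
  have hrr' : r' = r := by
    obtain ⟨⟨y, hy⟩, hy1⟩ := exists_prime_orderOf_dvd_card' r hrK
    have h1 : orderOf y ∣ r' := orderOf_dvd_of_pow_eq_one (hKexp y hy)
    rw [← Subgroup.orderOf_coe] at hy1
    rw [show ((⟨y, hy⟩ : K) : G ⧸ center G) = y from rfl] at hy1
    rw [hy1] at h1
    exact ((Nat.prime_dvd_prime_iff_eq hr hr').1 h1).symm
  subst hrr'
  -- K is a coatom
  have hKcoatom : IsCoatom K := by
    obtain ⟨⟨k', hk'⟩, hk1⟩ := (ne_bot_iff_exists_ne_one (H := K)).1 hKne
    obtain ⟨k, rfl⟩ := hfs k'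
    have hk1 : f k ≠ 1 := fun h1 => hk1 (Subtype.ext h1)
    have hkc : k ∉ center G := fun h1 => hk1 (hf1.2 h1)
    have h1 : centralizer ({k} : Set G) ≤ K.comap f := by
      intro c hc
      rw [mem_C] at hc
      show f c ∈ K
      by_contra hcK
      have hcK' : f c ∉ Cfsg.frobeniusKernel M := by rw [← hKset]; exact hcK
      obtain ⟨hc1, g, hg⟩ := H21.frob_not_mem_kernel hcK'
      have h2 : (g⁻¹ * f k * g) * (g⁻¹ * f c * g) = (g⁻¹ * f c * g) * (g⁻¹ * f k * g) := by
        have h3 : f k * f c = f c * f k := by rw [← map_mul, ← map_mul, hc]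
        calc (g⁻¹ * f k * g) * (g⁻¹ * f c * g) = g⁻¹ * (f k * f c) * g := by group
          _ = g⁻¹ * (f c * f k) * g := by rw [h3]
          _ = _ := by group
      have h4 : g⁻¹ * f c * g ≠ 1 := by
        intro h5
        apply hc1
        have : f c = g * (g⁻¹ * f c * g) * g⁻¹ := by group
        rw [this, h5]; group
      have h5 := H21.frob_commute_mem hFC hg h4 h2
      have h6 : g⁻¹ * f k * g ∈ K ⊓ M := by
        refine mem_inf.2 ⟨?_, h5⟩
        have := hKn.conj_mem _ hk' g⁻¹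
        rwa [inv_inv] at this
      rw [hKM, mem_bot] at h6
      apply hk1
      have : f k = g * (g⁻¹ * f k * g) * g⁻¹ := by group
      rw [this, h6]; group
    have hKtop : K ≠ ⊤ := by
      intro h2
      rw [h2, top_inf_eq] at hKM
      exact hFC.1 hKM
    have h2 : K.comap f ≠ ⊤ := by
      intro h3
      apply hKtop
      rw [eq_top_iff]
      intro s _
      obtain ⟨s, rfl⟩ := hfs s
      have : s ∈ K.comap f := by rw [h3]; exact mem_top s
      exact this
    have h3 := coatom_eq (h k hkc) h2 h1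
    refine ⟨hKtop, fun S hS => ?_⟩
    have h4 : K.comap f < S.comap f := by
      refine lt_of_le_of_ne (comap_mono hS.le) fun h5 => hS.ne ?_
      exact comap_injective hfs h5
    have h5 := (h k hkc).2 (S.comap f) (by rw [h3]; exact h4)
    rw [eq_top_iff]
    intro s _
    obtain ⟨s, rfl⟩ := hfs s
    have : s ∈ S.comap f := by rw [h5]; exact mem_top s
    exact this
  -- M has prime order
  obtain ⟨q, hq, hqM⟩ := Nat.exists_prime_and_dvd (fun h1 => hFC.1 (Subgroup.card_eq_one.1 h1) : Nat.card M ≠ 1)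
  haveI : Fact q.Prime := ⟨hq⟩
  obtain ⟨⟨m, hmM⟩, hmq⟩ := exists_prime_orderOf_dvd_card' q hqM
  rw [← Subgroup.orderOf_coe] at hmq
  have hmq : orderOf m = q := hmq
  have hm1 : m ≠ 1 := by
    rintro rfl
    rw [orderOf_one] at hmq
    exact hq.one_lt.ne hmq
  have hMz : M = zpowers m := by
    apply le_antisymm _ (by rwa [zpowers_le])
    have h1 : K ⊔ zpowers m = ⊤ := by
      apply hKcoatom.2
      refine lt_of_le_of_ne le_sup_left fun h2 => hm1 ?_
      have h3 : m ∈ K ⊓ M := mem_inf.2 ⟨by rw [h2]; exact mem_sup_right (mem_zpowers m), hmM⟩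
      rwa [hKM, mem_bot] at h3
    intro w hw
    have h2 : w ∈ K ⊔ zpowers m := by rw [h1]; exact mem_top w
    obtain ⟨k, hk, z, hz, rfl⟩ := (mem_sup_iff_of_le_normalizer (by rw [normalizer_eq_top]; exact le_top)).1 h2
    have hzM : z ∈ M := by
      obtain ⟨i, rfl⟩ := mem_zpowers_iff.1 hz
      exact zpow_mem hmM i
    have h3 : k ∈ K ⊓ M := by
      refine mem_inf.2 ⟨hk, ?_⟩
      have := M.mul_mem hw (M.inv_mem hzM)
      rwa [mul_inv_cancel_right] at this
    rw [hKM, mem_bot] at h3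
    rw [h3, one_mul]; exact hz
  have hMq : Nat.card M = q := by rw [hMz, Nat.card_zpowers, hmq]
  refine ⟨M, K, r', q, hr, hq, ?_, hFC, hMcoatom, hKn, hKset, hKcomp, hMq, hKr, ⟨hKcomm, hKexp⟩⟩
  rintro rfl
  rw [hMq] at hcardcop
  exact (Nat.Prime.coprime_iff_not_dvd hr).1 hcardcop hrK

end

end Cfsg.Agent.H23.MaxCent
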