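import Mathlib
import Cfsg.Agent.H23.MaxCent
import Cfsg.Agent.H2.NPCFun3
import Cfsg.Agent.H2.ZJe
import Cfsg.Agent.H2.Hall
import Cfsg.Agent.H2.NComp
import Cfsg.Agent.H13.MaxInv
import Cfsg.Agent.S0117

set_option autoImplicit false
set_option linter.all false

/-! # Normal subgroups whose noncentral elements have maximal centralizers -/

namespace Cfsg.Agent.H23.MCN

open Subgroup Cfsg.Agent.H23 Cfsg.Agent.H23.MaxCent
open scoped Pointwise commutatorElement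

universe u

variable {G : Type u} [Group G]

/-- centralizers of elements of `N` outside the centre are maximal -/
def Hyp (N : Subgroup G) : Prop :=
  ∀ x : G, x ∈ N → x ∉ centralizer (N : Set G) → IsCoatom (centralizer ({x} : Set G))

section
variable {N : Subgroup G}

theorem C_eq_of_le (h : Hyp N) {x y : G} (hx : x ∈ N) (hxc : x ∉ centralizer (N : Set G)) (hy : y ∈ N)
    (hyc : y ∉ centralizer (N : Set G)) (hle : centralizer ({x} : Set G) ≤ centralizer ({y} : Set G)) :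
    centralizer ({x} : Set G) = centralizer ({y} : Set G) :=
  coatom_eq (h x hx hxc) (h y hy hyc).1 hle

theorem Z_le_C {x : G} (hx : x ∈ N) : centralizer (N : Set G) ≤ centralizer ({x} : Set G) :=
  centralizer_le (by rw [Set.singleton_subset_iff]; exact hx)

theorem not_le_C {x : G} (hxc : x ∉ centralizer (N : Set G)) : ¬ N ≤ centralizer ({x} : Set G) := by
  intro h1
  apply hxc
  rw [mem_centralizer_iff]
  intro n hn
  exact mem_C.1 (h1 hn)

variable [Finite G]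

theorem key1 (h : Hyp N) {x y : G} (hxy : x * y = y * x)
    (hcop : (orderOf x).Coprime (orderOf y)) (hx : x ∈ N) (hxc : x ∉ centralizer (N : Set G))
    (hy : y ∈ N) (hyc : y ∉ centralizer (N : Set G)) :
    centralizer ({x} : Set G) = centralizer ({y} : Set G) := by
  have h1 := mem_zpowers_mul hxy hcop
  have h2 : y ∈ zpowers (x * y) := by rw [hxy]; exact mem_zpowers_mul hxy.symm hcop.symm
  have h3 : x * y ∉ centralizer (N : Set G) := by
    intro h4
    obtain ⟨k, hk⟩ := mem_zpowers_iff.1 h1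
    apply hxc
    rw [← hk]; exact zpow_mem h4 k
  rw [← C_eq_of_le h (N.mul_mem hx hy) h3 hx hxc (C_le_of_mem_zpowers h1),
    ← C_eq_of_le h (N.mul_mem hx hy) h3 hy hyc (C_le_of_mem_zpowers h2)]

theorem copr {u w : G} {r : ℕ} (hu : ∃ k : ℕ, u ^ r ^ k = 1) (hw : (orderOf w).Coprime r) :
    (orderOf u).Coprime (orderOf w) := by
  obtain ⟨k, hk⟩ := hu
  exact Nat.Coprime.coprime_dvd_left (orderOf_dvd_of_pow_eq_one hk) (hw.pow_right k).symm

omit [Finite G] in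
theorem copr' {u : G} {r p : ℕ} (hr : r.Prime) (hp : p.Prime) (hrp : r ≠ p) (hu : ∃ k : ℕ, u ^ r ^ k = 1) :
    (orderOf u).Coprime p := by
  obtain ⟨k, hk⟩ := hu
  exact Nat.Coprime.coprime_dvd_left (orderOf_dvd_of_pow_eq_one hk)
    (Nat.Coprime.pow_left k ((Nat.coprime_primes hr hp).2 hrp))

/-- the dichotomy for the centralizer of a `p`-element -/
theorem dich (h : Hyp N) {p : ℕ} (hp : p.Prime) {x : G} (hxp : ∃ k : ℕ, x ^ p ^ k = 1) (hx : x ∈ N)
    (hxc : x ∉ centralizer (N : Set G)) :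
    (∀ w ∈ N, w ∈ centralizer ({x} : Set G) → w ∉ centralizer (N : Set G) →
      centralizer ({w} : Set G) = centralizer ({x} : Set G)) ∨
    (∀ y ∈ N, y ∈ centralizer ({x} : Set G) → (orderOf y).Coprime p → y ∈ centralizer (N : Set G)) := by
  by_cases hA : ∀ y ∈ N, y ∈ centralizer ({x} : Set G) → (orderOf y).Coprime p → y ∈ centralizer (N : Set G)
  · exact Or.inr hA
  left
  push Not at hA
  obtain ⟨y, hyN, hyx, hyp, hyc⟩ := hA
  have hCxy := key1 h (mem_C.1 hyx).symm (copr hxp hyp) hx hxc hyN hyc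
  intro w hw hwx hwc
  obtain ⟨r, j, hr, hj, k, hk⟩ := exists_primary _ w rfl hwc
  have hwj : w ^ j ∈ N := pow_mem hw j
  rw [C_eq_of_le h hw hwc hwj hj (C_le_of_mem_zpowers (pow_mem (mem_zpowers w) j))]
  have hwx' := pow_mem hwx j
  by_cases hrp : r = p
  · subst hrp
    rw [hCxy] at hwx' ⊢
    exact key1 h (mem_C.1 hwx') (copr ⟨k, hk⟩ hyp) hwj hj hyN hyc
  · exact key1 h (mem_C.1 hwx') (copr hxp (copr' hr hp hrp ⟨k, hk⟩)).symm hwj hj hx hxc

omit [Finite G] in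
theorem ppart {p : ℕ} (hp : p.Prime) {K Z : Subgroup G} [Finite G] (hK : ∀ y ∈ K, (orderOf y).Coprime p → y ∈ Z) :
    ∀ g ∈ K, ∃ k : ℕ, g ^ p ^ k ∈ Z := by
  intro g hg
  obtain ⟨e, m, hm, hne⟩ := Nat.exists_eq_pow_mul_and_not_dvd (orderOf_pos g).ne' p hp.ne_one
  refine ⟨e, hK _ (pow_mem hg _) ?_⟩
  have : orderOf (g ^ p ^ e) ∣ m := orderOf_dvd_of_pow_eq_one (by rw [← pow_mul, ← hne, pow_orderOf_eq_one])
  exact Nat.Coprime.coprime_dvd_left this ((Nat.Prime.coprime_iff_not_dvd hp).2 hm).symm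

theorem nil_of' [N.Normal] (K : Subgroup G) (hKN : K ≤ N) (p : ℕ) [Fact p.Prime]
    (hK : ∀ g ∈ K, ∃ k : ℕ, g ^ p ^ k ∈ centralizer (N : Set G)) : Group.IsNilpotent K := by
  let f : K →* G ⧸ centralizer (N : Set G) := (QuotientGroup.mk' (centralizer (N : Set G))).comp K.subtype
  have h1 : IsPGroup p f.range := by
    rintro ⟨_, ⟨⟨g, hg⟩, rfl⟩⟩
    obtain ⟨k, hk⟩ := hK g hg
    refine ⟨k, Subtype.ext ?_⟩
    show (QuotientGroup.mk' (centralizer (N : Set G)) g) ^ p ^ k = 1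
    rw [← map_pow]
    exact (QuotientGroup.eq_one_iff _).2 hk
  haveI : Group.IsNilpotent f.range := h1.isNilpotent
  refine Subgroup.isNilpotent_of_ker_le_center f.rangeRestrict ?_
  intro g hg
  rw [MonoidHom.ker_rangeRestrict, MonoidHom.mem_ker] at hg
  have h2 : (g : G) ∈ centralizer (N : Set G) := (QuotientGroup.eq_one_iff _).1 hg
  rw [mem_center_iff]
  intro a
  exact Subtype.ext (mem_centralizer_iff.1 h2 a (hKN a.2))

theorem nilD [N.Normal] (h : Hyp N) {p : ℕ} [Fact p.Prime] {x : G} (hxp : ∃ k : ℕ, x ^ p ^ k = 1) (hx : x ∈ N)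
    (hxc : x ∉ centralizer (N : Set G)) : Group.IsNilpotent (N ⊓ centralizer ({x} : Set G) : Subgroup G) := by
  have hp : p.Prime := Fact.out
  rcases dich h hp hxp hx hxc with h1 | h1
  · have hcomm : ∀ a b : (N ⊓ centralizer ({x} : Set G) : Subgroup G), a * b = b * a := by
      rintro ⟨a, ha⟩ ⟨b, hb⟩
      apply Subtype.ext
      show a * b = b * a
      obtain ⟨ha1, ha2⟩ := mem_inf.1 ha
      obtain ⟨hb1, hb2⟩ := mem_inf.1 hb
      by_cases hbc : b ∈ centralizer (N : Set G)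
      · exact mem_centralizer_iff.1 hbc a ha1
      · rw [← h1 b hb1 hb2 hbc] at ha2
        exact mem_C.1 ha2
    haveI : IsMulCommutative (N ⊓ centralizer ({x} : Set G) : Subgroup G) := ⟨⟨hcomm⟩⟩
    letI : CommGroup (N ⊓ centralizer ({x} : Set G) : Subgroup G) := { mul_comm := hcomm }
    exact CommGroup.isNilpotent
  · exact nil_of' _ inf_le_left p (ppart hp (fun y hy hyp => h1 y (mem_inf.1 hy).1 (mem_inf.1 hy).2 hyp))

/-- the `p`-elements of a nilpotent subgroup form a subgroup -/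
theorem exists_pels (p : ℕ) [hp : Fact p.Prime] {D : Subgroup G} (hD : Group.IsNilpotent D) :
    ∃ P : Subgroup G, ∀ g, g ∈ P ↔ g ∈ D ∧ ∃ k : ℕ, g ^ p ^ k = 1 := by
  obtain ⟨S⟩ : Nonempty (Sylow p D) := inferInstance
  haveI := hD
  have hS : (S : Subgroup D).Normal := Sylow.normal_of_normalizerCondition Group.normalizerCondition_of_isNilpotent S
  refine ⟨(S : Subgroup D).map D.subtype, fun g => ⟨?_, ?_⟩⟩
  · rintro ⟨⟨d, hd⟩, hdS, rfl⟩
    refine ⟨hd, ?_⟩
    obtain ⟨k, hk⟩ := S.2 ⟨⟨d, hd⟩, hdS⟩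
    refine ⟨k, ?_⟩
    have := congrArg (fun z : (S : Subgroup D) => ((z : D) : G)) hk
    simpa using this
  · rintro ⟨hg, k, hk⟩
    refine ⟨⟨g, hg⟩, ?_, rfl⟩
    have hz : IsPGroup p (zpowers (⟨g, hg⟩ : D)) := by
      rintro ⟨_, ⟨i, rfl⟩⟩
      refine ⟨k, Subtype.ext (Subtype.ext ?_)⟩
      show ((((⟨g, hg⟩ : D) ^ i) ^ p ^ k : D) : G) = 1
      push_cast
      rw [← zpow_natCast, zpow_comm, zpow_natCast]
      push_cast
      rw [hk, one_zpow]
    obtain ⟨T, hT⟩ := hz.exists_le_sylow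
    have hTS : T = S := by
      haveI := Sylow.unique_of_normal S hS
      exact Subsingleton.elim _ _
    rw [← hTS]
    exact hT (mem_zpowers _)


omit [Finite G] in
theorem conj_pels {p : ℕ} {D P : Subgroup G} (hP : ∀ g, g ∈ P ↔ g ∈ D ∧ ∃ k : ℕ, g ^ p ^ k = 1) {m : G}
    (hm : ∀ g ∈ D, m * g * m⁻¹ ∈ D) : ∀ g ∈ P, m * g * m⁻¹ ∈ P := by
  intro g hg
  obtain ⟨h1, k, hk⟩ := (hP g).1 hg
  refine (hP _).2 ⟨hm g h1, k, ?_⟩
  rw [conj_pow, hk, mul_one, mul_inv_cancel]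

omit [Finite G] in
theorem pels_isPGroup {p : ℕ} {D P : Subgroup G} (hP : ∀ g, g ∈ P ↔ g ∈ D ∧ ∃ k : ℕ, g ^ p ^ k = 1) :
    IsPGroup p P := by
  rintro ⟨g, hg⟩
  obtain ⟨-, k, hk⟩ := (hP g).1 hg
  exact ⟨k, Subtype.ext hk⟩

omit [Finite G] in
theorem C_conj_N [N.Normal] {x m : G} (hm : m ∈ centralizer ({x} : Set G)) :
    ∀ g ∈ (N ⊓ centralizer ({x} : Set G) : Subgroup G), m * g * m⁻¹ ∈ (N ⊓ centralizer ({x} : Set G) : Subgroup G) := by
  intro g hg
  obtain ⟨h1, h2⟩ := mem_inf.1 hg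
  exact mem_inf.2 ⟨(inferInstance : N.Normal).conj_mem g h1 m,
    (centralizer ({x} : Set G)).mul_mem ((centralizer ({x} : Set G)).mul_mem hm h2) ((centralizer ({x} : Set G)).inv_mem hm)⟩

omit [Finite G] in
theorem norm_eq (h : Hyp N) {x : G} (hx : x ∈ N) (hxc : x ∉ centralizer (N : Set G)) {W : Subgroup G}
    (hW : ∀ m ∈ centralizer ({x} : Set G), ∀ g ∈ W, m * g * m⁻¹ ∈ W) (hWn : ¬ W.Normal) :
    normalizer (W : Set G) = centralizer ({x} : Set G) := by
  refine (coatom_eq (h x hx hxc) ?_ (le_normalizer_of_conj_mem hW)).symm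
  intro h1
  exact hWn (normalizer_eq_top_iff.1 h1)

theorem sylN [N.Normal] (h : Hyp N) {p : ℕ} [hp : Fact p.Prime] {x : G} (hx : x ∈ N) (hxc : x ∉ centralizer (N : Set G))
    {P : Subgroup G} (hP : ∀ g, g ∈ P ↔ g ∈ (N ⊓ centralizer ({x} : Set G) : Subgroup G) ∧ ∃ k : ℕ, g ^ p ^ k = 1)
    (hPn : ¬ P.Normal) : (∀ S : Subgroup G, S ≤ N → IsPGroup p S → P ≤ S → S = P) ∧ IsSylowOf p P N := by
  have hN := norm_eq h hx hxc (fun m hm => conj_pels hP (C_conj_N hm)) hPn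
  have h1 : ∀ S : Subgroup G, S ≤ N → IsPGroup p S → P ≤ S → S = P := by
    intro S hSN hS hPS
    by_contra hne
    obtain ⟨g, hgS, hgP, hgn⟩ := exists_normalizing hS.isNilpotent (lt_of_le_of_ne hPS (Ne.symm hne))
    apply hgP
    rw [hN] at hgn
    obtain ⟨k, hk⟩ := hS ⟨g, hgS⟩
    exact (hP g).2 ⟨mem_inf.2 ⟨hSN hgS, hgn⟩, k, congrArg Subtype.val hk⟩
  refine ⟨h1, ?_⟩
  obtain ⟨S, hS, hPS⟩ := exists_isSylowOf_ge (fun g hg => (mem_inf.1 ((hP g).1 hg).1).1 : P ≤ N) (pels_isPGroup hP)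
  rwa [h1 S hS.le hS.isPGroup hPS] at hS

/-- under (β) no `p`-element commutes with a `p'`-element, outside the centre -/
theorem no_mixed [N.Normal] (h : Hyp N) {p : ℕ} [hp : Fact p.Prime] {x : G} (hx : x ∈ N)
    (hxc : x ∉ centralizer (N : Set G)) (hβ : ∀ y ∈ N, y ∈ centralizer ({x} : Set G) → (orderOf y).Coprime p → y ∈ centralizer (N : Set G))
    {P : Subgroup G} (hP : ∀ g, g ∈ P ↔ g ∈ (N ⊓ centralizer ({x} : Set G) : Subgroup G) ∧ ∃ k : ℕ, g ^ p ^ k = 1)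
    (hS : IsSylowOf p P N) {u k : G} (hu : u ∈ N) (huc : u ∉ centralizer (N : Set G)) (hup : ∃ l : ℕ, u ^ p ^ l = 1)
    (hk : k ∈ N) (hkp : (orderOf k).Coprime p) (huk : u * k = k * u) : k ∈ centralizer (N : Set G) := by
  by_contra hkc
  have hz : IsPGroup p (zpowers u) := by
    obtain ⟨l, hl⟩ := hup
    rintro ⟨_, ⟨i, rfl⟩⟩
    refine ⟨l, Subtype.ext ?_⟩
    show (u ^ i) ^ p ^ l = 1
    rw [← zpow_natCast, zpow_comm, zpow_natCast, hl, one_zpow]
  obtain ⟨T, hT, hTu⟩ := exists_isSylowOf_ge (by rwa [zpowers_le] : zpowers u ≤ N) hz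
  obtain ⟨n, hn, hnT⟩ := hT.exists_conj hS
  have huP : n * u * n⁻¹ ∈ P := by
    rw [← hnT]
    exact smul_mem_pointwise_smul u (MulAut.conj n) T (hTu (mem_zpowers u))
  have hZn : (centralizer (N : Set G)).Normal := inferInstance
  have hu'c : n * u * n⁻¹ ∉ centralizer (N : Set G) := by
    intro h1
    apply huc
    have := hZn.conj_mem _ h1 n⁻¹
    have e : n⁻¹ * (n * u * n⁻¹) * n⁻¹⁻¹ = u := by group
    rwa [e] at this
  have hk'c : n * k * n⁻¹ ∉ centralizer (N : Set G) := by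
    intro h1
    apply hkc
    have := hZn.conj_mem _ h1 n⁻¹
    have e : n⁻¹ * (n * k * n⁻¹) * n⁻¹⁻¹ = k := by group
    rwa [e] at this
  have hNn : N.Normal := inferInstance
  have hkp' : (orderOf (n * k * n⁻¹)).Coprime p := by
    have h1 : orderOf (n * k * n⁻¹) = orderOf k := by
      have := orderOf_injective (MulAut.conj n).toMonoidHom (MulAut.conj n).injective k
      simpa [MulAut.conj_apply] using this
    rwa [h1]
  have hup' : ∃ l : ℕ, (n * u * n⁻¹) ^ p ^ l = 1 := by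
    obtain ⟨l, hl⟩ := hup
    exact ⟨l, by rw [conj_pow, hl, mul_one, mul_inv_cancel]⟩
  have h1 := key1 h (x := n * u * n⁻¹) (y := n * k * n⁻¹) (by
      calc n * u * n⁻¹ * (n * k * n⁻¹) = n * (u * k) * n⁻¹ := by group
        _ = n * (k * u) * n⁻¹ := by rw [huk]
        _ = _ := by group) (copr hup' hkp') (hNn.conj_mem u hu n) hu'c (hNn.conj_mem k hk n) hk'c
  have h2 : x ∈ centralizer ({n * u * n⁻¹} : Set G) := by
    have := (mem_inf.1 ((hP _).1 huP).1).2
    exact mem_C.2 (mem_C.1 this).symm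
  rw [h1] at h2
  exact hk'c (hβ _ (hNn.conj_mem k hk n) (mem_C.2 (mem_C.1 h2).symm) hkp')

theorem sup_C (h : Hyp N) {x : G} (hx : x ∈ N) (hxc : x ∉ centralizer (N : Set G)) {V : Subgroup G}
    (hV : ¬ V ≤ centralizer ({x} : Set G)) : V ⊔ centralizer ({x} : Set G) = ⊤ := by
  apply (h x hx hxc).2
  refine lt_of_le_of_ne le_sup_right fun h1 => hV ?_
  rw [h1]; exact le_sup_left

theorem dec_C (h : Hyp N) {x : G} (hx : x ∈ N) (hxc : x ∉ centralizer (N : Set G)) {V : Subgroup G} (hVn : V.Normal)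
    (hV : ¬ V ≤ centralizer ({x} : Set G)) (g : G) : ∃ v ∈ V, ∃ m ∈ centralizer ({x} : Set G), v * m = g := by
  have h1 : g ∈ V ⊔ centralizer ({x} : Set G) := by rw [sup_C h hx hxc hV]; exact mem_top g
  exact (mem_sup_iff_of_le_normalizer (by rw [normalizer_eq_top]; exact le_top)).1 h1

theorem qcase [N.Normal] (h : Hyp N) {p q : ℕ} [hp : Fact p.Prime] (hq : q.Prime) (hqp : q ≠ p) {x : G} (hx : x ∈ N)
    (hxc : x ∉ centralizer (N : Set G)) (hβ : ∀ y ∈ N, y ∈ centralizer ({x} : Set G) → (orderOf y).Coprime p → y ∈ centralizer (N : Set G))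
    {P : Subgroup G} (hP : ∀ g, g ∈ P ↔ g ∈ (N ⊓ centralizer ({x} : Set G) : Subgroup G) ∧ ∃ k : ℕ, g ^ p ^ k = 1)
    (hPn : ¬ P.Normal) {V : Subgroup G} (hVn : V.Normal) (hVN : V ≤ N) (hVq : IsPGroup q V)
    (hVc : ¬ V ≤ centralizer (N : Set G)) {y : G} (hyP : y ∈ P) (hyc : y ∉ centralizer (N : Set G)) :
    centralizer ({y} : Set G) = centralizer ({x} : Set G) := by
  haveI : Fact q.Prime := ⟨hq⟩
  obtain ⟨-, hS⟩ := sylN h hx hxc hP hPn
  have hyN : y ∈ N := hS.le hyP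
  have hVq' : ∀ v ∈ V, (orderOf v).Coprime p := by
    intro v hv
    obtain ⟨k, hk⟩ := hVq ⟨v, hv⟩
    exact copr' hq hp.out hqp ⟨k, congrArg Subtype.val hk⟩
  have hVM : ¬ V ≤ centralizer ({x} : Set G) := by
    intro h1
    apply hVc
    intro v hv
    exact hβ v (hVN hv) (h1 hv) (hVq' v hv)
  refine (C_eq_of_le h hyN hyc hx hxc ?_)
  intro g hg
  obtain ⟨v, hv, m, hm, rfl⟩ := dec_C h hx hxc hVn hVM g
  obtain ⟨y', hy'⟩ : ∃ y', y' = m * y * m⁻¹ := ⟨_, rfl⟩
  have hy'P : y' ∈ P := by rw [hy']; exact conj_pels hP (C_conj_N hm) y hyP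
  have hy'c : y' ∉ centralizer (N : Set G) := by
    intro h1
    apply hyc
    have := (inferInstance : (centralizer (N : Set G)).Normal).conj_mem _ h1 m⁻¹
    have e : m⁻¹ * y' * m⁻¹⁻¹ = y := by rw [hy']; group
    rwa [e] at this
  have h1 : v * y' * v⁻¹ = y := by
    rw [hy']
    have h2 := mem_C.1 hg
    have : v * (m * y * m⁻¹) * v⁻¹ = (v * m * y) * (v * m)⁻¹ := by group
    rw [this, h2, mul_inv_cancel_right]
  have h2 : v * y' * v⁻¹ * y'⁻¹ = 1 := by
    have ha : v * y' * v⁻¹ * y'⁻¹ ∈ V := by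
      have := V.mul_mem hv (hVn.conj_mem _ (V.inv_mem hv) y')
      have e : v * (y' * v⁻¹ * y'⁻¹) = v * y' * v⁻¹ * y'⁻¹ := by group
      rwa [e] at this
    have hb : v * y' * v⁻¹ * y'⁻¹ ∈ P := by
      rw [h1]; exact P.mul_mem hyP (P.inv_mem hy'P)
    have h3 := hVq' _ ha
    obtain ⟨-, k, hk⟩ := (hP _).1 hb
    have h4 : (orderOf (v * y' * v⁻¹ * y'⁻¹)).Coprime (p ^ k) := h3.pow_right k
    have h5 : orderOf (v * y' * v⁻¹ * y'⁻¹) ∣ p ^ k := orderOf_dvd_of_pow_eq_one hk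
    rw [← orderOf_eq_one_iff]
    exact Nat.Coprime.eq_one_of_dvd h4 h5
  have h3 : v * y' = y' * v := by
    have h4 := mul_inv_eq_one.1 h2
    rw [mul_inv_eq_iff_eq_mul] at h4
    exact h4
  have h4 := no_mixed h hx hxc hβ hP hS (hS.le hy'P) hy'c ((hP _).1 hy'P).2 (hVN hv) (hVq' v hv) h3.symm
  exact (centralizer ({x} : Set G)).mul_mem (Z_le_C hx h4) hm

theorem pcase [N.Normal] (h : Hyp N) {p : ℕ} [hp : Fact p.Prime] {x : G} (hx : x ∈ N)
    (hxc : x ∉ centralizer (N : Set G)) (hβ : ∀ y ∈ N, y ∈ centralizer ({x} : Set G) → (orderOf y).Coprime p → y ∈ centralizer (N : Set G))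
    {P : Subgroup G} (hP : ∀ g, g ∈ P ↔ g ∈ (N ⊓ centralizer ({x} : Set G) : Subgroup G) ∧ ∃ k : ℕ, g ^ p ^ k = 1)
    (hPn : ¬ P.Normal) (hDn : ¬ (N ⊓ centralizer ({x} : Set G) : Subgroup G).Normal) {V : Subgroup G} (hVn : V.Normal)
    (hVN : V ≤ N) (hVp : IsPGroup p V) (hVc : ¬ V ≤ centralizer (N : Set G)) : False := by
  obtain ⟨hmax, hS⟩ := sylN h hx hxc hP hPn
  -- a p'-element outside the centre
  obtain ⟨w, hwN, hwp, hwc⟩ : ∃ w ∈ N, (orderOf w).Coprime p ∧ w ∉ centralizer (N : Set G) := by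
    by_contra hcon
    push Not at hcon
    have hNnil := nil_of' N le_rfl p (ppart hp.out hcon)
    have hlt : (N ⊓ centralizer ({x} : Set G) : Subgroup G) < N :=
      lt_of_le_of_ne inf_le_left (fun h1 => not_le_C hxc (by rw [← h1]; exact inf_le_right))
    obtain ⟨g, hgN, hgD, hgn⟩ := exists_normalizing hNnil hlt
    rw [norm_eq h hx hxc (fun m hm => C_conj_N hm) hDn] at hgn
    exact hgD (mem_inf.2 ⟨hgN, hgn⟩)
  have hnm : ∀ u ∈ N, (∃ l : ℕ, u ^ p ^ l = 1) → u * w = w * u → u ∈ centralizer (N : Set G) := by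
    intro u hu hup huw
    by_contra huc
    exact hwc (no_mixed h hx hxc hβ hP hS hu huc hup hwN hwp huw)
  have hVw : ¬ V ≤ centralizer ({w} : Set G) := by
    intro h1
    apply hVc
    intro v hv
    obtain ⟨l, hl⟩ := hVp ⟨v, hv⟩
    exact hnm v (hVN hv) ⟨l, congrArg Subtype.val hl⟩ (mem_C.1 (h1 hv))
  -- the p-part of the centre
  have hZ0nil : Group.IsNilpotent (N ⊓ centralizer (N : Set G) : Subgroup G) := by
    refine nil_of' _ inf_le_left p (fun g hg => ⟨0, ?_⟩)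
    rw [pow_zero, pow_one]; exact (mem_inf.1 hg).2
  obtain ⟨Y, hY⟩ := exists_pels p hZ0nil
  have hYn : Y.Normal := ⟨fun n hn g => conj_pels hY (fun z hz =>
    (inferInstance : (N ⊓ centralizer (N : Set G) : Subgroup G).Normal).conj_mem z hz g) n hn⟩
  have hYN : Y ≤ N := fun g hg => (mem_inf.1 ((hY g).1 hg).1).1
  obtain ⟨V2, hV2⟩ : ∃ V2, V2 = V ⊔ Y := ⟨_, rfl⟩
  have hV2n : V2.Normal := by rw [hV2]; exact sup_normal V Y
  have hV2p : IsPGroup p V2 := by rw [hV2]; exact hVp.to_sup_of_normal_left (pels_isPGroup hY)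
  have hV2N : V2 ≤ N := by rw [hV2]; exact sup_le hVN hYN
  have hPV : P ≤ V2 := by
    intro g hg
    obtain ⟨v, hv, c, hc, hvc⟩ := dec_C h hwN hwc hVn hVw g
    have hcN : c ∈ N := by
      have := N.mul_mem (N.inv_mem (hVN hv)) (hS.le hg)
      rwa [← hvc, inv_mul_cancel_left] at this
    obtain ⟨-, k, hk⟩ := (hP g).1 hg
    obtain ⟨e, m, hm, hne⟩ := Nat.exists_eq_pow_mul_and_not_dvd (orderOf_pos c).ne' p hp.out.ne_one
    have h1 : c ^ m ∈ V2 := by
      rw [hV2]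
      refine mem_sup_right ((hY _).2 ⟨mem_inf.2 ⟨pow_mem hcN m, ?_⟩, e, ?_⟩)
      · apply hnm _ (pow_mem hcN m) ⟨e, by rw [← pow_mul, mul_comm, ← hne, pow_orderOf_eq_one]⟩
        exact (show Commute c w from mem_C.1 hc).pow_left m
      · rw [← pow_mul, mul_comm, ← hne, pow_orderOf_eq_one]
    have hvV2 : v ∈ V2 := by rw [hV2]; exact mem_sup_left hv
    have h2 : c ^ p ^ k ∈ V2 := by
      have e1 : QuotientGroup.mk' V2 c = QuotientGroup.mk' V2 g := by
        rw [← hvc, map_mul]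
        have : QuotientGroup.mk' V2 v = 1 := (QuotientGroup.eq_one_iff v).2 hvV2
        rw [this, one_mul]
      have e2 : QuotientGroup.mk' V2 (c ^ p ^ k) = 1 := by rw [map_pow, e1, ← map_pow, hk, map_one]
      exact (QuotientGroup.eq_one_iff _).1 e2
    have h3 : c ∈ V2 := mem_of_coprime_pow (((Nat.Prime.coprime_iff_not_dvd hp.out).2 hm).symm.pow_right k) h1 h2
    rw [← hvc]
    exact V2.mul_mem hvV2 h3
  apply hPn
  rw [← hmax V2 hV2N hV2p hPV]
  exact hV2n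

end

theorem solvable_of_npc : ∀ (n : ℕ) (X : Type u) [Group X] [Finite X], Nat.card X = n →
    (∀ p : ℕ, p.Prime → p ≠ 2 → Cfsg.HasNormalPComplement p X) → Group.IsSolvable X := by
  intro n
  induction n using Nat.strong_induction_on with
  | _ n ih =>
  intro X _ _ hn hX
  by_cases hodd : ∃ p : ℕ, p.Prime ∧ p ≠ 2 ∧ p ∣ Nat.card X
  · obtain ⟨p, hp, hp2, hpX⟩ := hodd
    haveI : Fact p.Prime := ⟨hp⟩
    obtain ⟨K, hKn, hKp, k, hk⟩ := H2.hasNormalPComplement_iff.1 (hX p hp hp2)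
    haveI := hKn
    have hKne : Nat.card K ≠ Nat.card X := by
      intro h1
      exact hKp (h1 ▸ hpX)
    have hKlt : Nat.card K < n := by
      rw [← hn]
      exact lt_of_le_of_ne (Nat.le_of_dvd Nat.card_pos (Subgroup.card_subgroup_dvd_card K)) hKne
    have h1 : Group.IsSolvable K := ih _ hKlt K rfl (fun q hq hq2 => by
      haveI : Fact q.Prime := ⟨hq⟩
      exact H2.HasNormalPComplement.subgroup (hX q hq hq2) K)
    have h2 : Group.IsSolvable (X ⧸ K) := by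
      have h3 : IsPGroup p (X ⧸ K) := IsPGroup.of_card (by rw [← hk]; rfl)
      haveI := h3.isNilpotent
      infer_instance
    exact solvable_of_ker_le_range K.subtype (QuotientGroup.mk' K) (by simp)
  · push Not at hodd
    have h3 : IsPGroup 2 X := by
      refine IsPGroup.of_card (Nat.eq_prime_pow_of_unique_prime_dvd Nat.card_pos.ne' fun {d} hd hdd => ?_)
      by_contra hd2
      exact hodd d hd hd2 hdd
    haveI : Fact (Nat.Prime 2) := ⟨Nat.prime_two⟩
    haveI := h3.isNilpotent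
    infer_instance

section
variable {N : Subgroup G} [Finite G]

theorem mk0_eq_one [N.Normal] {g : G} : QuotientGroup.mk' (N ⊓ centralizer (N : Set G)) g = 1 ↔
    g ∈ (N ⊓ centralizer (N : Set G) : Subgroup G) := QuotientGroup.eq_one_iff g

theorem no_normal_p [N.Normal] (hF : ∀ q : ℕ, q.Prime → ∀ V : Subgroup G, V.Normal → V ≤ N → IsPGroup q V →
      V ≤ centralizer (N : Set G)) {p : ℕ} [hp : Fact p.Prime]
    {W : Subgroup (G ⧸ (N ⊓ centralizer (N : Set G) : Subgroup G))} (hWn : W.Normal)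
    (hWN : W ≤ N.map (QuotientGroup.mk' (N ⊓ centralizer (N : Set G)))) (hWp : IsPGroup p W) : W = ⊥ := by
  set f := QuotientGroup.mk' (N ⊓ centralizer (N : Set G)) with hf
  have hfs : Function.Surjective f := QuotientGroup.mk'_surjective _
  have hf1 : ∀ {g : G}, f g = 1 ↔ g ∈ (N ⊓ centralizer (N : Set G) : Subgroup G) := fun {g} => mk0_eq_one
  have hmemN : ∀ {g : G}, f g ∈ N.map f → g ∈ N := by
    rintro g ⟨n, hn, hng⟩
    have h1 : n⁻¹ * g ∈ (N ⊓ centralizer (N : Set G) : Subgroup G) := by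
      rw [← hf1, map_mul, map_inv, hng, inv_mul_cancel]
    have := N.mul_mem hn (mem_inf.1 h1).1
    rwa [mul_inv_cancel_left] at this
  have hV'N : W.comap f ≤ N := fun g hg => hmemN (hWN hg)
  have hpow : ∀ g ∈ W.comap f, ∃ k : ℕ, g ^ p ^ k ∈ centralizer (N : Set G) := by
    intro g hg
    obtain ⟨k, hk⟩ := hWp ⟨f g, hg⟩
    refine ⟨k, (mem_inf.1 (hf1.1 ?_)).2⟩
    rw [map_pow]; exact congrArg Subtype.val hk
  have hnil := nil_of' _ hV'N p hpow
  obtain ⟨V, hV⟩ := exists_pels p hnil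
  have hV'n : (W.comap f).Normal := inferInstance
  have hVn : V.Normal := ⟨fun n hn g => conj_pels hV (fun z hz => hV'n.conj_mem z hz g) n hn⟩
  have hVc := hF p hp.out V hVn (fun g hg => hV'N ((hV g).1 hg).1) (pels_isPGroup hV)
  rw [eq_bot_iff]
  intro w hw
  obtain ⟨g, rfl⟩ := hfs w
  rw [mem_bot, hf1]
  refine mem_inf.2 ⟨hmemN (hWN hw), ?_⟩
  obtain ⟨k, hk⟩ := hpow g hw
  obtain ⟨e, m, hm, hne⟩ := Nat.exists_eq_pow_mul_and_not_dvd (orderOf_pos g).ne' p hp.out.ne_one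
  refine mem_of_coprime_pow (((Nat.Prime.coprime_iff_not_dvd hp.out).2 hm).symm.pow_right k) ?_ hk
  exact hVc ((hV _).2 ⟨pow_mem (show g ∈ W.comap f from hw) m, e, by rw [← pow_mul, mul_comm, ← hne, pow_orderOf_eq_one]⟩)

theorem fit_npc [N.Normal] (h : Hyp N) (hF : ∀ q : ℕ, q.Prime → ∀ V : Subgroup G, V.Normal → V ≤ N → IsPGroup q V →
      V ≤ centralizer (N : Set G)) {p : ℕ} [hp : Fact p.Prime] (hp2 : p ≠ 2)
    (hpN : p ∣ Nat.card (N.map (QuotientGroup.mk' (N ⊓ centralizer (N : Set G))))) :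
    Cfsg.HasNormalPComplement p (N.map (QuotientGroup.mk' (N ⊓ centralizer (N : Set G)))) := by
  obtain ⟨f, hf⟩ : ∃ f, f = QuotientGroup.mk' (N ⊓ centralizer (N : Set G)) := ⟨_, rfl⟩
  rw [← hf] at hpN ⊢
  have hfs : Function.Surjective f := by rw [hf]; exact QuotientGroup.mk'_surjective _
  have hf1 : ∀ {g : G}, f g = 1 ↔ g ∈ (N ⊓ centralizer (N : Set G) : Subgroup G) := fun {g} => by
    rw [hf]; exact mk0_eq_one
  -- a p-element outside the centre
  obtain ⟨x, hx, hxp, hxc⟩ : ∃ x ∈ N, (∃ k : ℕ, x ^ p ^ k = 1) ∧ x ∉ centralizer (N : Set G) := by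
    obtain ⟨⟨_, ⟨g, hg, rfl⟩⟩, hord⟩ := exists_prime_orderOf_dvd_card' p hpN
    rw [← Subgroup.orderOf_coe] at hord
    have hord : orderOf (f g) = p := hord
    obtain ⟨e, m, hm, hne⟩ := Nat.exists_eq_pow_mul_and_not_dvd (orderOf_pos g).ne' p hp.out.ne_one
    refine ⟨g ^ m, pow_mem hg m, ⟨e, by rw [← pow_mul, mul_comm, ← hne, pow_orderOf_eq_one]⟩, ?_⟩
    intro h1
    apply hm
    rw [← hord]
    apply orderOf_dvd_of_pow_eq_one
    rw [← map_pow, hf1]
    exact mem_inf.2 ⟨pow_mem hg m, h1⟩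
  have hDnil := nilD h hxp hx hxc
  obtain ⟨P, hP⟩ := exists_pels p hDnil
  have hxP : x ∈ P := (hP x).2 ⟨mem_inf.2 ⟨hx, mem_C.2 rfl⟩, hxp⟩
  have hPN : P ≤ N := fun g hg => (mem_inf.1 ((hP g).1 hg).1).1
  have hPn : ¬ P.Normal := fun h1 => hxc (hF p hp.out P h1 hPN (pels_isPGroup hP) hxP)
  obtain ⟨-, hS⟩ := sylN h hx hxc hP hPn
  have hPbar : IsSylowOf p (P.map f) (N.map f) := by
    rw [isSylowOf_iff]
    refine ⟨map_mono hPN, (pels_isPGroup hP).map f, fun h1 => hS.not_dvd (h1.trans (H1.relIndex_map_dvd f P N))⟩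
  obtain ⟨W, hW⟩ : ∃ W, W = Cfsg.centerThompsonOf p (P.map f) := ⟨_, rfl⟩
  have hWP : W ≤ P.map f := by rw [hW]; exact H2.centerThompsonOf_le p _
  have hPne : P.map f ≠ ⊥ := by
    intro h1
    have h2 : f x ∈ P.map f := mem_map_of_mem f hxP
    rw [h1, mem_bot, hf1] at h2
    exact hxc (mem_inf.1 h2).2
  have hWne : W ≠ ⊥ := by rw [hW]; exact H10.zj_ne_bot ((pels_isPGroup hP).map f) hPne
  have hWp : IsPGroup p W := ((pels_isPGroup hP).map f).to_le hWP
  have hWn : ¬ W.Normal := by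
    intro h1
    subst hf
    exact hWne (no_normal_p hF h1 (hWP.trans (map_mono hPN)) hWp)
  have hMW : (centralizer ({x} : Set G)).map f ≤ normalizer (W : Set _) := by
    rw [hW]
    refine le_trans ?_ (H2.normalizer_le_normalizer_centerThompsonOf _)
    apply le_normalizer_of_conj_mem
    rintro _ ⟨m, hm, rfl⟩ _ ⟨g, hg, rfl⟩
    exact ⟨m * g * m⁻¹, conj_pels hP (C_conj_N hm) g hg, by simp⟩
  have hMeq : centralizer ({x} : Set G) = (normalizer (W : Set _)).comap f := by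
    apply coatom_eq (h x hx hxc)
    · intro h1
      apply hWn
      rw [← normalizer_eq_top_iff, eq_top_iff]
      intro w _
      obtain ⟨w, rfl⟩ := hfs w
      have : w ∈ (normalizer (W : Set _)).comap f := by rw [h1]; exact mem_top w
      exact this
    · intro m hm
      exact hMW (mem_map_of_mem f hm)
  have hMn : Group.IsNilpotent (N.map f ⊓ normalizer (W : Set _) : Subgroup _) := by
    have h1 : (N.map f ⊓ normalizer (W : Set _) : Subgroup _) ≤ (N ⊓ centralizer ({x} : Set G) : Subgroup G).map f := by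
      intro w hw
      obtain ⟨h1, h2⟩ := mem_inf.1 hw
      obtain ⟨n, hn, rfl⟩ := h1
      refine mem_map_of_mem f (mem_inf.2 ⟨hn, ?_⟩)
      rw [hMeq]; exact h2
    refine H1.isNilpotent_of_le h1 ?_
    haveI := hDnil
    exact Group.nilpotent_of_surjective (f.subgroupMap (N ⊓ centralizer ({x} : Set G) : Subgroup G))
      (f.subgroupMap_surjective _)
  obtain ⟨S, hS'⟩ := id hPbar
  have hZS : (Cfsg.centerThompsonOf p (S : Subgroup (N.map f))).map (N.map f).subtype = W := by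
    rw [hW, ← hS']
    exact (H2.centerThompsonOf_map_of_injOn (p := p) (U := (S : Subgroup (N.map f))) (f := (N.map f).subtype)
      ((N.map f).subtype_injective.comp (Subgroup.subtype_injective _))).symm
  have hNle : (normalizer ((Cfsg.centerThompsonOf p (S : Subgroup (N.map f)) : Subgroup (N.map f)) : Set (N.map f))).map
      (N.map f).subtype ≤ N.map f ⊓ normalizer (W : Set _) := by
    refine le_inf (Subgroup.map_subtype_le _) ?_
    refine le_normalizer_of_conj_mem ?_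
    rintro _ ⟨a, ha, rfl⟩ z hz
    rw [← hZS] at hz ⊢
    obtain ⟨w, hw, rfl⟩ := hz
    exact ⟨a * w * a⁻¹, (Subgroup.mem_normalizer_iff.mp ha w).mp hw, rfl⟩
  have hNnil : Group.IsNilpotent (normalizer ((Cfsg.centerThompsonOf p (S : Subgroup (N.map f)) :
      Subgroup (N.map f)) : Set (N.map f))) := by
    have h1 := H1.isNilpotent_of_le hNle hMn
    exact H1.isNilpotent_of_equiv
      ((normalizer ((Cfsg.centerThompsonOf p (S : Subgroup (N.map f)) : Subgroup (N.map f)) :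
        Set (N.map f))).equivMapOfInjective (N.map f).subtype (N.map f).subtype_injective).symm h1
  exact (S0117.result hp2 S).mpr (H2.HasNormalPComplement.of_isNilpotent hNnil)

theorem fitcase [N.Normal] (h : Hyp N) (hF : ∀ q : ℕ, q.Prime → ∀ V : Subgroup G, V.Normal → V ≤ N → IsPGroup q V →
      V ≤ centralizer (N : Set G)) : N ≤ centralizer (N : Set G) := by
  obtain ⟨f, hf⟩ : ∃ f, f = QuotientGroup.mk' (N ⊓ centralizer (N : Set G)) := ⟨_, rfl⟩
  have hf1 : ∀ {g : G}, f g = 1 ↔ g ∈ (N ⊓ centralizer (N : Set G) : Subgroup G) := fun {g} => by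
    rw [hf]; exact mk0_eq_one
  have hsol : Group.IsSolvable (N.map f) := by
    apply solvable_of_npc _ (N.map f) rfl
    intro p hp hp2
    haveI : Fact p.Prime := ⟨hp⟩
    by_cases hpN : p ∣ Nat.card (N.map f)
    · subst hf
      exact fit_npc h hF hp2 hpN
    · exact H2.HasNormalPComplement.of_not_dvd hpN
  by_contra hcon
  have hne : N.map f ≠ ⊥ := by
    intro h1
    apply hcon
    intro n hn
    have h2 : f n ∈ N.map f := mem_map_of_mem f hn
    rw [h1, mem_bot, hf1] at h2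
    exact (mem_inf.1 h2).2
  haveI hNn : (N.map f).Normal := by
    have : Function.Surjective f := by rw [hf]; exact QuotientGroup.mk'_surjective _
    exact Subgroup.Normal.map inferInstance f this
  haveI : Nontrivial (N.map f) := (Subgroup.nontrivial_iff_ne_bot _).mpr hne
  obtain ⟨p, A, hp, hAc, hA1, hAp, hA⟩ := H1.exists_pgroup_characteristic_of_solvable (N.map f) hsol
  haveI : Fact p.Prime := ⟨hp⟩
  haveI := hAc
  have hAn : (A.map (N.map f).subtype).Normal := inferInstance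
  subst hf
  have h1 := no_normal_p hF hAn (Subgroup.map_subtype_le A) (hA.map _)
  rw [Subgroup.map_eq_bot_iff_of_injective _ (Subgroup.subtype_injective _)] at h1
  exact hA1 h1

end

section
variable {N : Subgroup G} [Finite G]

/-- a nonnormal centralizer forces (α) -/
theorem alpha [N.Normal] (h : Hyp N) {p : ℕ} [hp : Fact p.Prime] {x : G} (hxp : ∃ k : ℕ, x ^ p ^ k = 1) (hx : x ∈ N)
    (hxc : x ∉ centralizer (N : Set G)) (hDn : ¬ (N ⊓ centralizer ({x} : Set G) : Subgroup G).Normal) :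
    ∀ w ∈ N, w ∈ centralizer ({x} : Set G) → w ∉ centralizer (N : Set G) →
      centralizer ({w} : Set G) = centralizer ({x} : Set G) := by
  rcases dich h hp.out hxp hx hxc with h1 | hβ
  · exact h1
  obtain ⟨P, hP⟩ := exists_pels p (nilD h hxp hx hxc)
  have hPN : P ≤ N := fun g hg => (mem_inf.1 ((hP g).1 hg).1).1
  have hZn : (centralizer (N : Set G)).Normal := inferInstance
  have hNn : N.Normal := inferInstance
  have hPn : ¬ P.Normal := by
    intro hPn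
    apply hDn
    refine ⟨fun d hd g => ?_⟩
    obtain ⟨hd1, hd2⟩ := mem_inf.1 hd
    obtain ⟨e, m, hm, hne⟩ := Nat.exists_eq_pow_mul_and_not_dvd (orderOf_pos d).ne' p hp.out.ne_one
    refine mem_of_coprime_pow (((Nat.Prime.coprime_iff_not_dvd hp.out).2 hm).symm.pow_right e) ?_ ?_
    · rw [conj_pow]
      have h1 : d ^ m ∈ P := (hP _).2 ⟨pow_mem hd m, e, by rw [← pow_mul, mul_comm, ← hne, pow_orderOf_eq_one]⟩
      exact ((hP _).1 (hPn.conj_mem _ h1 g)).1
    · rw [conj_pow]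
      have h1 : d ^ p ^ e ∈ centralizer (N : Set G) := by
        apply hβ _ (pow_mem hd1 _) (pow_mem hd2 _)
        have : orderOf (d ^ p ^ e) ∣ m := orderOf_dvd_of_pow_eq_one (by rw [← pow_mul, ← hne, pow_orderOf_eq_one])
        exact Nat.Coprime.coprime_dvd_left this ((Nat.Prime.coprime_iff_not_dvd hp.out).2 hm).symm
      exact mem_inf.2 ⟨hNn.conj_mem _ (pow_mem hd1 _) g, Z_le_C hx (hZn.conj_mem _ h1 g)⟩
  by_cases hF : ∀ q : ℕ, q.Prime → ∀ V : Subgroup G, V.Normal → V ≤ N → IsPGroup q V → V ≤ centralizer (N : Set G)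
  · exact absurd (fitcase h hF hx) hxc
  push Not at hF
  obtain ⟨q, hq, V, hVn, hVN, hVq, hVc⟩ := hF
  intro w hw hwx hwc
  obtain ⟨r, j, hr, hj, k, hk⟩ := exists_primary _ w rfl hwc
  have hwj : w ^ j ∈ N := pow_mem hw j
  rw [C_eq_of_le h hw hwc hwj hj (C_le_of_mem_zpowers (pow_mem (mem_zpowers w) j))]
  by_cases hrp : r = p
  · subst hrp
    have hwP : w ^ j ∈ P := (hP _).2 ⟨mem_inf.2 ⟨hwj, pow_mem hwx j⟩, k, hk⟩
    by_cases hqr : q = r
    · subst hqr
      exact (pcase h hx hxc hβ hP hPn hDn hVn hVN hVq hVc).elim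
    · exact qcase h hq hqr hx hxc hβ hP hPn hVn hVN hVq hVc hwP hj
  · exact absurd (hβ _ hwj (pow_mem hwx j) (copr' hr hp.out hrp ⟨k, hk⟩)) hj

theorem elem_of {X : Type*} [Group X] (hc : ∀ a b : X, a * b = b * a) (hp : ∀ x : X, x ≠ 1 → ∃ r : ℕ, r.Prime ∧ x ^ r = 1) :
    ∃ p : ℕ, p.Prime ∧ Cfsg.IsElementaryAbelian p (⊤ : Subgroup X) := by
  by_cases h0 : ∃ x : X, x ≠ 1
  · obtain ⟨x, hx⟩ := h0
    obtain ⟨p, hpp, hxp⟩ := hp x hx
    have hord : ∀ {y : X} {r : ℕ}, r.Prime → y ≠ 1 → y ^ r = 1 → orderOf y = r := by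
      intro y r hr hy hyr
      exact orderOf_eq_prime hyr hy (hp := ⟨hr⟩)
    refine ⟨p, hpp, ⟨⟨fun a b => Subtype.ext (hc a b)⟩⟩, ?_⟩
    intro y _
    by_cases hy : y = 1
    · rw [hy, one_pow]
    obtain ⟨r, hr, hyr⟩ := hp y hy
    by_cases hrp : r = p
    · rw [← hrp]; exact hyr
    exfalso
    have hxy : x * y ≠ 1 := by
      intro h1
      have h2 : y = x⁻¹ := eq_inv_of_mul_eq_one_right h1
      apply hrp
      rw [← hord hr hy hyr, h2, orderOf_inv, hord hpp hx hxp]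
    obtain ⟨s, hs, hs1⟩ := hp _ hxy
    have h1 := hord hs hxy hs1
    have h2 : (orderOf x).Coprime (orderOf y) := by
      rw [hord hpp hx hxp, hord hr hy hyr]
      exact (Nat.coprime_primes hpp hr).2 (Ne.symm hrp)
    have h3 := (show Commute x y from hc x y).orderOf_mul_eq_mul_orderOf_of_coprime h2
    rw [h1, hord hpp hx hxp, hord hr hy hyr] at h3
    rw [h3] at hs
    exact Nat.not_prime_mul hpp.ne_one hr.ne_one hs
  · push Not at h0
    refine ⟨2, Nat.prime_two, ⟨⟨fun a b => Subtype.ext (hc a b)⟩⟩, fun a _ => ?_⟩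
    rw [h0 a, one_pow]

omit [Finite G] in
theorem comm_pow_right' {a b : G} (h1 : ⁅a, b⁆ * b = b * ⁅a, b⁆) (t : ℕ) : ⁅a, b ^ t⁆ = ⁅a, b⁆ ^ t := by
  obtain ⟨z, hz⟩ : ∃ z, z = ⁅a, b⁆ := ⟨_, rfl⟩
  have h2 : a * b * a⁻¹ = z * b := by rw [hz, commutatorElement_def]; group
  rw [← hz] at h1 ⊢
  rw [commutatorElement_def, ← conj_pow, h2, (show Commute z b from h1).mul_pow, mul_inv_cancel_right]

omit [Finite G] in
theorem comm_pow_left' {a b : G} (h1 : ⁅a, b⁆ * a = a * ⁅a, b⁆) (t : ℕ) : ⁅a ^ t, b⁆ = ⁅a, b⁆ ^ t := by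
  obtain ⟨z, hz⟩ : ∃ z, z = ⁅a, b⁆ := ⟨_, rfl⟩
  rw [← hz] at h1 ⊢
  have h2 : b * a⁻¹ * b⁻¹ = a⁻¹ * z := by rw [hz, commutatorElement_def]; group
  have h3 : b * (a ^ t)⁻¹ * b⁻¹ = (a⁻¹) ^ t * z ^ t := by
    rw [← inv_pow, ← conj_pow, h2]
    exact (show Commute a⁻¹ z from (show Commute z a from h1).symm.inv_left).mul_pow t
  have h4 : ⁅a ^ t, b⁆ = a ^ t * (b * (a ^ t)⁻¹ * b⁻¹) := by rw [commutatorElement_def]; group
  rw [h4, h3, inv_pow, mul_inv_cancel_left]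

theorem caseI [N.Normal] (h : Hyp N)
    (hn : ∀ x : G, x ∈ N → x ∉ centralizer (N : Set G) → (N ⊓ centralizer ({x} : Set G) : Subgroup G).Normal) :
    ∃ p : ℕ, p.Prime ∧ Cfsg.IsElementaryAbelian p (⊤ : Subgroup (↥N ⧸ center ↥N)) := by
  have hcc : ∀ a ∈ N, ∀ b ∈ N, ⁅a, b⁆ ∈ centralizer (N : Set G) := by
    intro a ha b hb
    have hab : ⁅a, b⁆ ∈ N := by
      rw [commutatorElement_def]
      exact N.mul_mem (N.mul_mem (N.mul_mem ha hb) (N.inv_mem ha)) (N.inv_mem hb)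
    rw [mem_centralizer_iff]
    intro n hn'
    by_cases hnc : n ∈ centralizer (N : Set G)
    · exact (mem_centralizer_iff.1 hnc _ hab).symm
    have hDn := hn n hn' hnc
    suffices hs : ⁅a, b⁆ ∈ (N ⊓ centralizer ({n} : Set G) : Subgroup G) from (mem_C.1 (mem_inf.1 hs).2).symm
    set D := (N ⊓ centralizer ({n} : Set G) : Subgroup G) with hD
    by_cases haD : a ∈ D
    · rw [commutatorElement_def, mul_assoc, mul_assoc]
      refine D.mul_mem haD ?_
      rw [← mul_assoc]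
      exact hDn.conj_mem _ (D.inv_mem haD) b
    have hnD : n ∈ D := mem_inf.2 ⟨hn', mem_C.2 rfl⟩
    have han : a * n ≠ n * a := fun h1 => haD (mem_inf.2 ⟨ha, mem_C.2 h1⟩)
    have hac : a ∉ centralizer (N : Set G) := fun h1 => han (mem_centralizer_iff.1 h1 n hn').symm
    have hDa : ¬ D ≤ centralizer ({a} : Set G) := fun h1 => han (mem_C.1 (h1 hnD)).symm
    obtain ⟨d, hd, c, hc, rfl⟩ := dec_C h ha hac hDn hDa b
    have h1 : ⁅a, d * c⁆ = a * d * a⁻¹ * d⁻¹ := by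
      have h2 := mem_C.1 hc
      have h3 : a * (d * c) * a⁻¹ * (d * c)⁻¹ = a * d * (c * a⁻¹) * c⁻¹ * d⁻¹ := by group
      have h4 : c * a⁻¹ = a⁻¹ * c := ((show Commute c a from h2).inv_right)
      rw [commutatorElement_def, h3, h4]; group
    rw [h1]
    exact D.mul_mem (hDn.conj_mem d hd a) (D.inv_mem hd)
  have hpow : ∀ x ∈ N, x ∉ centralizer (N : Set G) → ∃ r : ℕ, r.Prime ∧ x ^ r ∈ centralizer (N : Set G) := by
    intro x hx hxc
    obtain ⟨n0, hn0, hne⟩ : ∃ n0 ∈ N, ⁅x, n0⁆ ≠ 1 := by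
      by_contra hcon
      push Not at hcon
      apply hxc
      rw [mem_centralizer_iff]
      intro n hn'
      exact (commutatorElement_eq_one_iff_mul_comm.1 (hcon n hn')).symm
    obtain ⟨r, hr, t, ht⟩ := Nat.exists_prime_and_dvd (fun h1 => hne (orderOf_eq_one_iff.1 h1) : orderOf ⁅x, n0⁆ ≠ 1)
    refine ⟨r, hr, ?_⟩
    by_contra hxr
    have hn1 : n0 ^ t ∈ N := pow_mem hn0 t
    have e1 : ⁅x, n0 ^ t⁆ = ⁅x, n0⁆ ^ t :=
      comm_pow_right' (mem_centralizer_iff.1 (hcc x hx n0 hn0) n0 hn0).symm t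
    have e2 : ⁅x ^ r, n0 ^ t⁆ = 1 := by
      rw [comm_pow_left' (mem_centralizer_iff.1 (hcc x hx _ hn1) x hx).symm r, e1, ← pow_mul, mul_comm, ← ht,
        pow_orderOf_eq_one]
    have h1 : n0 ^ t ∈ centralizer ({x ^ r} : Set G) := mem_C.2 (commutatorElement_eq_one_iff_mul_comm.1 e2).symm
    rw [← C_eq_of_le h hx hxc (pow_mem hx r) hxr (C_le_of_mem_zpowers (pow_mem (mem_zpowers x) r))] at h1
    have h2 : ⁅x, n0 ^ t⁆ = 1 := commutatorElement_eq_one_iff_mul_comm.2 (mem_C.1 h1).symm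
    rw [e1] at h2
    have h3 : orderOf ⁅x, n0⁆ ∣ t := orderOf_dvd_of_pow_eq_one h2
    have ht0 : 0 < t := by
      rcases Nat.eq_zero_or_pos t with h4 | h4
      · rw [h4, mul_zero] at ht
        exact absurd ht (orderOf_pos _).ne'
      · exact h4
    have h4 := Nat.le_of_dvd ht0 h3
    rw [ht] at h4
    have := hr.two_le
    nlinarith
  have hcen : ∀ n : N, n ∈ center N ↔ (n : G) ∈ centralizer (N : Set G) := by
    intro n
    rw [mem_center_iff, mem_centralizer_iff]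
    constructor
    · intro h1 m hm
      exact congrArg Subtype.val (h1 ⟨m, hm⟩)
    · intro h1 m
      exact Subtype.ext (h1 m m.2)
  apply elem_of
  · intro a b
    obtain ⟨a, rfl⟩ := QuotientGroup.mk'_surjective (center N) a
    obtain ⟨b, rfl⟩ := QuotientGroup.mk'_surjective (center N) b
    rw [← commutatorElement_eq_one_iff_mul_comm, ← map_commutatorElement]
    exact (QuotientGroup.eq_one_iff _).2 ((hcen _).2 (hcc a a.2 b b.2))
  · intro a ha
    obtain ⟨a, rfl⟩ := QuotientGroup.mk'_surjective (center N) a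
    have hac : (a : G) ∉ centralizer (N : Set G) := fun h1 => ha ((QuotientGroup.eq_one_iff _).2 ((hcen _).2 h1))
    obtain ⟨r, hr, har⟩ := hpow a a.2 hac
    refine ⟨r, hr, ?_⟩
    rw [← map_pow]
    exact (QuotientGroup.eq_one_iff _).2 ((hcen _).2 har)

end

section
variable {N : Subgroup G} [Finite G]

theorem frobN [N.Normal] (h : Hyp N) {x : G} (hx : x ∈ N) (hxc : x ∉ centralizer (N : Set G))
    (hDn : ¬ (N ⊓ centralizer ({x} : Set G) : Subgroup G).Normal)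
    (hα : ∀ w ∈ N, w ∈ centralizer ({x} : Set G) → w ∉ centralizer (N : Set G) →
      centralizer ({w} : Set G) = centralizer ({x} : Set G)) :
    (∃ (Q K : Subgroup (↥N ⧸ Subgroup.center ↥N)) (p : ℕ), p.Prime ∧ Cfsg.IsFrobeniusComplement Q ∧ (Nat.card ↥Q).Prime ∧
      K.Normal ∧ (K : Set (↥N ⧸ Subgroup.center ↥N)) = Cfsg.frobeniusKernel Q ∧ Cfsg.IsElementaryAbelian p K) := by
  have hZn : (centralizer (N : Set G)).Normal := inferInstance
  have hNn : N.Normal := inferInstance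
  have hcen : ∀ n : N, n ∈ center N ↔ (n : G) ∈ centralizer (N : Set G) := by
    intro n
    rw [mem_center_iff, mem_centralizer_iff]
    constructor
    · intro h1 m hm
      exact congrArg Subtype.val (h1 ⟨m, hm⟩)
    · intro h1 m
      exact Subtype.ext (h1 m m.2)
  obtain ⟨f, hf⟩ : ∃ f, f = QuotientGroup.mk' (center N) := ⟨_, rfl⟩
  have hfs : Function.Surjective f := by rw [hf]; exact QuotientGroup.mk'_surjective _
  have hf1 : ∀ {n : N}, f n = 1 ↔ (n : G) ∈ centralizer (N : Set G) := fun {n} => by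
    rw [hf, ← hcen]; exact QuotientGroup.eq_one_iff n
  obtain ⟨M, hM⟩ : ∃ M, M = centralizer ({x} : Set G) := ⟨_, rfl⟩
  have hnormD := norm_eq h hx hxc (fun m hm => C_conj_N (N := N) hm) hDn
  rw [← hM] at hα hDn hnormD
  have hxM : x ∈ M := by rw [hM]; exact mem_C.2 rfl
  have hZM : centralizer (N : Set G) ≤ M := by rw [hM]; exact Z_le_C hx
  obtain ⟨Q, hQ⟩ : ∃ Q, Q = (M.subgroupOf N).map f := ⟨_, rfl⟩
  have hmemQ : ∀ {n : N}, f n ∈ Q ↔ (n : G) ∈ M := by
    intro n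
    rw [hQ]
    constructor
    · rintro ⟨m, hm, hmn⟩
      have h1 : ((m⁻¹ * n : N) : G) ∈ centralizer (N : Set G) := by rw [← hf1, map_mul, map_inv, hmn, inv_mul_cancel]
      have h2 : (m : G) ∈ M := hm
      have := M.mul_mem h2 (hZM h1)
      have e : (m : G) * ((m⁻¹ * n : N) : G) = n := by push_cast; group
      rwa [e] at this
    · intro hn
      exact mem_map_of_mem f (show n ∈ M.subgroupOf N from hn)
  have hDw : ∀ w ∈ N, w ∈ M → w ∉ centralizer (N : Set G) → ∀ n ∈ N, (n ∈ M ↔ n * w = w * n) := by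
    intro w hw hwM hwc n hn
    rw [hM] at hwM ⊢
    rw [hM] at hα
    rw [← hα w hw hwM hwc, mem_C]
  have hFC : Cfsg.IsFrobeniusComplement Q := by
    refine ⟨?_, ?_, ?_⟩
    · intro h1
      have h2 : f ⟨x, hx⟩ ∈ Q := hmemQ.2 hxM
      rw [h1, mem_bot, hf1] at h2
      exact hxc h2
    · intro h1
      apply not_le_C hxc
      intro n hn
      have h2 : f ⟨n, hn⟩ ∈ Q := by rw [h1]; exact mem_top _
      rw [← hM]; exact hmemQ.1 h2
    · intro g' hg'
      obtain ⟨g, rfl⟩ := hfs g'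
      rw [hmemQ] at hg'
      rw [eq_bot_iff]
      rintro w' ⟨hw1, hw2⟩
      obtain ⟨w, rfl⟩ := hfs w'
      rw [mem_bot, hf1]
      by_contra hwc
      have hw1 : (w : G) ∈ M := hmemQ.1 hw1
      obtain ⟨v', hv', hv2⟩ := hw2
      obtain ⟨v, rfl⟩ := hfs v'
      have hv : (v : G) ∈ M := hmemQ.1 hv'
      have hv2 : f (g * v * g⁻¹) = f w := by
        rw [← hv2]
        simp [MulAut.conj_apply]
      obtain ⟨z, hz, hzw⟩ : ∃ z : N, (z : G) ∈ centralizer (N : Set G) ∧ w = g * v * g⁻¹ * z := by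
        refine ⟨(g * v * g⁻¹)⁻¹ * w, ?_, by rw [mul_inv_cancel_left]⟩
        rw [← hf1, map_mul, map_inv, hv2, inv_mul_cancel]
      have hzc : ∀ n : N, n * z = z * n := fun n => Subtype.ext (mem_centralizer_iff.1 hz n n.2)
      have hvc : (v : G) ∉ centralizer (N : Set G) := by
        intro h1
        apply hwc
        rw [hzw]
        push_cast
        exact mul_mem (hZn.conj_mem v h1 g) hz
      apply hg'
      rw [← hnormD, mem_normalizer_iff]
      have key : ∀ n : G, n ∈ N → (n ∈ M ↔ (g : G) * n * (g : G)⁻¹ ∈ M) := by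
        intro n hn
        have hgn : (g : G) * n * (g : G)⁻¹ ∈ N := hNn.conj_mem n hn g
        rw [hDw v v.2 hv hvc n hn, hDw w w.2 hw1 hwc _ hgn, hzw]
        obtain ⟨n, rfl⟩ : ∃ n' : N, (n' : G) = n := ⟨⟨n, hn⟩, rfl⟩
        have e1 : ((n : G) * v = v * n) ↔ n * v = v * n := ⟨fun h => Subtype.ext h, fun h => congrArg Subtype.val h⟩
        have e2 : ((g : G) * n * (g : G)⁻¹ * ((g * v * g⁻¹ * z : N) : G) = ((g * v * g⁻¹ * z : N) : G) * ((g : G) * n * (g : G)⁻¹)) ↔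
            g * n * g⁻¹ * (g * v * g⁻¹ * z) = g * v * g⁻¹ * z * (g * n * g⁻¹) :=
          ⟨fun h => Subtype.ext h, fun h => congrArg Subtype.val h⟩
        rw [e1, e2]
        constructor
        · intro h3
          calc g * n * g⁻¹ * (g * v * g⁻¹ * z) = g * (n * v) * g⁻¹ * z := by group
            _ = g * (v * n) * g⁻¹ * z := by rw [h3]
            _ = g * v * g⁻¹ * (g * n * g⁻¹ * z) := by group
            _ = g * v * g⁻¹ * (z * (g * n * g⁻¹)) := by rw [hzc]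
            _ = g * v * g⁻¹ * z * (g * n * g⁻¹) := by group
        · intro h3
          have h4 : g * (n * v) * g⁻¹ * z = g * (v * n) * g⁻¹ * z := by
            calc g * (n * v) * g⁻¹ * z = g * n * g⁻¹ * (g * v * g⁻¹ * z) := by group
              _ = g * v * g⁻¹ * z * (g * n * g⁻¹) := h3
              _ = g * v * g⁻¹ * (z * (g * n * g⁻¹)) := by group
              _ = g * v * g⁻¹ * (g * n * g⁻¹ * z) := by rw [hzc]
              _ = _ := by group
          exact mul_left_cancel (mul_right_cancel (mul_right_cancel h4))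
      intro n
      constructor
      · intro hn
        obtain ⟨h1, h2⟩ := mem_inf.1 hn
        exact mem_inf.2 ⟨hNn.conj_mem n h1 g, (key n h1).1 h2⟩
      · intro hn
        obtain ⟨h1, h2⟩ := mem_inf.1 hn
        have h3 : n ∈ N := by
          have := hNn.conj_mem _ h1 (g : G)⁻¹
          have e : (g : G)⁻¹ * ((g : G) * n * (g : G)⁻¹) * (g : G)⁻¹⁻¹ = n := by group
          rwa [e] at this
        exact mem_inf.2 ⟨h3, (key n h3).2 h2⟩
  obtain ⟨K, hKset, hKn, hKcomp⟩ := Cfsg.Agent.H25.frobenius_kernel hFC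
  have hKQ : K ⊓ Q = ⊥ := hKcomp.disjoint.eq_bot
  have hQtop : Q ≠ ⊤ := hFC.2.1
  have hKne : K ≠ ⊥ := by
    intro h1
    have h2 := hKcomp.sup_eq_top
    rw [h1, bot_sup_eq] at h2
    exact hQtop h2
  have hKtop : K ≠ ⊤ := by
    intro h2
    rw [h2, top_inf_eq] at hKQ
    exact hFC.1 hKQ
  -- the preimage
  obtain ⟨K0, hK0⟩ : ∃ K0, K0 = (K.comap f).map N.subtype := ⟨_, rfl⟩
  have hmemK : ∀ {n : N}, (n : G) ∈ K0 ↔ f n ∈ K := by
    intro n
    rw [hK0]
    constructor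
    · rintro ⟨m, hm, hmn⟩
      have : m = n := Subtype.ext hmn
      rw [← this]; exact hm
    · intro hn
      exact ⟨n, hn, rfl⟩
  have hK0N : K0 ≤ N := by rw [hK0]; exact map_subtype_le _
  have hK0M : ∀ g ∈ K0, g ∈ M → g ∈ centralizer (N : Set G) := by
    intro g hg hgM
    have hgN := hK0N hg
    have h1 : f ⟨g, hgN⟩ ∈ K ⊓ Q := mem_inf.2 ⟨hmemK.1 hg, hmemQ.2 hgM⟩
    rw [hKQ, mem_bot, hf1] at h1
    exact h1
  have hZK : ∀ g ∈ N, g ∈ centralizer (N : Set G) → g ∈ K0 := by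
    intro g hg hgc
    have h1 : f ⟨g, hg⟩ = 1 := hf1.2 hgc
    exact (hmemK (n := ⟨g, hg⟩)).2 (by rw [h1]; exact one_mem _)
  have hNM : ¬ N ≤ centralizer ({x} : Set G) := not_le_C hxc
  have hK0m : ∀ m ∈ M, ∀ k ∈ K0, m * k * m⁻¹ ∈ K0 := by
    intro m hm k hk
    have hkN := hK0N hk
    by_contra hcon
    have hmkN : m * k * m⁻¹ ∈ N := hNn.conj_mem k hkN m
    have h1 : f ⟨m * k * m⁻¹, hmkN⟩ ∉ Cfsg.frobeniusKernel Q := by
      rw [← hKset]
      intro h2
      exact hcon ((hmemK (n := ⟨m * k * m⁻¹, hmkN⟩)).2 h2)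
    obtain ⟨hne, g', hg'⟩ := H21.frob_not_mem_kernel h1
    obtain ⟨n, rfl⟩ := hfs g'
    rw [← map_inv, ← map_mul, ← map_mul, hmemQ] at hg'
    have hg'2 : (n : G)⁻¹ * (m * k * m⁻¹) * n ∈ M := hg'
    obtain ⟨n', hn'⟩ : ∃ n' : G, n' = m⁻¹ * n * m := ⟨_, rfl⟩
    have hn'N : n' ∈ N := by
      have := hNn.conj_mem n n.2 m⁻¹
      rw [inv_inv] at this
      rw [hn']; exact this
    have h2 : n'⁻¹ * k * n' ∈ M := by
      have h3 := M.mul_mem (M.mul_mem (M.inv_mem hm) hg'2) hm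
      have e : m⁻¹ * ((n : G)⁻¹ * (m * k * m⁻¹) * n) * m = n'⁻¹ * k * n' := by rw [hn']; group
      rwa [e] at h3
    have h3 : n'⁻¹ * k * n' ∈ K0 := by
      have h4 := hKn.conj_mem _ ((hmemK (n := ⟨k, hkN⟩)).1 hk) (f ⟨n', hn'N⟩)⁻¹
      rw [← map_inv, ← map_mul, ← map_inv, ← map_mul, inv_inv] at h4
      exact (hmemK (n := ⟨n', hn'N⟩⁻¹ * ⟨k, hkN⟩ * ⟨n', hn'N⟩)).2 h4
    have h4 := hK0M _ h3 h2
    apply hne
    rw [hf1]
    show m * k * m⁻¹ ∈ centralizer (N : Set G)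
    have h5 := hZn.conj_mem _ h4 (m * n')
    have e : m * n' * (n'⁻¹ * k * n') * (m * n')⁻¹ = m * k * m⁻¹ := by group
    rwa [e] at h5
  have hK0n : K0.Normal := by
    refine ⟨fun k hk g => ?_⟩
    obtain ⟨n, hn, m, hm, rfl⟩ := dec_C h hx hxc hNn hNM g
    rw [← hM] at hm
    have h1 := hK0m m hm k hk
    have h2 := hKn.conj_mem _ ((hmemK (n := ⟨m * k * m⁻¹, hK0N h1⟩)).1 h1) (f ⟨n, hn⟩)
    rw [← map_mul, ← map_inv, ← map_mul] at h2
    have h3 := (hmemK (n := ⟨n, hn⟩ * ⟨m * k * m⁻¹, hK0N h1⟩ * ⟨n, hn⟩⁻¹)).2 h2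
    have h4 : n * (m * k * m⁻¹) * n⁻¹ ∈ K0 := h3
    have e : n * (m * k * m⁻¹) * n⁻¹ = n * m * k * (n * m)⁻¹ := by group
    rwa [e] at h4
  -- centralizers of elements of K0
  have hKC : ∀ k ∈ K0, k ∉ centralizer (N : Set G) → ∀ c ∈ N, c * k = k * c → c ∈ K0 := by
    intro k hk hkc c hc hck
    by_contra hcK
    have hkN := hK0N hk
    have h1 : f ⟨c, hc⟩ ∉ Cfsg.frobeniusKernel Q := by
      rw [← hKset]
      intro h2
      exact hcK ((hmemK (n := ⟨c, hc⟩)).2 h2)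
    obtain ⟨hc1, g, hg⟩ := H21.frob_not_mem_kernel h1
    have h3 : f ⟨k, hkN⟩ * f ⟨c, hc⟩ = f ⟨c, hc⟩ * f ⟨k, hkN⟩ := by
      rw [← map_mul, ← map_mul]
      exact congrArg f (Subtype.ext hck.symm)
    have h2 : (g⁻¹ * f ⟨k, hkN⟩ * g) * (g⁻¹ * f ⟨c, hc⟩ * g) = (g⁻¹ * f ⟨c, hc⟩ * g) * (g⁻¹ * f ⟨k, hkN⟩ * g) := by
      calc (g⁻¹ * f ⟨k, hkN⟩ * g) * (g⁻¹ * f ⟨c, hc⟩ * g) = g⁻¹ * (f ⟨k, hkN⟩ * f ⟨c, hc⟩) * g := by group
        _ = g⁻¹ * (f ⟨c, hc⟩ * f ⟨k, hkN⟩) * g := by rw [h3]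
        _ = _ := by group
    have h4 : g⁻¹ * f ⟨c, hc⟩ * g ≠ 1 := by
      intro h5
      apply hc1
      have : f ⟨c, hc⟩ = g * (g⁻¹ * f ⟨c, hc⟩ * g) * g⁻¹ := by group
      rw [this, h5]; group
    have h5 := H21.frob_commute_mem hFC hg h4 h2
    have h6 : g⁻¹ * f ⟨k, hkN⟩ * g ∈ K ⊓ Q := by
      refine mem_inf.2 ⟨?_, h5⟩
      have := hKn.conj_mem _ ((hmemK (n := ⟨k, hkN⟩)).1 hk) g⁻¹
      rwa [inv_inv] at this
    rw [hKQ, mem_bot] at h6
    apply hkc
    have : f ⟨k, hkN⟩ = g * (g⁻¹ * f ⟨k, hkN⟩ * g) * g⁻¹ := by group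
    rw [h6] at this
    have h7 : f ⟨k, hkN⟩ = 1 := by rw [this]; group
    exact hf1.1 h7
  have hKC' : ∀ k ∈ K0, k ∉ centralizer (N : Set G) → K0 ≤ centralizer ({k} : Set G) := by
    intro k hk hkc
    by_contra hcon
    apply hKtop
    rw [eq_top_iff]
    intro s _
    obtain ⟨n, rfl⟩ := hfs s
    rw [← hmemK]
    obtain ⟨k', hk', c, hc, hkc'⟩ := dec_C h (hK0N hk) hkc hK0n hcon (n : G)
    have hcN : c ∈ N := by
      have := N.mul_mem (N.inv_mem (hK0N hk')) n.2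
      rwa [← hkc', inv_mul_cancel_left] at this
    rw [← hkc']
    exact K0.mul_mem hk' (hKC k hk hkc c hcN (mem_C.1 hc))
  have hK0ab : ∀ a ∈ K0, ∀ b ∈ K0, a * b = b * a := by
    intro a ha b hb
    by_cases hac : a ∈ centralizer (N : Set G)
    · exact (mem_centralizer_iff.1 hac b (hK0N hb)).symm
    · exact (mem_C.1 (hKC' a ha hac hb)).symm
  -- exponent
  obtain ⟨r, hr, hrK⟩ := Nat.exists_prime_and_dvd (fun h1 => hKne (Subgroup.card_eq_one.1 h1) : Nat.card K ≠ 1)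
  haveI : Fact r.Prime := ⟨hr⟩
  obtain ⟨⟨k1', hk1'⟩, hk1r⟩ := exists_prime_orderOf_dvd_card' r hrK
  rw [← Subgroup.orderOf_coe] at hk1r
  have hk1r : orderOf k1' = r := hk1r
  obtain ⟨k1, rfl⟩ := hfs k1'
  have hk1 : (k1 : G) ∈ K0 := hmemK.2 hk1'
  have hk1c : (k1 : G) ∉ centralizer (N : Set G) := by
    intro h1
    rw [hf1.2 h1, orderOf_one] at hk1r
    exact hr.one_lt.ne hk1r
  have hk1p : (k1 : G) ^ r ∈ centralizer (N : Set G) := by
    have : f (k1 ^ r) = 1 := by rw [map_pow, ← hk1r, pow_orderOf_eq_one]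
    exact hf1.1 this
  have hKr : ∀ y ∈ K0, y ^ r ∈ centralizer (N : Set G) := by
    let L : Subgroup G :=
      { carrier := {k | k ∈ K0 ∧ k ^ r ∈ centralizer (N : Set G)}
        mul_mem' := by
          rintro a b ⟨ha, har⟩ ⟨hb, hbr⟩
          refine ⟨K0.mul_mem ha hb, ?_⟩
          rw [(show Commute a b from hK0ab a ha b hb).mul_pow]
          exact mul_mem har hbr
        one_mem' := ⟨one_mem _, by rw [one_pow]; exact one_mem _⟩
        inv_mem' := by
          rintro a ⟨ha, har⟩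
          exact ⟨K0.inv_mem ha, by rw [inv_pow]; exact inv_mem har⟩ }
    have hL : ∀ g, g ∈ L ↔ g ∈ K0 ∧ g ^ r ∈ centralizer (N : Set G) := fun g => Iff.rfl
    have hLn : L.Normal := ⟨fun a ha g => ⟨hK0n.conj_mem a ha.1 g, by rw [conj_pow]; exact hZn.conj_mem _ ha.2 g⟩⟩
    have hLM : ¬ L ≤ centralizer ({x} : Set G) := by
      intro h1
      apply hk1c
      apply hK0M _ hk1
      rw [hM]
      exact h1 ⟨hk1, hk1p⟩
    intro y hy
    obtain ⟨l, hl, m, hm, rfl⟩ := dec_C h hx hxc hLn hLM y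
    have hmK : m ∈ K0 := by
      have := K0.mul_mem (K0.inv_mem hl.1) hy
      rwa [inv_mul_cancel_left] at this
    have hmc : m ∈ centralizer (N : Set G) := hK0M m hmK (by rw [hM]; exact hm)
    rw [(show Commute l m from hK0ab l hl.1 m hmK).mul_pow]
    exact mul_mem hl.2 (pow_mem hmc r)
  -- the complement has prime order
  obtain ⟨q, hq, hqQ⟩ := Nat.exists_prime_and_dvd (fun h1 => hFC.1 (Subgroup.card_eq_one.1 h1) : Nat.card Q ≠ 1)
  haveI : Fact q.Prime := ⟨hq⟩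
  obtain ⟨⟨w', hw'⟩, hwq⟩ := exists_prime_orderOf_dvd_card' q hqQ
  rw [← Subgroup.orderOf_coe] at hwq
  have hwq : orderOf w' = q := hwq
  obtain ⟨w, rfl⟩ := hfs w'
  have hwM : (w : G) ∈ M := hmemQ.1 hw'
  have hwc : (w : G) ∉ centralizer (N : Set G) := by
    intro h1
    rw [hf1.2 h1, orderOf_one] at hwq
    exact hq.one_lt.ne hwq
  have hwK : (w : G) ∉ K0 := fun h1 => hwc (hK0M _ h1 hwM)
  have hCw := hα w w.2 (by exact hwM) hwc
  have hK0notM : ¬ K0 ≤ centralizer ({x} : Set G) := by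
    intro h1
    apply hk1c
    apply hK0M _ hk1
    rw [hM]; exact h1 hk1
  obtain ⟨L, hL⟩ : ∃ L, L = K0 ⊔ zpowers (w : G) := ⟨_, rfl⟩
  have hK0L : K0 ≤ L := by rw [hL]; exact le_sup_left
  have hwL : (w : G) ∈ L := by rw [hL]; exact mem_sup_right (mem_zpowers _)
  have hLdec : ∀ g ∈ L, ∃ k ∈ K0, ∃ z ∈ zpowers (w : G), k * z = g := by
    intro g hg
    rw [hL] at hg
    exact (mem_sup_iff_of_le_normalizer (by haveI := hK0n; rw [normalizer_eq_top]; exact le_top)).1 hg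
  have hLn : L.Normal := by
    rw [← normalizer_eq_top_iff, eq_top_iff, ← sup_C h hx hxc hK0notM]
    refine sup_le (hK0L.trans le_normalizer) (le_normalizer_of_conj_mem ?_)
    intro m hm a ha
    rw [← hM] at hm
    obtain ⟨k, hk, z, hz, rfl⟩ := hLdec a ha
    have hmz : m * z * m⁻¹ = z := by
      have h1 : m * (w : G) = w * m := by
        rw [← mem_C, hCw]; exact hm
      obtain ⟨i, rfl⟩ := mem_zpowers_iff.1 hz
      rw [((show Commute m (w : G) from h1).zpow_right i).eq, mul_inv_cancel_right]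
    have e : m * (k * z) * m⁻¹ = (m * k * m⁻¹) * (m * z * m⁻¹) := by group
    rw [e, hmz]
    refine L.mul_mem (hK0L (hK0m m hm k hk)) ?_
    rw [hL]; exact mem_sup_right hz
  have hLk : ¬ L ≤ centralizer ({(k1 : G)} : Set G) := by
    intro h1
    apply hwK
    exact hKC k1 hk1 hk1c w w.2 (mem_C.1 (h1 hwL))
  have hQz : Q = zpowers (f w) := by
    apply le_antisymm _ (by rwa [zpowers_le])
    intro s hs
    obtain ⟨d, rfl⟩ := hfs s
    have hdM : (d : G) ∈ M := hmemQ.1 hs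
    have hdL : (d : G) ∈ L := by
      obtain ⟨l, hl, c, hc, hlc⟩ := dec_C h (hK0N hk1) hk1c hLn hLk (d : G)
      have hlN : l ∈ N := by
        obtain ⟨k, hk, z, hz, rfl⟩ := hLdec l hl
        obtain ⟨i, rfl⟩ := mem_zpowers_iff.1 hz
        exact N.mul_mem (hK0N hk) (zpow_mem w.2 i)
      have hcN : c ∈ N := by
        have := N.mul_mem (N.inv_mem hlN) d.2
        rwa [← hlc, inv_mul_cancel_left] at this
      rw [← hlc]
      exact L.mul_mem hl (hK0L (hKC k1 hk1 hk1c c hcN (mem_C.1 hc)))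
    obtain ⟨k, hk, z, hz, hkz⟩ := hLdec _ hdL
    obtain ⟨i, rfl⟩ := mem_zpowers_iff.1 hz
    have hkM : k ∈ M := by
      have := M.mul_mem hdM (M.inv_mem (zpow_mem hwM i))
      rwa [← hkz, mul_inv_cancel_right] at this
    have hkc := hK0M k hk hkM
    refine mem_zpowers_iff.2 ⟨i, ?_⟩
    have e : d = ⟨k, hK0N hk⟩ * w ^ i := Subtype.ext (by push_cast; exact hkz.symm)
    rw [e, map_mul, hf1.2 (show ((⟨k, hK0N hk⟩ : N) : G) ∈ centralizer (N : Set G) from hkc), one_mul, map_zpow]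
  have hQq : Nat.card Q = q := by rw [hQz, Nat.card_zpowers, hwq]
  subst hf
  refine ⟨Q, K, r, hr, hFC, ?_, hKn, hKset, ?_, ?_⟩
  · rw [hQq]; exact hq
  · refine ⟨⟨fun a b => Subtype.ext ?_⟩⟩
    obtain ⟨a, ha⟩ := a
    obtain ⟨b, hb⟩ := b
    obtain ⟨a, rfl⟩ := hfs a
    obtain ⟨b, rfl⟩ := hfs b
    show _ * _ = _ * _
    rw [← map_mul, ← map_mul]
    congr 1
    exact Subtype.ext (hK0ab a (hmemK.2 ha) b (hmemK.2 hb))
  · intro a ha
    obtain ⟨a, rfl⟩ := hfs a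
    rw [← map_pow, hf1]
    exact hKr a (hmemK.2 ha)

end

end Cfsg.Agent.H23.MCN
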