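import Cfsg.Agent.H23.MaxClass3

set_option autoImplicit false
set_option linter.all false

/-!
# `2`-groups of maximal class, seat helper23
-/

namespace Cfsg.Agent.H23

open Subgroup
open scoped commutatorElement

section
variable {X : Type*} [Group X] [Finite X]

/-- A `2`-group of order `2 ^ (m + 2)` and class at least `m + 1` is `DQS X m` (`m ≥ 1`). -/
theorem dqs_of_lcs {m : ℕ} (hX : Nat.card X = 2 ^ (m + 2)) (hna : ¬ IsMulCommutative X)
    (hc : (⊤ : Subgroup X).lowerCentralSeries m ≠ ⊥) : DQS X m := by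
  haveI : Fact (Nat.Prime 2) := ⟨Nat.prime_two⟩
  have hG : IsPGroup 2 X := IsPGroup.of_card hX
  have h1 := index_commutator_of_lcs hX hna hc
  have hm : 1 ≤ m := by
    by_contra h
    have : m = 0 := by omega
    subst this
    exact hna (isMulCommutative_of_card_le_sq hG (by rw [hX]))
  have h8 : 8 ≤ Nat.card X := by
    rw [hX]
    calc 8 = 2 ^ 3 := by norm_num
      _ ≤ 2 ^ (m + 2) := Nat.pow_le_pow_right (by norm_num) (by omega)
  obtain ⟨k, hk⟩ := taussky _ X rfl hG h8 (by rw [h1]; norm_num)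
  have h2 := hk.card
  rw [hX] at h2
  have : m + 2 = k + 2 := Nat.pow_right_injective le_rfl h2
  have : m = k := by omega
  subst this
  exact hk

theorem not_comm_of_class {n : ℕ} (hn : 3 ≤ n) (hc : Group.nilpotencyClass X = n - 1) : ¬ IsMulCommutative X := by
  intro h
  letI : CommGroup X := { (inferInstance : Group X) with mul_comm := h.is_comm.comm }
  have := CommGroup.nilpotencyClass_le_one (G := X)
  omega

/-- A `2`-group of order `2 ^ n` and class `n - 1`, `n ≥ 3`. -/
theorem dqs_of_class {n : ℕ} (hn : 3 ≤ n) (hX : Nat.card X = 2 ^ n) (hc : Group.nilpotencyClass X = n - 1) :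
    DQS X (n - 2) := by
  haveI : Fact (Nat.Prime 2) := ⟨Nat.prime_two⟩
  have hG : IsPGroup 2 X := IsPGroup.of_card hX
  haveI := hG.isNilpotent
  obtain ⟨m, rfl⟩ : ∃ m, n = m + 2 := ⟨n - 2, by omega⟩
  have hna := not_comm_of_class hn hc
  have h2 : m + 2 - 2 = m := rfl
  rw [h2]
  apply dqs_of_lcs hX hna
  intro h
  rw [Subgroup.lowerCentralSeries_eq_bot_iff_nilpotencyClass_le] at h
  omega

/-- The centre of a `DQS` group. -/
theorem DQS.center_eq {n : ℕ} (hn : 1 ≤ n) {u x : X} {c : ℤ} (hG : IsPGroup 2 X) (hu : orderOf u = 2 ^ (n + 1))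
    (hi : (zpowers u).index = 2) (hx : x ∉ zpowers u)
    (hact : ∀ y, y ∉ zpowers u → y * u * y⁻¹ = u ^ (2 * (2 * c + 1) + 1)) : center X = zpowers (u ^ 2 ^ n) := by
  haveI : Fact (Nat.Prime 2) := ⟨Nat.prime_two⟩
  haveI hUn : (zpowers u).Normal := normal_of_index_eq_two hi
  apply le_antisymm _ (omega_central hG hu hUn)
  intro g hg
  have hgc := mem_center_iff.mp hg
  by_cases hgU : g ∈ zpowers u
  · exact mem_omega_of_commute hu (hact x hx) hgU (hgc x)
  · exfalso
    have h1 := hact g hgU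
    have h2 : g * u * g⁻¹ = u := by rw [← hgc u]; group
    rw [h2] at h1
    have h3 : u ^ (2 * (2 * c + 1) : ℤ) = 1 := by
      rw [zpow_add, zpow_one] at h1
      exact mul_eq_right.mp h1.symm
    rw [← orderOf_dvd_iff_zpow_eq_one, hu] at h3
    push_cast at h3
    rw [pow_succ'] at h3
    have h4 : (2 : ℤ) ^ n ∣ 2 * c + 1 := Int.dvd_of_mul_dvd_mul_left (by norm_num) h3
    have h5 : (2 : ℤ) ∣ 2 * c + 1 := dvd_trans (dvd_pow_self 2 (by omega)) h4
    omega

end

end Cfsg.Agent.H23
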