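import Mathlib
import Cfsg.Agent.H23.SG2

/-!
Shult-Gross: the special case.
-/

set_option linter.style.haveILetI false
set_option linter.unusedSectionVars false

namespace Cfsg.Agent.H23

open Module Subgroup

variable {K : Type*} [Field K] {Q : Type*} [Group Q] {V : Type*} [AddCommGroup V] [Module K V]
variable [FiniteDimensional K V] [IsAlgClosed K] [Finite Q]

theorem sg_special {p q n : ℕ} [hpf : Fact p.Prime] [hqf : Fact q.Prime] (hpq : p ≠ q) (hp2 : p ≠ 2)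
    (hpK : (p : K) ≠ 0) (hcard : (Nat.card Q : K) ≠ 0) (hQq : IsPGroup q Q)
    (ρ : Q →* Module.End K V) (hinj : Function.Injective ρ)
    (τ : MulAut Q) (hτN : τ ^ p ^ (n + 1) = 1) (X : Module.End K V) (hX : ∀ u, X * ρ u = ρ (τ u) * X)
    (hXN : X ^ p ^ (n + 1) = 1) (hQ : ∀ a b : Q, a * b * a⁻¹ * b⁻¹ ∈ center Q)
    (hC : ∀ u, (τ ^ p ^ n) u = u ↔ u ∈ center Q) (hna : center Q ≠ ⊤)
    (hirr : ∀ U : Subgroup Q, center Q ≤ U → (∀ u ∈ U, τ u ∈ U) → U = center Q ∨ U = ⊤)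
    (hfix : ∀ u, τ u = u → u = 1) (hno : ∀ w, X w = w → w = 0) : False := by
  classical
  have hp := hpf.out
  have hq := hqf.out
  have hN : 0 < p ^ (n + 1) := pow_pos hp.pos _
  obtain ⟨e₀, he₀⟩ := hQq.exists_card_eq
  have hcop : (Nat.card Q).Coprime p := by
    rw [he₀]
    exact Nat.Coprime.pow_left _ ((Nat.coprime_primes hq hp).mpr hpq.symm)
  set y := τ ^ p ^ n with hy
  have hyp : y ^ p = 1 := by rw [hy, ← pow_mul, ← pow_succ, hτN]
  set Z := center Q with hZ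
  have hτZ : ∀ z ∈ Z, τ z ∈ Z := by
    intro z hz
    rw [hZ, mem_center_iff] at hz ⊢
    intro g
    have := hz (τ.symm g)
    have h2 := congrArg τ this
    simpa using h2
  have hτpZ : ∀ (j : ℕ), ∀ z ∈ Z, (τ ^ j) z ∈ Z := mulAut_pow_char τ Z hτZ
  have hτiZ : ∀ (j : ℕ), ∀ z ∈ Z, (τ ^ j)⁻¹ z ∈ Z := by
    intro j z hz
    rw [hZ, mem_center_iff] at hz ⊢
    intro g
    have := hz ((τ ^ j) g)
    have h2 := congrArg ((τ ^ j)⁻¹ : MulAut Q) this
    simpa using h2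
  -- the element z₀
  obtain ⟨a₀, ha₀⟩ : ∃ a, a ∉ Z := by
    by_contra hcon
    push Not at hcon
    exact hna (eq_top_iff.mpr (fun a _ => hcon a))
  obtain ⟨b₀, hb₀⟩ : ∃ b, b * a₀ ≠ a₀ * b := by
    by_contra hcon
    push Not at hcon
    exact ha₀ (mem_center_iff.mpr hcon)
  set z₀ := a₀ * b₀ * a₀⁻¹ * b₀⁻¹ with hz₀
  have hz₀Z : z₀ ∈ Z := hQ a₀ b₀
  have hz₀1 : z₀ ≠ 1 := by
    intro h
    apply hb₀
    rw [hz₀, mul_inv_eq_one, mul_inv_eq_iff_eq_mul] at h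
    exact h.symm
  obtain ⟨w₀, hw₀⟩ : ∃ w, ρ z₀ w ≠ w := by
    by_contra hcon
    push Not at hcon
    apply hz₀1
    apply hinj
    rw [map_one]
    exact LinearMap.ext hcon
  have hρZ : ∀ z ∈ Z, ∀ u w, ρ z (ρ u w) = ρ u (ρ z w) := by
    intro z hz u w
    rw [← Module.End.mul_apply, ← Module.End.mul_apply, ← map_mul, ← map_mul, mem_center_iff.mp hz u]
  obtain ⟨v, μ, _, hv0, hμ, hμz₀⟩ := exists_common_eigenvector_ne hcard (Z : Set Q) ρ (U := ⊤)
    (fun a _ u _ => Submodule.mem_top) (fun a ha b _ u _ => hρZ a ha b u) hz₀Z (w := w₀) Submodule.mem_top hw₀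
  set U := wtSpace ρ Z μ with hU
  have hvU : v ∈ U := mem_wtSpace.mpr hμ
  have hUinv : ∀ u, ∀ w ∈ U, ρ u w ∈ U := by
    intro u w hw
    rw [hU, mem_wtSpace] at hw ⊢
    intro z hz
    rw [hρZ z hz, hw z hz, map_smul]
  -- the period of μ
  have hSy : ∀ z ∈ Z, μ ((τ ^ p ^ n) z) = μ z := by
    intro z hz
    rw [(hC z).mpr hz]
  have hex : ∃ j : ℕ, 0 < j ∧ ∀ z ∈ Z, μ ((τ ^ j) z) = μ z := ⟨p ^ n, pow_pos hp.pos _, hSy⟩
  set P := Nat.find hex with hPdef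
  have hP0 : 0 < P := (Nat.find_spec hex).1
  have hPμ : ∀ z ∈ Z, μ ((τ ^ P) z) = μ z := (Nat.find_spec hex).2
  have hPmin : ∀ j, 0 < j → (∀ z ∈ Z, μ ((τ ^ j) z) = μ z) → P ≤ j := fun j hj0 hj => Nat.find_min' hex ⟨hj0, hj⟩
  have hPq : ∀ q : ℕ, ∀ z ∈ Z, μ ((τ ^ (P * q)) z) = μ z := by
    intro q
    induction q with
    | zero => intro z _; simp
    | succ q ih =>
      intro z hz
      rw [mul_add, mul_one, pow_add, MulAut.mul_apply, ih _ (hτpZ P z hz), hPμ z hz]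
  have hPdvd : P ∣ p ^ n := by
    rw [Nat.dvd_iff_mod_eq_zero]
    by_contra hne
    have h1 := hPmin (p ^ n % P) (Nat.pos_of_ne_zero hne) (by
      intro z hz
      have h2 := hPq (p ^ n / P) ((τ ^ (p ^ n % P)) z) (hτpZ _ z hz)
      rw [← MulAut.mul_apply, ← pow_add, Nat.div_add_mod, hSy z hz] at h2
      exact h2.symm)
    exact absurd (Nat.mod_lt (p ^ n) hP0) (not_lt.mpr h1)
  obtain ⟨k, hk, hPk⟩ := (Nat.dvd_prime_pow hp).mp hPdvd
  set m₁ := n - k with hm₁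
  have hkm : k + (m₁ + 1) = n + 1 := by omega
  have hPN₁ : P * p ^ (m₁ + 1) = p ^ (n + 1) := by rw [hPk, ← pow_add]; congr 1
  have hPm₁ : P * p ^ m₁ = p ^ n := by rw [hPk, ← pow_add]; congr 1; omega
  have hN₁pos : 0 < p ^ (m₁ + 1) := pow_pos hp.pos _
  -- distinct weights
  have hdist : ∀ i j, i < P → j < P → i ≠ j → ∃ a ∈ (Z : Set Q), μ ((τ ^ i)⁻¹ a) ≠ μ ((τ ^ j)⁻¹ a) := by
    have hord : ∀ i j, i < j → j < P → ∃ a ∈ (Z : Set Q), μ ((τ ^ i)⁻¹ a) ≠ μ ((τ ^ j)⁻¹ a) := by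
      intro i j hij hj
      by_contra hcon
      push Not at hcon
      have h1 := hPmin (j - i) (by omega) (by
        intro z hz
        have h2 := hcon ((τ ^ j) z) (hτpZ j z hz)
        have h3 : (τ ^ i)⁻¹ ((τ ^ j) z) = (τ ^ (j - i)) z := by
          rw [← MulAut.mul_apply]
          congr 1
          rw [inv_mul_eq_iff_eq_mul, ← pow_add]
          congr 1; omega
        rw [h3, MulAut.inv_apply_self] at h2
        exact h2)
      omega
    intro i j hi hj hij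
    rcases lt_or_gt_of_ne hij with h | h
    · exact hord i j h hj
    · obtain ⟨a, ha, hne⟩ := hord j i h hi
      exact ⟨a, ha, hne.symm⟩
  set τ₁ := τ ^ P with hτ₁
  set X₁ := X ^ P with hX₁
  have hX₁i : ∀ u, X₁ * ρ u = ρ (τ₁ u) * X₁ := intertwine_pow ρ τ X hX P
  have hX₁N : X₁ ^ p ^ (m₁ + 1) = 1 := by rw [hX₁, ← pow_mul, hPN₁, hXN]
  have hτ₁N : τ₁ ^ p ^ (m₁ + 1) = 1 := by rw [hτ₁, ← pow_mul, hPN₁, hτN]
  have hτ₁y : τ₁ ^ p ^ m₁ = y := by rw [hτ₁, ← pow_mul, hPm₁]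
  have hX₁U : ∀ w ∈ U, X₁ w ∈ U := by
    intro w hw
    rw [hU, mem_wtSpace] at hw ⊢
    intro z hz
    have h1 := congrArg (fun f : Module.End K V => f w) (hX₁i ((τ ^ P)⁻¹ z))
    simp only [Module.End.mul_apply, hτ₁, MulAut.apply_inv_self] at h1
    rw [← h1, hw _ (hτiZ P z hz), map_smul]
    have h2 := hPμ ((τ ^ P)⁻¹ z) (hτiZ P z hz)
    rw [MulAut.apply_inv_self] at h2
    rw [h2]
  have hno₁ : ∀ u ∈ U, X₁ u = u → u = 0 := by
    intro u hu hfu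
    by_contra hu0
    refine orbit_sum_ne_zero (Z : Set Q) ρ X hP0 (fun j b => μ ((τ ^ j)⁻¹ b)) hdist hu0 ?_
      (hno _ (sum_orbit_fixed X hfu))
    intro j _ z hz
    have h1 := congrArg (fun f : Module.End K V => f u) (intertwine_pow ρ τ X hX j ((τ ^ j)⁻¹ z))
    simp only [Module.End.mul_apply, MulAut.apply_inv_self] at h1
    rw [← h1, (mem_wtSpace.mp hu) _ (hτiZ j z hz), map_smul]
  haveI : Nontrivial V := ⟨v, 0, hv0⟩
  -- the radical
  set Y := commOn ρ U hUinv with hY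
  have hZY : Z ≤ Y := by
    intro z hz
    rw [hY, mem_commOn]
    intro t w _
    exact hρZ z hz t w
  have hcomm : ∀ u t : Q, u * t * u⁻¹ * t⁻¹ ∈ Y := fun u t => hZY (hQ u t)
  haveI hYn : Y.Normal := normal_of_comm hcomm
  have hτ₁Y : ∀ a ∈ Y, τ₁ a ∈ Y := by
    intro a ha
    rw [hY, mem_commOn] at ha ⊢
    intro t w hw
    have hX₁c : X₁ ((X₁ ^ (p ^ (m₁ + 1) - 1)) w) = w := by
      rw [← Module.End.mul_apply, ← pow_succ', Nat.sub_add_cancel hN₁pos, hX₁N]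
      rfl
    set w' := (X₁ ^ (p ^ (m₁ + 1) - 1)) w with hw'
    have hw'U : w' ∈ U := pow_mem_of_inv X₁ hX₁U _ w hw
    have hi : ∀ u x, ρ (τ₁ u) (X₁ x) = X₁ (ρ u x) := by
      intro u x
      have := congrArg (fun f : Module.End K V => f x) (hX₁i u)
      simpa using this.symm
    obtain ⟨t', rfl⟩ := τ₁.surjective t
    rw [← hX₁c, hi, hi, hi, hi, ha t' w' hw'U]
  have hYcomm : ∀ a ∈ Y, ∀ b ∈ Y, ∀ u ∈ U, ρ a (ρ b u) = ρ b (ρ a u) := fun a ha b _ u hu => ha b u hu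
  have hstar := star_fpf hcard Y ρ (U := U) (fun a _ u hu => hUinv a u hu) hYcomm τ₁ hτ₁Y X₁ hX₁i hp hτ₁N hX₁N
    hX₁U hno₁
  rw [hτ₁y] at hstar
  have hyY : ∀ v ∈ Y, y v ∈ Y := by
    intro v hv
    rw [← hτ₁y]
    exact mulAut_pow_char τ₁ Y hτ₁Y _ v hv
  have hnρ : ∀ (i : ℕ), ∀ a ∈ Y, ∀ w ∈ U, ρ (nrm y i a) w = ((ρ a) ^ i) w := by
    have h1 : ∀ (i : ℕ), ∀ a ∈ Y, ∀ w ∈ U, ρ ((y ^ i) a) w = ρ a w := by
      intro i
      induction i with
      | zero => intro a _ w _; simp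
      | succ i ih =>
        intro a ha w hw
        rw [pow_succ, MulAut.mul_apply, ih _ (hyY a ha) w hw, hstar a ha w hw]
    intro i
    induction i with
    | zero => intro a _ w _; simp [nrm]
    | succ i ih =>
      intro a ha w hw
      rw [nrm, map_mul, Module.End.mul_apply, h1 i a ha w hw, ih a ha _ (hUinv a w hw), pow_succ,
        Module.End.mul_apply]
  obtain ⟨r, hr⟩ := exists_root_of_coprime Q hcop
  have hYsc : ∀ a ∈ Y, ∀ w ∈ U, ρ a w = (μ (nrm y p a) ^ r) • w := by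
    intro a ha w hw
    have h1 : ∀ w ∈ U, ρ (a ^ p) w = μ (nrm y p a) • w := by
      intro w hw
      rw [map_pow, ← hnρ p a ha w hw]
      exact (mem_wtSpace.mp hw) _ (nrm_mem_center hcop hyp hQ hC a)
    have h2 : ∀ (i : ℕ), ∀ w ∈ U, ρ ((a ^ p) ^ i) w = (μ (nrm y p a) ^ i) • w := by
      intro i
      induction i with
      | zero => intro w _; simp
      | succ i ih =>
        intro w hw
        rw [pow_succ (a ^ p), map_mul, Module.End.mul_apply, h1 w hw, map_smul, ih w hw, smul_smul, pow_succ,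
          mul_comm]
    have h3 := h2 r w hw
    rwa [hr a] at h3
  have hYτ : ∀ a ∈ Y, ∀ w ∈ U, ρ (τ₁ a) w = ρ a w := by
    intro a ha w hw
    rw [hYsc _ (hτ₁Y a ha) w hw, hYsc a ha w hw]
    have h1 : y * τ₁ = τ₁ * y := by rw [hy, hτ₁, ← pow_add, ← pow_add, add_comm]
    rw [nrm_map y τ₁ h1, hPμ _ (nrm_mem_center hcop hyp hQ hC a)]
  -- the irreducible constituent
  have hUne : U ≠ ⊥ := by
    intro h
    rw [h, Submodule.mem_bot] at hvU
    exact hv0 hvU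
  obtain ⟨W, hWU, hWne, hWinv, hWmin⟩ := exists_minimal_invariant
    (fun W => ∀ u, ∀ w ∈ W, ρ u w ∈ W) hUne hUinv
  haveI : Nontrivial W := (Submodule.nontrivial_iff_ne_bot).mpr hWne
  set σ := subrep ρ W hWinv with hσ
  have hσcoe : ∀ u (w : W), ((σ u w : W) : V) = ρ u w := fun u w => rfl
  have hσirr := subrep_irr ρ W hWinv hWmin
  have hσY : ∀ a ∈ Y, ∃ c : K, σ a = c • 1 := by
    intro a ha
    refine ⟨μ (nrm y p a) ^ r, ?_⟩
    ext w
    rw [hσcoe, hYsc a ha w (hWU w.2)]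
    rfl
  have hμ1of : ∀ z ∈ Z, ∀ w ∈ U, w ≠ 0 → ρ z w = w → μ z = 1 := by
    intro z hz w hw hw0 h2
    rw [(mem_wtSpace.mp hw) z hz] at h2
    have h3 : (μ z - 1) • w = 0 := by rw [sub_smul, h2, one_smul, sub_self]
    exact sub_eq_zero.mp ((smul_eq_zero.mp h3).resolve_right hw0)
  have hσU : ∀ z ∈ Z, σ z = 1 → ∀ w ∈ U, ρ z w = w := by
    intro z hz h1 w hw
    obtain ⟨w₁, hw₁⟩ := exists_ne (0 : W)
    have h2 : ρ z (w₁ : V) = w₁ := by
      rw [← hσcoe, h1]; rfl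
    have h4 := hμ1of z hz w₁ (hWU w₁.2) (fun h => hw₁ (Subtype.ext h)) h2
    rw [(mem_wtSpace.mp hw) z hz, h4, one_smul]
  have hcommρ : ∀ u t w, ρ (u * t * u⁻¹ * t⁻¹) (ρ t (ρ u w)) = ρ u (ρ t w) := by
    intro u t w
    rw [← Module.End.mul_apply, ← Module.End.mul_apply, ← Module.End.mul_apply, ← map_mul, ← map_mul, ← map_mul]
    congr 2
    group
  have hnd : ∀ u, u ∉ Y → ∃ t, σ (u * t * u⁻¹ * t⁻¹) ≠ 1 := by
    intro u hu
    by_contra hcon
    push Not at hcon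
    apply hu
    rw [hY, mem_commOn]
    intro t w hw
    rw [← hcommρ u t w]
    exact hσU _ (hQ u t) (hcon t) _ (hUinv t _ (hUinv u w hw))
  have hYfix : ∀ u ∈ Y, ∀ t, ∀ w ∈ U, ρ (u * t * u⁻¹ * t⁻¹) w = w := by
    intro u hu t w hw
    have h2 : w = ρ t (ρ u (ρ u⁻¹ (ρ t⁻¹ w))) := by
      rw [← Module.End.mul_apply, ← Module.End.mul_apply, ← Module.End.mul_apply, ← map_mul, ← map_mul,
        ← map_mul]
      have : t * u * u⁻¹ * t⁻¹ = 1 := by group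
      rw [this, map_one]; rfl
    have h3 := hcommρ u t (ρ u⁻¹ (ρ t⁻¹ w))
    rw [hY, mem_commOn] at hu
    rw [← h2, hu t _ (hUinv _ _ (hUinv _ _ hw)), ← h2] at h3
    exact h3
  have hYmem : ∀ u, u ∈ Y ↔ ∀ t, μ (u * t * u⁻¹ * t⁻¹) = 1 := by
    intro u
    constructor
    · intro hu t
      exact hμ1of _ (hQ u t) v hvU hv0 (hYfix u hu t v hvU)
    · intro h
      rw [hY, mem_commOn]
      intro t w hw
      rw [← hcommρ u t w]
      rw [(mem_wtSpace.mp (hUinv t _ (hUinv u w hw))) _ (hQ u t), h t, one_smul]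
  have hYne : Y ≠ ⊤ := by
    intro h
    have ha₀Y : a₀ ∈ Y := by rw [h]; exact mem_top a₀
    exact hμz₀ ((hYmem a₀).mp ha₀Y b₀)
  have hτσ : ∀ a ∈ Y, σ (τ₁ a) = σ a := by
    intro a ha
    ext w
    rw [hσcoe, hσcoe, hYτ a ha w (hWU w.2)]
  obtain ⟨T, hT, hTN⟩ := exists_operator σ hσirr Y hσY hcomm hnd hcard τ₁ hτσ hN₁pos hτ₁N
  have hfree : ∀ i : ℕ, 0 < i → i < p ^ (m₁ + 1) → ∀ u, (τ₁ ^ i) u * u⁻¹ ∈ Y → u ∈ Y := by
    intro i hi0 hi u hu
    obtain ⟨s, hs⟩ := exists_pow_eq hp hτ₁N hi0 hi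
    rw [hτ₁y] at hs
    have h1 : ∀ s : ℕ, (τ₁ ^ (i * s)) u * u⁻¹ ∈ Y := by
      intro s
      induction s with
      | zero => simp [Y.one_mem]
      | succ s ih =>
        have h2 : (τ₁ ^ (i * (s + 1))) u * u⁻¹ = (τ₁ ^ (i * s)) ((τ₁ ^ i) u * u⁻¹) * ((τ₁ ^ (i * s)) u * u⁻¹) := by
          rw [mul_add, mul_one, pow_add, MulAut.mul_apply, map_mul, map_inv]
          group
        rw [h2]
        exact Y.mul_mem (mulAut_pow_char τ₁ Y hτ₁Y _ _ hu) ih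
    have h2 := h1 s
    rw [hs] at h2
    apply mem_of_quot hcop hyp hQ hC Y hZY hyY
    have h3 := hYn.conj_mem _ h2 u⁻¹
    have h4 : u⁻¹ * (y u * u⁻¹) * u⁻¹⁻¹ = u⁻¹ * y u := by group
    rwa [h4] at h3
  obtain ⟨h, ζ, hhinj, hζ, hhX, hhρ⟩ := exists_semi_embedding σ hσirr ρ τ₁ hN₁pos T hT hTN X₁ hX₁i hX₁N W.subtype (by
    intro h
    apply hWne
    rw [eq_bot_iff]
    intro w hw
    have := congrArg (fun f : W →ₗ[K] V => f ⟨w, hw⟩) h
    rw [Submodule.mem_bot]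
    simpa using this) (fun u w => rfl)
  have hhU : ∀ w, h w ∈ U := by
    intro w
    rw [hU, mem_wtSpace]
    intro z hz
    rw [← hhρ]
    have h1 : σ z w = μ z • w := by
      apply Subtype.ext
      rw [hσcoe, (mem_wtSpace.mp (hWU w.2)) z hz]
      rfl
    rw [h1, map_smul]
  have hT' : ∀ u, (ζ • T) * σ u = σ (τ₁ u) * (ζ • T) := by
    intro u
    rw [smul_mul_assoc, hT, mul_smul_comm]
  have hT'N : (ζ • T) ^ p ^ (m₁ + 1) = 1 := by rw [smul_pow, hζ, one_smul, hTN]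
  have hle := core_commutant σ hσirr Y hσY hcomm hnd hcard τ₁ hτ₁Y hN₁pos hτ₁N hfree hYne (ζ • T) hT' hT'N
  have hidx := index_eq_sq σ hσirr Y hσY hcomm hnd hcard
  have harith := eigen_arith hN₁pos.ne' (by rw [Nat.cast_pow]; exact pow_ne_zero _ hpK) (ζ • T) hT'N hle (by
    left
    intro w hw
    apply hhinj
    rw [map_zero]
    apply hno₁ _ (hhU w)
    rw [hhX, hw])
  have hD0 : 0 < finrank K W := finrank_pos
  have hD1 : finrank K W ≠ 1 := by
    intro h3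
    rw [h3, one_pow] at hidx
    exact hYne (Subgroup.index_eq_one.mp hidx)
  have hdne : finrank K W = p ^ (m₁ + 1) - 1 := by
    rcases harith with h1 | h1
    · omega
    · exact h1
  -- arithmetic
  have h2 : finrank K W ∣ q ^ e₀ := by
    rw [← he₀]
    exact (dvd_pow_self _ two_ne_zero).trans (hidx ▸ Y.index_dvd_card)
  obtain ⟨d, _, hd⟩ := (Nat.dvd_prime_pow hq).mp h2
  have hd1 : 1 ≤ d := by
    rcases Nat.eq_zero_or_pos d with h | h
    · rw [h, pow_zero] at hd; exact absurd hd hD1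
    · exact h
  have hpd : p ^ (m₁ + 1) = q ^ d + 1 := by rw [← hd]; omega
  have hq2 : q = 2 := by
    have h3 : Odd (p ^ (m₁ + 1)) := (hp.odd_of_ne_two hp2).pow
    rw [hpd] at h3
    have h4 : Even (q ^ d) := by
      rcases Nat.even_or_odd (q ^ d) with h | h
      · exact h
      · exfalso
        obtain ⟨a, ha⟩ := h
        obtain ⟨b, hb⟩ := h3
        omega
    exact (Nat.prime_dvd_prime_iff_eq Nat.prime_two hq).mp (Nat.prime_two.dvd_of_dvd_pow h4.two_dvd) |>.symm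
  subst hq2
  have hμ1 : μ 1 = 1 := hμ1of 1 Z.one_mem v hvU hv0 (by rw [map_one]; rfl)
  have hμm : ∀ z ∈ Z, ∀ z' ∈ Z, μ (z * z') = μ z * μ z' := by
    intro z hz z' hz'
    have h3 : ρ (z * z') v = (μ z * μ z') • v := by
      rw [map_mul, Module.End.mul_apply, hμ z' hz', map_smul, hμ z hz, smul_smul, mul_comm]
    rw [hμ _ (Z.mul_mem hz hz')] at h3
    have h4 : (μ (z * z') - μ z * μ z') • v = 0 := by rw [sub_smul, h3, sub_self]
    exact sub_eq_zero.mp ((smul_eq_zero.mp h4).resolve_right hv0)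
  exact exceptional_false he₀ τ hp hp2 hτN hfix hQ hC hna hirr μ hμ1 hμm hkm (by rw [← hPk]; exact hPμ) Y hYne
    hYmem hd1 (by rw [hidx, hd]) hpd

end Cfsg.Agent.H23
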