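import Mathlib
import Cfsg.Agent.H23.SG3
import Cfsg.Agent.H23.HHMain

/-!
Shult-Gross: the action of a `p`-element on a `q`-group of a linear group.
-/

set_option linter.style.haveILetI false
set_option linter.unusedSectionVars false

namespace Cfsg.Agent.H23

open Module Subgroup

variable {K : Type*} [Field K] {G : Type*} [Group G] {V : Type*} [AddCommGroup V] [Module K V]
variable [FiniteDimensional K V] [IsAlgClosed K] [Finite G]

theorem sg_qgroup {p q n : ℕ} [hpf : Fact p.Prime] [hqf : Fact q.Prime] (hpq : p ≠ q) (hp2 : p ≠ 2)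
    (hpK : (p : K) ≠ 0) (hqK : (q : K) ≠ 0)
    (ρ : G →* Module.End K V) (hinj : Function.Injective ρ) {x : G} (hx : x ^ p ^ (n + 1) = 1)
    (Q₀ : Subgroup G) (hQ₀ : IsPGroup q Q₀) (hxQ : x ∈ normalizer (Q₀ : Set G))
    (hfix : ∀ u ∈ Q₀, x * u = u * x → u = 1) (hno : ∀ w, ρ x w = w → w = 0) :
    ∀ u ∈ Q₀, x ^ p ^ n * u = u * x ^ p ^ n := by
  classical
  by_contra hne
  push Not at hne
  have hp := hpf.out
  have hq := hqf.out
  set y := x ^ p ^ n with hy
  have hyp : y ^ p = 1 := by rw [hy, ← pow_mul, ← pow_succ, hx]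
  set B := zpowers x with hB
  set A := zpowers y with hA
  have hAB : A ≤ B := by
    rw [hA, zpowers_le, hy]
    exact B.pow_mem (mem_zpowers x) _
  have hAn : B ≤ normalizer (A : Set G) := by
    rw [hA, hB, hy]
    exact le_normalizer_zpowers_pow x _
  have hAcard : Nat.card A ∣ p := by
    rw [hA, Nat.card_zpowers]
    exact orderOf_dvd_of_pow_eq_one hyp
  have hAcop : (Nat.card A).Coprime q :=
    Nat.Coprime.coprime_dvd_left hAcard ((Nat.coprime_primes hp hq).mpr hpq)
  have hcomA : ∀ U : Subgroup G, ⁅U, A⁆ = ⊥ ↔ ∀ u ∈ U, y * u = u * y := by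
    intro U
    rw [commutator_eq_bot_iff_le_centralizer]
    constructor
    · intro h u hu
      exact (mem_centralizer_iff.mp (h hu) y (mem_zpowers y))
    · intro h u hu
      rw [mem_centralizer_iff]
      rintro _ ⟨i, rfl⟩
      exact (show Commute y u from h u hu).zpow_left i
  -- minimal Q
  obtain ⟨Q, hQmem, hQmin⟩ := WellFounded.has_min (wellFounded_lt (α := Subgroup G))
    {Q | Q ≤ Q₀ ∧ B ≤ normalizer (Q : Set G) ∧ ⁅Q, A⁆ ≠ ⊥} ⟨Q₀, le_rfl, by rw [hB, zpowers_le]; exact hxQ, by
      obtain ⟨u, hu, hne⟩ := hne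
      intro h
      exact hne ((hcomA Q₀).mp h u hu)⟩
  obtain ⟨hQQ₀, hBQ, hQA⟩ := hQmem
  have hmin : ∀ U : Subgroup G, U < Q → B ≤ normalizer (U : Set G) → ⁅U, A⁆ = ⊥ := by
    intro U hU hBU
    by_contra hcon
    exact hQmin U ⟨hU.le.trans hQQ₀, hBU, hcon⟩ hU
  have hQ : IsPGroup q Q := hQ₀.to_le hQQ₀
  obtain ⟨hQAQ, hcase, hΦ, _⟩ := hall_higman_reduction (p := q) B A Q hQ hBQ hAB hAn hAcop hQA hmin
  -- the action on Q
  have hxQ' : x ∈ normalizer (Q : Set G) := hBQ (mem_zpowers x)
  set τ : MulAut Q := Q.normalizerMonoidHom ⟨x, hxQ'⟩ with hτ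
  have hτc : ∀ u : Q, ((τ u : Q) : G) = x * u * x⁻¹ := fun u => rfl
  have hτpow : ∀ (j : ℕ) (u : Q), (((τ ^ j) u : Q) : G) = x ^ j * u * (x ^ j)⁻¹ := by
    intro j
    induction j with
    | zero => intro u; simp
    | succ j ih =>
      intro u
      rw [pow_succ', MulAut.mul_apply, hτc, ih, pow_succ']
      group
  have hτN : τ ^ p ^ (n + 1) = 1 := by
    ext u
    rw [hτpow, hx]
    simp
  have hτy : ∀ u : Q, (τ ^ p ^ n) u = u ↔ y * u = u * y := by
    intro u
    rw [Subtype.ext_iff, hτpow, ← hy, mul_inv_eq_iff_eq_mul]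
  set ρQ : Q →* Module.End K V := ρ.comp Q.subtype with hρQ
  have hρQinj : Function.Injective ρQ := hinj.comp Q.subtype_injective
  have hX : ∀ u : Q, ρ x * ρQ u = ρQ (τ u) * ρ x := by
    intro u
    simp only [hρQ, MonoidHom.comp_apply, Subgroup.coe_subtype]
    rw [← map_mul, ← map_mul, hτc]
    congr 1
    group
  have hXN : ρ x ^ p ^ (n + 1) = 1 := by rw [← map_pow, hx, map_one]
  obtain ⟨e, he⟩ := hQ.exists_card_eq
  have hcop : (Nat.card Q).Coprime p := by
    rw [he]
    exact Nat.Coprime.pow_left _ ((Nat.coprime_primes hq hp).mpr hpq.symm)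
  have hcard : (Nat.card Q : K) ≠ 0 := by
    rw [he, Nat.cast_pow]
    exact pow_ne_zero _ hqK
  -- the abelian case
  have hab : ¬ ∀ a b : Q, a * b = b * a := by
    intro hab
    apply hQA
    rw [hcomA]
    intro u hu
    have h1 := star_fpf hcard (⊤ : Subgroup Q) ρQ (U := ⊤) (fun _ _ _ _ => Submodule.mem_top) (by
      intro a _ b _ w _
      rw [← Module.End.mul_apply, ← Module.End.mul_apply, ← map_mul, ← map_mul, hab]) τ (fun a _ => mem_top _)
      (ρ x) hX hp hτN hXN (fun _ _ => Submodule.mem_top) (fun w _ hw => hno w hw) ⟨u, hu⟩ (mem_top _)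
    have h2 : (τ ^ p ^ n) ⟨u, hu⟩ = ⟨u, hu⟩ := by
      apply hρQinj
      exact LinearMap.ext (fun w => h1 w Submodule.mem_top)
    exact (hτy ⟨u, hu⟩).mp h2
  have hsp : Cfsg.IsSpecial q ↥Q := by
    rcases hcase with h | h
    · exfalso
      apply hab
      intro a b
      exact h.1.is_comm.comm a b
    · exact h
  obtain ⟨_, hfr, hder⟩ := hsp
  have hcomm : ∀ a b : Q, a * b * a⁻¹ * b⁻¹ ∈ center Q := by
    intro a b
    rw [← hder]
    exact commutator_mem_commutator (mem_top a) (mem_top b)
  have hna : center Q ≠ ⊤ := by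
    intro h
    apply hab
    intro a b
    have : b ∈ center Q := by rw [h]; exact mem_top b
    exact mem_center_iff.mp this a
  have hZlt : (center Q).map Q.subtype < Q := by
    refine lt_of_le_of_ne (map_subtype_le _) ?_
    intro h
    apply hna
    rw [eq_top_iff]
    intro u _
    have h1 : (u : G) ∈ (center Q).map Q.subtype := by rw [h]; exact u.2
    obtain ⟨v, hv, hvu⟩ := h1
    have : v = u := Subtype.ext hvu
    rwa [this] at hv
  have hBZ : B ≤ normalizer (((center Q).map Q.subtype : Subgroup G) : Set G) :=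
    hBQ.trans (normalizer_le_normalizer_map _)
  have hC : ∀ u, (τ ^ p ^ n) u = u ↔ u ∈ center Q := by
    intro u
    rw [hτy]
    constructor
    · intro hu
      set U := Q ⊓ centralizer (A : Set G) with hU
      have h1 : (frattini ↥Q).map Q.subtype ≤ U := by
        rw [hfr, hU]
        refine le_inf hZlt.le ?_
        rw [← commutator_eq_bot_iff_le_centralizer]
        exact hmin _ hZlt hBZ
      have h2 : B ≤ normalizer (U : Set G) := by
        apply le_normalizer_of_conj_mem
        intro a ha g hg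
        rw [hU, mem_inf] at hg ⊢
        refine ⟨(mem_normalizer_iff.mp (hBQ ha) g).mp hg.1, ?_⟩
        rw [mem_centralizer_iff]
        intro b hb
        have h3 : a⁻¹ * b * a ∈ A := by
          have := (mem_normalizer_iff.mp (hAn (B.inv_mem ha)) b).mp hb
          rwa [inv_inv] at this
        have h4 := mem_centralizer_iff.mp hg.2 _ h3
        calc b * (a * g * a⁻¹) = a * ((a⁻¹ * b * a) * g) * a⁻¹ := by group
          _ = a * (g * (a⁻¹ * b * a)) * a⁻¹ := by rw [h4]
          _ = _ := by group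
      rcases hΦ U h1 inf_le_left h2 with h3 | h3
      · have h4 : (u : G) ∈ U := by
          rw [hU, mem_inf]
          refine ⟨u.2, ?_⟩
          rw [mem_centralizer_iff]
          rintro _ ⟨i, rfl⟩
          exact (show Commute y u from hu).zpow_left i
        rw [h3, hfr] at h4
        obtain ⟨v, hv, hvu⟩ := h4
        have : v = u := Subtype.ext hvu
        rwa [this] at hv
      · exfalso
        apply hQA
        rw [commutator_eq_bot_iff_le_centralizer]
        intro g hg
        rw [← h3] at hg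
        exact hg.2
    · intro hu
      exact (hcomA _).mp (hmin _ hZlt hBZ) u (mem_map_of_mem Q.subtype hu)
  refine sg_special hpq hp2 hpK hcard hQ ρQ hρQinj τ hτN (ρ x) hX hXN hcomm hC hna ?_ ?_ hno
  · intro U hZU hτU
    have h1 : (frattini ↥Q).map Q.subtype ≤ U.map Q.subtype := by
      rw [hfr]; exact map_mono hZU
    have hτUp : ∀ (i : ℕ), ∀ u ∈ U, (τ ^ i) u ∈ U := mulAut_pow_char τ U hτU
    have h2 : B ≤ normalizer ((U.map Q.subtype : Subgroup G) : Set G) := by
      apply le_normalizer_of_conj_mem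
      rintro a ha _ ⟨g, hg, rfl⟩
      rw [hB] at ha
      haveI : Finite (zpowers x) := inferInstance
      obtain ⟨i, rfl⟩ := mem_powers_iff_mem_zpowers.mpr ha
      refine ⟨(τ ^ i) g, hτUp i g hg, ?_⟩
      exact hτpow i g
    rcases hΦ _ h1 (map_subtype_le _) h2 with h3 | h3
    · left
      rw [hfr] at h3
      exact Subgroup.map_injective Q.subtype_injective h3
    · right
      apply Subgroup.map_injective Q.subtype_injective
      rw [h3, ← MonoidHom.range_eq_map, range_subtype]
  · intro u hu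
    have h1 : x * (u : G) = u * x := by
      have h2 := congrArg Subtype.val hu
      rw [hτc] at h2
      exact mul_inv_eq_iff_eq_mul.mp h2
    exact Subtype.ext (hfix u (hQQ₀ u.2) h1)

end Cfsg.Agent.H23
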