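import Cfsg.Agent.H23.Subnormal2

set_option autoImplicit false
set_option linter.all false

/-!
# Wielandt's zipper lemma, seat helper23
-/

namespace Cfsg.Agent.H23

open Subgroup
open scoped Pointwise

theorem isSubnormal_subgroupOf_smul {G : Type*} [Group G] {A K : Subgroup G} (x : G)
    (h : (A.subgroupOf K).IsSubnormal) :
    ((MulAut.conj x • A).subgroupOf (MulAut.conj x • K)).IsSubnormal := by
  have h1 : (A.subgroupOf K).map (equivSMul (MulAut.conj x) K).toMonoidHom =
      (MulAut.conj x • A).subgroupOf (MulAut.conj x • K) := by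
    ext y
    rw [mem_subgroupOf]
    constructor
    · rintro ⟨a, ha, rfl⟩
      exact Subgroup.smul_mem_pointwise_smul (a : G) (MulAut.conj x) A (mem_subgroupOf.mp ha)
    · intro hy
      obtain ⟨a, ha, hay⟩ := hy
      obtain ⟨k, hk⟩ := (equivSMul (MulAut.conj x) K).surjective y
      refine ⟨k, ?_, hk⟩
      rw [SetLike.mem_coe, mem_subgroupOf]
      have h2 : MulAut.conj x • (k : G) = y := by rw [← hk]; rfl
      have h3 : MulAut.conj x • a = MulAut.conj x • (k : G) := by rw [h2]; exact hay
      have h4 : a = (k : G) := MulAction.injective _ h3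
      rw [← h4]; exact ha
  rw [← h1]
  exact h.map (equivSMul (MulAut.conj x) K).surjective

/-- A non-normal subnormal subgroup is normalized by a conjugate different from itself. -/
theorem exists_conj_le_normalizer {G : Type*} [Group G] {A : Subgroup G} (hA : A.IsSubnormal) (hn : ¬ A.Normal) :
    ∃ x : G, MulAut.conj x • A ≠ A ∧ MulAut.conj x • A ≤ normalizer (A : Set G) := by
  have key : ∀ S : Subgroup G, S.IsSubnormal → A ≤ S → S ≤ normalizer (A : Set G) →
      ∃ x : G, MulAut.conj x • A ≠ A ∧ MulAut.conj x • A ≤ normalizer (A : Set G) := by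
    intro S hS
    induction hS with
    | top =>
      intro _ h
      exact absurd (normalizer_eq_top_iff.mp (top_le_iff.mp h)) hn
    | step H K hHK hK hN ih =>
      intro hAH hHN
      by_cases hKN : K ≤ normalizer (A : Set G)
      · exact ih (hAH.trans hHK) hKN
      · obtain ⟨x, hxK, hx⟩ := Set.not_subset.mp hKN
        refine ⟨x, fun h => hx (H1.mem_normalizer_iff_conj_smul.mpr h), ?_⟩
        refine le_trans ?_ hHN
        have h1 : K ≤ normalizer (H : Set G) := (normal_subgroupOf_iff_le_normalizer hHK).mp hN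
        have h2 := H1.mem_normalizer_iff_conj_smul.mp (h1 hxK)
        rw [← h2]
        exact H1.conj_smul_le_conj_smul_iff.mpr hAH
  exact key A hA le_rfl le_normalizer

/-- **Wielandt's zipper lemma**. -/
theorem zipper_aux {G : Type*} [Group G] [Finite G] (n : ℕ) : ∀ A : Subgroup G, Nat.card G - Nat.card A = n →
    (∀ H : Subgroup G, A ≤ H → H ≠ ⊤ → (A.subgroupOf H).IsSubnormal) → ¬ A.IsSubnormal →
    ∃ M : Subgroup G, IsCoatom M ∧ normalizer (A : Set G) ≤ M ∧ ∀ K : Subgroup G, IsCoatom K → A ≤ K → K = M := by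
  induction n using Nat.strong_induction_on with
  | _ n ih =>
  intro A hn h hA
  have hN : normalizer (A : Set G) ≠ ⊤ := fun h => hA (normalizer_eq_top_iff.mp h).isSubnormal
  obtain ⟨M, hM, hNM⟩ := (eq_top_or_exists_le_coatom _).resolve_left hN
  refine ⟨M, hM, hNM, ?_⟩
  intro K hK hAK
  by_cases hAKn : (A.subgroupOf K).Normal
  · have h1 : K ≤ normalizer (A : Set G) := (normal_subgroupOf_iff_le_normalizer hAK).mp hAKn
    exact (eq_of_le_of_not_lt (h1.trans hNM) (fun hlt => hM.1 (hK.2 M hlt)))
  · obtain ⟨x, hx1, hx2⟩ := exists_conj_le_normalizer (h K hAK hK.1) hAKn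
    -- transfer to `G`
    have hxA : MulAut.conj (x : G) • A ≠ A := by
      intro heq
      apply hx1
      ext y
      rw [H1.mem_conj_smul, mem_subgroupOf, mem_subgroupOf]
      have h3 : (y : G) ∈ MulAut.conj (x : G) • A ↔ (y : G) ∈ A := by rw [heq]
      rw [H1.mem_conj_smul] at h3
      exact h3
    have hxK : MulAut.conj (x : G) • A ≤ K := by
      intro y hy
      rw [H1.mem_conj_smul] at hy
      have h3 : (x : G) * ((x : G)⁻¹ * y * x) * (x : G)⁻¹ ∈ K := mul_mem (mul_mem x.2 (hAK hy)) (inv_mem x.2)
      have h4 : (x : G) * ((x : G)⁻¹ * y * x) * (x : G)⁻¹ = y := by group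
      rwa [h4] at h3
    have hxN : MulAut.conj (x : G) • A ≤ normalizer (A : Set G) := by
      intro y hy
      have hyK := hxK hy
      have h3 : (⟨y, hyK⟩ : K) ∈ MulAut.conj x • (A.subgroupOf K) := by
        rw [H1.mem_conj_smul, mem_subgroupOf]
        rw [H1.mem_conj_smul] at hy
        exact hy
      have h4 := hx2 h3
      rw [mem_normalizer_iff] at h4 ⊢
      intro a
      constructor
      · intro ha
        have := (h4 ⟨a, hAK ha⟩).mp ha
        exact this
      · intro ha
        have haK : a ∈ K := by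
          have h5 := hAK ha
          have h6 : y⁻¹ * (y * a * y⁻¹) * y ∈ K := mul_mem (mul_mem (inv_mem hyK) h5) hyK
          have h7 : y⁻¹ * (y * a * y⁻¹) * y = a := by group
          rwa [h7] at h6
        exact (h4 ⟨a, haK⟩).mpr ha
    set B := A ⊔ MulAut.conj (x : G) • A with hB
    have hAB : A < B := by
      refine lt_of_le_of_ne le_sup_left ?_
      intro heq
      apply hxA
      have h3 : MulAut.conj (x : G) • A ≤ A := by
        have h4 : MulAut.conj (x : G) • A ≤ B := le_sup_right
        exact h4.trans heq.ge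
      exact eq_of_le_of_card_ge h3 (by rw [H1.card_conj_smul])
    have hBN : B ≤ normalizer (A : Set G) := sup_le le_normalizer hxN
    have hBK : B ≤ K := sup_le hAK hxK
    have hlt : Nat.card G - Nat.card B < n := by
      have h3 := H1.card_lt_of_lt' hAB
      have h4 := card_le_card_group B
      omega
    obtain ⟨M', hM', hBM', huniq⟩ := ih _ hlt B rfl (by
      intro H hBH hH
      have h3 := h H (hAB.le.trans hBH) hH
      have h4 : ((MulAut.conj (x : G) • A).subgroupOf H).IsSubnormal := by
        have h5 : A ≤ MulAut.conj (x : G)⁻¹ • H := by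
          rw [Subgroup.subset_pointwise_smul_iff, map_inv, inv_inv]
          exact le_sup_right.trans hBH
        have h6 : MulAut.conj (x : G)⁻¹ • H ≠ ⊤ := by
          intro h7
          apply hH
          have h8 := congrArg (fun S => MulAut.conj (x : G) • S) h7
          simp only [map_inv, smul_inv_smul] at h8
          rw [h8]
          exact H1.conj_smul_normal (N := (⊤ : Subgroup G)) (x : G)
        have h7 := isSubnormal_subgroupOf_smul (x : G) (h _ h5 h6)
        rwa [map_inv, smul_inv_smul] at h7
      have h5 := isSubnormal_sup h3 h4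
      rwa [← subgroupOf_sup (hAB.le.trans hBH) (le_sup_right.trans hBH)] at h5)
      (fun hBs => hA (IsSubnormal.of_le_normalizer hBs hAB.le hBN))
    rw [huniq K hK hBK, ← huniq M hM (hBN.trans hNM)]

theorem zipper {G : Type*} [Group G] [Finite G] (A : Subgroup G)
    (h : ∀ H : Subgroup G, A ≤ H → H ≠ ⊤ → (A.subgroupOf H).IsSubnormal) (hA : ¬ A.IsSubnormal) :
    ∃ M : Subgroup G, IsCoatom M ∧ normalizer (A : Set G) ≤ M ∧ ∀ K : Subgroup G, IsCoatom K → A ≤ K → K = M :=
  zipper_aux _ A rfl h hA

end Cfsg.Agent.H23
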